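import Cfsg.Agent.H217.S8.Co2R_m3
import Cfsg.Agent.H50.S8.FrobOf_m3
import Cfsg.Agent.H771.KTools_m3
import Cfsg.Agent.H456.LD.RowHN_m3
import Cfsg.Agent.H175.Ore.HNDeg_m3
import Cfsg.Agent.H435.S8.MTwelve_m3
import Cfsg.Agent.H417.DegMEleven
import Cfsg.Agent.H347.HX.Eng
import Cfsg.Agent.H24.M12.Pow
import Cfsg.Agent.S0421
import Cfsg.Agent.CpAutTThree.MTwelve
import Mathlib.GroupTheory.CommutingProbability
import Cfsg.Agent.H36.M12.Odd
import Cfsg.Agent.H48.M12Three
import Mathlib
import Cfsg.Agent.H704.S8.Defs_m3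
import Cfsg.Agent.FastGrp
import Cfsg.Agent.Prune
set_option linter.all false

section
prune_inst 0x7ffdfcfdfba88ddfffff7e3ffff8dffc30c48fffe6dff94bffe0ebdfabff23062be5fba70de058fe1ef6e2bc90b87813fb7eeeffe86fdc7ffffd5ff45ffbee1fe5ffbd0c71d6bc341ffe6ffff3f0778e7f3fffffffffffffffffffffffffffbeffffffffffff

-- part: H217/S8/Co2M
section
prune_inst 0x203020450322000000040000520000b1150001920040000030020540090610408000880048200c10100000800004004811100030020000000a00000000040120002a100010340c00000000803087180c00000000000000000000000000041000000000000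
set_option linter.all false
open scoped Cfsg.Agent.FastGrp

/-!
# The row `Chief` of `Co2` for S4908 (helper217)

`k(Co2) ≤ 60`, and `|A : C_A(z)| ≥ 61` for all `z ≠ 1` in `Co2` and all fixed point free actions on elementary abelian
groups `A`: if `A` is not a 3-group, the extraspecial group `3 ^ (1 + 4)` gives `|A : C_A(3A)| ≥ 4 ^ 9`; if `A` is a
3-group, `2 ^ (1 + 8)` gives `|A : C_A(2A)| ≥ 3 ^ 16`; all elements of prime order have products of at most three
conjugates with powers in these classes.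
-/

set_option autoImplicit false
set_option linter.unusedSectionVars false

namespace Cfsg.Agent.H217.S8.Co2M

open Cfsg Cfsg.Agent.H633.Ore Cfsg.Agent.H633.Ore.Co2 Cfsg.Agent.H217.S8.Co2K Cfsg.Agent.H217.S8.Co2R
  Cfsg.Agent.H320.SD
open Cfsg.Agent.H843.IMC.Co2B (Y)

universe u v

section Gen

variable {X : Type v} [Group X] {A : Type u} [AddCommGroup A] [DistribMulAction X A]

theorem inv_inf {N : AddSubgroup A} {g w : X} (hN : ∀ x ∈ N, g • x ∈ N) (h : g * w = w * g) :
    ∀ x ∈ N ⊓ fx A w, g • x ∈ N ⊓ fx A w := by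
  rintro x ⟨h1, h2⟩
  refine ⟨hN x h1, ?_⟩
  show w • g • x = g • x
  rw [← mul_smul, ← h, mul_smul, mem_fx.1 h2]

theorem kill {m r : ℕ} (h : Nat.Coprime m r) {x : A} (h1 : m • x = 0) (h2 : r • x = 0) : x = 0 := by
  have h3 := addOrderOf_dvd_of_nsmul_eq_zero h1
  have h4 := addOrderOf_dvd_of_nsmul_eq_zero h2
  have h5 := Nat.dvd_gcd h3 h4
  rw [h] at h5
  exact AddMonoid.addOrderOf_eq_one_iff.1 (Nat.dvd_one.1 h5)

variable [Finite A]

theorem cm_ne (hs : IsSimpleGroup X) (hfix : ∀ x : A, (∀ g : X, g • x = x) → x = 0) (hnt : Nontrivial A) {z : X}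
    (hz : z ≠ 1) : cm A z ≠ ⊥ := by
  intro h
  have h1 : ∀ x : A, z • x = x := by
    intro x
    have h2 : x - z • x ∈ cm A z := mem_cm.2 ⟨x, rfl⟩
    rw [h, AddSubgroup.mem_bot, sub_eq_zero] at h2
    exact h2.symm
  have h3 : z ∈ (MulAction.toPermHom X A).ker := by
    rw [MonoidHom.mem_ker]
    exact Equiv.ext h1
  rcases hs.eq_bot_or_eq_top_of_normal (MulAction.toPermHom X A).ker inferInstance with h4 | h4
  · rw [h4] at h3
    exact hz (Subgroup.mem_bot.1 h3)
  · have h5 : ∀ (g : X) (x : A), g • x = x := by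
      intro g x
      have h6 : g ∈ (MulAction.toPermHom X A).ker := by rw [h4]; trivial
      rw [MonoidHom.mem_ker] at h6
      exact congrFun (congrArg DFunLike.coe h6) x
    obtain ⟨x, hx⟩ := exists_ne (0 : A)
    exact hx (hfix x fun g => h5 g x)

theorem index_pow (g : X) (n : ℕ) : (fx A (g ^ n)).index ≤ (fx A g).index := by
  apply AddSubgroup.index_antitone
  intro x hx
  rw [mem_fx] at hx ⊢
  induction n with
  | zero => rw [pow_zero, one_smul]
  | succ n ih => rw [pow_succ, mul_smul, hx, ih]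

theorem index_pos (g : X) : 1 ≤ (fx A g).index := Nat.pos_of_ne_zero AddSubgroup.FiniteIndex.index_ne_zero

theorem three_le (N : AddSubgroup A) (h2 : ∀ x ∈ N, x + x = 0 → x = 0) (hN : N ≠ ⊥) : 3 ≤ Nat.card N := by
  classical
  obtain ⟨a, ha⟩ := AddSubgroup.ne_bot_iff_exists_ne_zero.1 hN
  have h1 : a ≠ -a := by
    intro h
    apply ha
    apply Subtype.ext
    apply h2 a a.2
    have h3 : (a : A) = -(a : A) := congrArg Subtype.val h
    rw [← sub_eq_zero, sub_neg_eq_add] at h3
    exact h3
  have h0 : -a ≠ 0 := neg_ne_zero.2 ha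
  have : Fintype N := Fintype.ofFinite N
  rw [Nat.card_eq_fintype_card]
  have hS : ({0, a, -a} : Finset N).card = 3 := by
    rw [Finset.card_insert_of_notMem, Finset.card_insert_of_notMem, Finset.card_singleton]
    · rw [Finset.mem_singleton]
      exact h1
    · rw [Finset.mem_insert, Finset.mem_singleton]
      rintro (h | h)
      · exact ha h.symm
      · exact h0 h.symm
  rw [← hS]
  exact Finset.card_le_univ _

theorem big {m : ℕ} (h : 216001 ≤ m ^ 3) : 61 ≤ m := by
  by_contra h1
  have h2 : m ≤ 60 := by omega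
  have h3 : m ^ 3 ≤ 60 ^ 3 := Nat.pow_le_pow_left h2 3
  omega

end Gen

section Main

variable {A : Type u} [AddCommGroup A] [DistribMulAction Spor.Co2 A] [Finite A]

theorem idx_rep (g : Spor.Co2) : ∃ d ∈ data2, ff g = d.2.k ∧ (fx A g).index = (fx A (wd d.2.w)).index ∧
    (d.2.w = [] → g = 1) := by
  obtain ⟨d, hd, hg⟩ := cover2 g
  refine ⟨d, hd, ?_⟩
  rcases sub_UU hg with hg | hg
  · obtain ⟨c, rfl⟩ := isConj_iff.1 hg
    refine ⟨by rw [ff_conj]; exact (data2_good d hd).1, index_conj _ _, fun h => ?_⟩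
    rw [h, wd_nil, mul_one, mul_inv_cancel]
  · obtain ⟨c, rfl⟩ := isConj_iff.1 hg
    refine ⟨by rw [ff_conj, ff_inv]; exact (data2_good d hd).1, by rw [index_conj, index_inv], fun h => ?_⟩
    rw [h, wd_nil, inv_one, mul_one, mul_inv_cancel]

theorem idx_of_ff {g g' : Spor.Co2} (h : ff g = ff g') : (fx A g).index = (fx A g').index := by
  obtain ⟨d, hd, h1, h2, -⟩ := idx_rep (A := A) g
  obtain ⟨d', hd', h3, h4, -⟩ := idx_rep (A := A) g'
  have h5 : d.2.k = d'.2.k := by rw [← h1, ← h3, h]
  have h6 : d = d' := List.inj_on_of_nodup_map data2_nodup hd hd' h5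
  rw [h2, h4, h6]

theorem idx_cj (t : List ℕ) {z z' : List ℕ} (h : (fx A (wd z')).index = (fx A (wd z)).index) :
    (fx A (wd (cj t z'))).index = (fx A (wd z)).index := by
  rw [wd_cj, index_conj, h]

theorem idx_rev (z : List ℕ) : (fx A (wd z.reverse)).index = (fx A (wd z)).index := by
  rw [wd_reverse, index_inv]

theorem bnd2 {z t z' : List ℕ} {e a b c d f : ℕ} (hc : FK (rp (z ++ cj t z') e) a b c d f)
    (h' : (fx A (wd z')).index = (fx A (wd z)).index) {y : Spor.Co2} (hy : ff y = (a, b, c, d, f)) :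
    (fx A y).index ≤ (fx A (wd z)).index ^ 3 := by
  have h2 : (fx A y).index = (fx A (wd (rp (z ++ cj t z') e))).index := idx_of_ff (hy.trans hc.out.symm)
  rw [h2, wd_rp, wd_append]
  refine (index_pow _ _).trans ((index_mul _ _).trans ?_)
  rw [idx_cj _ h']
  calc (fx A (wd z)).index * (fx A (wd z)).index = (fx A (wd z)).index ^ 2 := (sq _).symm
    _ ≤ (fx A (wd z)).index ^ 3 := Nat.pow_le_pow_right (index_pos _) (by norm_num)

theorem bnd3 {z t z' t2 z2 : List ℕ} {e a b c d f : ℕ}
    (hc : FK (rp (z ++ (cj t z' ++ cj t2 z2)) e) a b c d f)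
    (h' : (fx A (wd z')).index = (fx A (wd z)).index) (h2' : (fx A (wd z2)).index = (fx A (wd z)).index)
    {y : Spor.Co2} (hy : ff y = (a, b, c, d, f)) : (fx A y).index ≤ (fx A (wd z)).index ^ 3 := by
  have h2 : (fx A y).index = (fx A (wd (rp (z ++ (cj t z' ++ cj t2 z2)) e))).index := idx_of_ff (hy.trans hc.out.symm)
  rw [h2, wd_rp, wd_append, wd_append]
  refine (index_pow _ _).trans ((index_mul _ _).trans ?_)
  calc (fx A (wd z)).index * (fx A (wd (cj t z') * wd (cj t2 z2))).index
      ≤ (fx A (wd z)).index * ((fx A (wd (cj t z'))).index * (fx A (wd (cj t2 z2))).index) :=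
        Nat.mul_le_mul_left _ (index_mul _ _)
    _ = (fx A (wd z)).index ^ 3 := by rw [idx_cj _ h', idx_cj _ h2']; ring

/-- the words of prime order -/
def PW : List (List ℕ) := [C0.w1, C0.w2, C0.w3, C0.w4, C0.w5, C2.w13, C2.w14, C4.w21, C6.w32, C9.w50]

theorem self_le {m : ℕ} (h : 1 ≤ m) : m ≤ m ^ 3 := by
  calc m = m ^ 1 := (pow_one m).symm
    _ ≤ m ^ 3 := Nat.pow_le_pow_right h (by norm_num)

theorem all4 {w : List ℕ} (hw : w ∈ PW) : (fx A (wd C0.w4)).index ≤ (fx A (wd w)).index ^ 3 := by
  have hk := chkF_sound f4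
  unfold PW at hw
  simp only [List.mem_cons, List.not_mem_nil, or_false] at hw
  rcases hw with rfl | rfl | rfl | rfl | rfl | rfl | rfl | rfl | rfl | rfl
  · exact bnd3 p1_4 (idx_rev _) rfl hk
  · exact bnd2 p2_4 rfl hk
  · exact bnd3 p3_4 (idx_rev _) rfl hk
  · exact self_le (index_pos _)
  · exact bnd2 p5_4 rfl hk
  · exact bnd2 p13_4 (idx_rev _) hk
  · exact bnd2 p14_4 (idx_rev _) hk
  · exact bnd2 p21_4 rfl hk
  · exact bnd2 p32_4 rfl hk
  · exact bnd2 p50_4 rfl hk

theorem all1 {w : List ℕ} (hw : w ∈ PW) : (fx A (wd C0.w1)).index ≤ (fx A (wd w)).index ^ 3 := by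
  have hk := chkF_sound f1
  unfold PW at hw
  simp only [List.mem_cons, List.not_mem_nil, or_false] at hw
  rcases hw with rfl | rfl | rfl | rfl | rfl | rfl | rfl | rfl | rfl | rfl
  · exact self_le (index_pos _)
  · exact bnd2 p2_1 rfl hk
  · exact bnd3 p3_1 (idx_rev _) (idx_rev _) hk
  · exact bnd2 p4_1 rfl hk
  · exact bnd2 p5_1 rfl hk
  · exact bnd2 p13_1 rfl hk
  · exact bnd2 p14_1 rfl hk
  · exact bnd2 p21_1 (idx_rev _) hk
  · exact bnd2 p32_1 rfl hk
  · exact bnd2 p50_1 rfl hk

/-! ### the two extraspecial groups -/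

theorem ne_of_ff {g : Spor.Co2} {a b c d e : ℕ} (h : ff g = (a, b, c, d, e)) (hb : b ≠ 2300) : g ≠ 1 := by
  rintro rfl
  have h1 := ge_one.1
  rw [show wd [] = 1 from rfl, h] at h1
  simp only [Prod.mk.injEq] at h1
  exact hb h1.2.1

theorem base4 (hfix : ∀ x : A, (∀ g : Spor.Co2, g • x = x) → x = 0) (hnt : Nontrivial A)
    (h3 : ∀ x : A, x + x + x = 0 → x = 0) : 4 ^ 9 ≤ (fx A (wd C0.w4)).index := by
  have hs : IsSimpleGroup Spor.Co2 := Cfsg.Agent.Schreier.CoTwoStab.isSimpleGroup
  have z3 := a_z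
  have hne : wd C0.w4 ≠ 1 := ne_of_ff (chkF_sound f4) (by norm_num)
  have hN := cm_ne (A := A) hs hfix hnt hne
  have hz : ∀ x ∈ cm A (wd C0.w4), x + wd C0.w4 • x + wd C0.w4 • wd C0.w4 • x = 0 := fun x hx => cm3 z3 hx
  obtain ⟨n1, c1⟩ := step3 (u := wd au0) (v := wd av0) (cm A (wd C0.w4)) hz (fun x _ => h3 x)
    (fun x hx => smul_cm a_uz0 hx) (fun x hx => smul_cm a_vz0 hx) a_o0 z3 a_uz0
    a_vz0 a_vu0 hN
  obtain ⟨n2, c2⟩ := step3 (u := wd au1) (v := wd av1) (cm A (wd C0.w4) ⊓ fx A (wd au0)) (fun x hx => hz x hx.1) (fun x _ => h3 x)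
    (inv_inf (fun x hx => smul_cm a_uz1 hx) a_uu10)
    (inv_inf (fun x hx => smul_cm a_vz1 hx) a_vu10) a_o1 z3 a_uz1
    a_vz1 a_vu1 n1
  have h4 := four_le (z := wd C0.w4) (cm A (wd C0.w4) ⊓ fx A (wd au0) ⊓ fx A (wd au1)) (fun x hx => hz x hx.1.1) (fun x _ => h3 x)
    (inv_inf (inv_inf (fun x hx => smul_cm rfl hx) a_uz0.symm) a_uz1.symm) z3 n2
  rw [index_fx]
  calc 4 ^ 9 = (4 ^ 3) ^ 3 := by norm_num
    _ ≤ (_ ^ 3) ^ 3 := Nat.pow_le_pow_left (Nat.pow_le_pow_left h4 3) 3
    _ ≤ _ ^ 3 := Nat.pow_le_pow_left c2 3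
    _ ≤ _ := c1

theorem base1 (hfix : ∀ x : A, (∀ g : Spor.Co2, g • x = x) → x = 0) (hnt : Nontrivial A)
    (h2 : ∀ x : A, x + x = 0 → x = 0) : 3 ^ 16 ≤ (fx A (wd C0.w1)).index := by
  have hs : IsSimpleGroup Spor.Co2 := Cfsg.Agent.Schreier.CoTwoStab.isSimpleGroup
  have z2 := b_z
  have hne : wd C0.w1 ≠ 1 := ne_of_ff (chkF_sound f1) (by norm_num)
  have hN := cm_ne (A := A) hs hfix hnt hne
  have hz : ∀ x ∈ cm A (wd C0.w1), x + wd C0.w1 • x = 0 := fun x hx => cm2 z2 hx
  obtain ⟨n1, c1⟩ := step2 (u := wd bu0) (v := wd bv0) (cm A (wd C0.w1)) hz (fun x _ => h2 x)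
    (fun x hx => smul_cm b_uz0 hx) (fun x hx => smul_cm b_vz0 hx) b_o0 b_uz0
    b_vz0 b_vu0 z2 hN
  obtain ⟨n2, c2⟩ := step2 (u := wd bu1) (v := wd bv1) (cm A (wd C0.w1) ⊓ fx A (wd bu0)) (fun x hx => hz x hx.1) (fun x _ => h2 x)
    (inv_inf (fun x hx => smul_cm b_uz1 hx) b_uu10)
    (inv_inf (fun x hx => smul_cm b_vz1 hx) b_vu10) b_o1 b_uz1
    b_vz1 b_vu1 z2 n1
  obtain ⟨n3, c3⟩ := step2 (u := wd bu2) (v := wd bv2) (cm A (wd C0.w1) ⊓ fx A (wd bu0) ⊓ fx A (wd bu1))
    (fun x hx => hz x hx.1.1) (fun x _ => h2 x)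
    (inv_inf (inv_inf (fun x hx => smul_cm b_uz2 hx) b_uu20) b_uu21)
    (inv_inf (inv_inf (fun x hx => smul_cm b_vz2 hx) b_vu20) b_vu21) b_o2 b_uz2
    b_vz2 b_vu2 z2 n2
  obtain ⟨n4, c4⟩ := step2 (u := wd bu3) (v := wd bv3)
    (cm A (wd C0.w1) ⊓ fx A (wd bu0) ⊓ fx A (wd bu1) ⊓ fx A (wd bu2)) (fun x hx => hz x hx.1.1.1) (fun x _ => h2 x)
    (inv_inf (inv_inf (inv_inf (fun x hx => smul_cm b_uz3 hx) b_uu30) b_uu31) b_uu32)
    (inv_inf (inv_inf (inv_inf (fun x hx => smul_cm b_vz3 hx) b_vu30) b_vu31) b_vu32)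
    b_o3 b_uz3 b_vz3 b_vu3 z2 n3
  have h4 := three_le _ (fun x _ => h2 x) n4
  rw [index_fx]
  calc 3 ^ 16 = (((3 ^ 2) ^ 2) ^ 2) ^ 2 := by norm_num
    _ ≤ (((_ ^ 2) ^ 2) ^ 2) ^ 2 :=
      Nat.pow_le_pow_left (Nat.pow_le_pow_left (Nat.pow_le_pow_left (Nat.pow_le_pow_left h4 2) 2) 2) 2
    _ ≤ ((_ ^ 2) ^ 2) ^ 2 := Nat.pow_le_pow_left (Nat.pow_le_pow_left (Nat.pow_le_pow_left c4 2) 2) 2
    _ ≤ (_ ^ 2) ^ 2 := Nat.pow_le_pow_left (Nat.pow_le_pow_left c3 2) 2
    _ ≤ _ ^ 2 := Nat.pow_le_pow_left c2 2
    _ ≤ _ := c1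

theorem prime_words {r : ℕ} (hr : r.Prime) (hexp : ∀ x : A, r • x = 0)
    (hfix : ∀ x : A, (∀ g : Spor.Co2, g • x = x) → x = 0) (hnt : Nontrivial A) {w : List ℕ} (hw : w ∈ PW) :
    61 ≤ (fx A (wd w)).index := by
  apply big
  by_cases h : r = 3
  · have h2 : ∀ x : A, x + x = 0 → x = 0 := by
      intro x hx
      refine kill (m := 2) (r := r) ?_ ?_ (hexp x)
      · rw [h]; norm_num
      · rw [two_smul]; exact hx
    have h1 := base1 hfix hnt h2
    have h3 := all1 (A := A) hw
    have h4 : 216001 ≤ 3 ^ 16 := by norm_num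
    exact h4.trans (h1.trans h3)
  · have h2 : ∀ x : A, x + x + x = 0 → x = 0 := by
      intro x hx
      refine kill (m := 3) (r := r) ?_ ?_ (hexp x)
      · rw [Nat.coprime_primes Nat.prime_three hr]
        exact fun h' => h h'.symm
      · rw [show 3 = 2 + 1 from rfl, add_smul, two_smul, one_smul]; exact hx
    have h1 := base4 hfix hnt h2
    have h3 := all4 (A := A) hw
    have h4 : 216001 ≤ 4 ^ 9 := by norm_num
    exact h4.trans (h1.trans h3)

end Main

/-! ### elements of prime order -/

theorem FF_triv {g : Spor.Co2} {j : ℕ} (h : g ^ j = 1) : FF j g = 2300 := by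
  unfold FF
  rw [h]
  have h4 : Nat.card {y : Y // (1 : Spor.Co2) • y = y} = Nat.card Y :=
    Nat.card_congr (Equiv.subtypeUnivEquiv fun y => one_smul _ y)
  rw [h4, H843.IMC.Co2B.card_Y]

theorem smul_pow_fix {g : Spor.Co2} {y : Y} (h : g • y = y) (n : ℕ) : g ^ n • y = y := by
  induction n with
  | zero => rw [pow_zero, one_smul]
  | succ n ih => rw [pow_succ, mul_smul, h, ih]

theorem FF_gen {g : Spor.Co2} (j k : ℕ) (h : g ^ (j * k) = g) : FF j g = Nat.card {y : Y // g • y = y} := by
  unfold FF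
  refine Nat.card_congr (Equiv.subtypeEquivRight fun y => ⟨fun h1 => ?_, fun h1 => smul_pow_fix h1 j⟩)
  have h2 := smul_pow_fix h1 k
  rwa [← pow_mul, h] at h2

theorem pick2 : ∀ d ∈ data2, d.2.k.1 = 2300 → d.2.k.2.2.2.1 = 2300 → d.2.w = [] ∨ d.2.w ∈ PW := by decide +kernel

theorem pick3 : ∀ d ∈ data2, d.2.k.2.2.1 = 2300 → d.2.k.2.2.2.2 = 2300 → d.2.w = [] ∨ d.2.w ∈ PW := by decide +kernel

theorem pick5 : ∀ d ∈ data2, d.2.k.2.2.2.1 = 2300 → d.2.k.2.2.2.2 = 2300 → d.2.w = [] ∨ d.2.w ∈ PW := by
  decide +kernel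

theorem pick7 : ∀ d ∈ data2, d.2.k.2.1 = 2300 → d.2.w = [] ∨ d.2.w ∈ PW := by decide +kernel

theorem pickE : ∀ d ∈ data2, d.2.k.1 = d.2.k.2.1 → d.2.k.2.1 = d.2.k.2.2.1 → d.2.k.2.2.1 = d.2.k.2.2.2.1 →
    d.2.k.2.2.2.1 = d.2.k.2.2.2.2 → d.2.w = [] ∨ d.2.w ∈ PW := by decide +kernel

theorem primes_dvd {p : ℕ} (hp : p.Prime) (h : p ∣ 42305421312000) :
    p = 2 ∨ p = 3 ∨ p = 5 ∨ p = 7 ∨ p = 11 ∨ p = 23 := by
  have e : 42305421312000 = 2 ^ 18 * (3 ^ 6 * (5 ^ 3 * (7 * (11 * 23)))) := by norm_num
  rw [e] at h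
  have q : ∀ {a n : ℕ}, a.Prime → p ∣ a ^ n → p = a := fun ha hd =>
    (Nat.prime_dvd_prime_iff_eq hp ha).1 (hp.dvd_of_dvd_pow hd)
  rcases (Nat.Prime.dvd_mul hp).1 h with h | h
  · exact Or.inl (q Nat.prime_two h)
  rcases (Nat.Prime.dvd_mul hp).1 h with h | h
  · exact Or.inr (Or.inl (q Nat.prime_three h))
  rcases (Nat.Prime.dvd_mul hp).1 h with h | h
  · exact Or.inr (Or.inr (Or.inl (q Nat.prime_five h)))
  rcases (Nat.Prime.dvd_mul hp).1 h with h | h
  · exact Or.inr (Or.inr (Or.inr (Or.inl ((Nat.prime_dvd_prime_iff_eq hp (by norm_num)).1 h))))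
  rcases (Nat.Prime.dvd_mul hp).1 h with h | h
  · exact Or.inr (Or.inr (Or.inr (Or.inr (Or.inl ((Nat.prime_dvd_prime_iff_eq hp (by norm_num)).1 h)))))
  · exact Or.inr (Or.inr (Or.inr (Or.inr (Or.inr ((Nat.prime_dvd_prime_iff_eq hp (by norm_num)).1 h)))))

theorem pow_red {g : Spor.Co2} {p : ℕ} (h : g ^ p = 1) (n k : ℕ) (hn : n = p * k + 1) : g ^ n = g := by
  rw [hn, pow_succ, pow_mul, h, one_pow, one_mul]

/-- an element of prime order has the key of a word of prime order -/
theorem prime_key {g : Spor.Co2} {p : ℕ} (hp : p.Prime) (hg : g ^ p = 1) (hd : p ∣ 42305421312000)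
    {d : Bool × Dt} (hmem : d ∈ data2) (hk : ff g = d.2.k) : d.2.w = [] ∨ d.2.w ∈ PW := by
  have e1 : FF 4 g = d.2.k.1 := congrArg Prod.fst hk
  have e2 : FF 7 g = d.2.k.2.1 := congrArg (fun k => k.2.1) hk
  have e3 : FF 9 g = d.2.k.2.2.1 := congrArg (fun k => k.2.2.1) hk
  have e4 : FF 10 g = d.2.k.2.2.2.1 := congrArg (fun k => k.2.2.2.1) hk
  have e5 : FF 15 g = d.2.k.2.2.2.2 := congrArg (fun k => k.2.2.2.2) hk
  have tr : ∀ j k, j = p * k → FF j g = 2300 := by
    intro j k hj
    apply FF_triv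
    rw [hj, pow_mul, hg, one_pow]
  rcases primes_dvd hp hd with rfl | rfl | rfl | rfl | rfl | rfl
  · exact pick2 d hmem (by rw [← e1]; exact tr 4 2 rfl) (by rw [← e4]; exact tr 10 5 rfl)
  · exact pick3 d hmem (by rw [← e3]; exact tr 9 3 rfl) (by rw [← e5]; exact tr 15 5 rfl)
  · exact pick5 d hmem (by rw [← e4]; exact tr 10 2 rfl) (by rw [← e5]; exact tr 15 3 rfl)
  · exact pick7 d hmem (by rw [← e2]; exact tr 7 1 rfl)
  · have a1 := FF_gen 4 3 (pow_red hg 12 1 rfl)
    have a2 := FF_gen 7 8 (pow_red hg 56 5 rfl)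
    have a3 := FF_gen 9 5 (pow_red hg 45 4 rfl)
    have a4 := FF_gen 10 10 (pow_red hg 100 9 rfl)
    have a5 := FF_gen 15 3 (pow_red hg 45 4 rfl)
    refine pickE d hmem ?_ ?_ ?_ ?_
    · rw [← e1, ← e2, a1, a2]
    · rw [← e2, ← e3, a2, a3]
    · rw [← e3, ← e4, a3, a4]
    · rw [← e4, ← e5, a4, a5]
  · have a1 := FF_gen 4 6 (pow_red hg 24 1 rfl)
    have a2 := FF_gen 7 10 (pow_red hg 70 3 rfl)
    have a3 := FF_gen 9 18 (pow_red hg 162 7 rfl)
    have a4 := FF_gen 10 7 (pow_red hg 70 3 rfl)
    have a5 := FF_gen 15 20 (pow_red hg 300 13 rfl)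
    refine pickE d hmem ?_ ?_ ?_ ?_
    · rw [← e1, ← e2, a1, a2]
    · rw [← e2, ← e3, a2, a3]
    · rw [← e3, ← e4, a3, a4]
    · rw [← e4, ← e5, a4, a5]

/-- **Codimensions.** -/
theorem cod {A : Type u} [AddCommGroup A] [DistribMulAction Spor.Co2 A] [Finite A] {r : ℕ} (hr : r.Prime)
    (hexp : ∀ x : A, r • x = 0) (hfix : ∀ x : A, (∀ g : Spor.Co2, g • x = x) → x = 0) (hnt : Nontrivial A)
    {z : Spor.Co2} (hz : z ≠ 1) : 61 ≤ (fx A z).index := by
  obtain ⟨p, hp, hd⟩ := Nat.exists_prime_and_dvd (n := orderOf z) (fun h => hz (orderOf_eq_one_iff.1 h))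
  obtain ⟨m, hm⟩ := hd
  have hpos : 0 < orderOf z := orderOf_pos z
  have hm0 : 0 < m := Nat.pos_of_ne_zero (by rintro rfl; omega)
  have h1 : (z ^ m) ^ p = 1 := by rw [← pow_mul, mul_comm, ← hm, pow_orderOf_eq_one]
  have h2 : z ^ m ≠ 1 := by
    intro h
    have h3 := Nat.le_of_dvd hm0 (orderOf_dvd_of_pow_eq_one h)
    have h4 := hp.two_le
    nlinarith
  have hdvd : p ∣ 42305421312000 := by
    rw [← card_co2]
    exact (Dvd.intro m hm.symm).trans (orderOf_dvd_natCard z)
  obtain ⟨d, hmem, hk, hidx, hne⟩ := idx_rep (A := A) (z ^ m)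
  refine le_trans ?_ (index_pow z m)
  rw [hidx]
  rcases prime_key hp h1 hdvd hmem hk with h | h
  · exact absurd (hne h) h2
  · exact prime_words hr hexp hfix hnt h

/-- **The row `Chief` of `Co2`.** -/
theorem chief {X : Type v} [Group X] [Finite X] (hX : Spor.IsoCo2 X) (D : Set ℕ) :
    Cfsg.Agent.H704.S8.Chief.{u} 1 D X := by
  obtain ⟨e⟩ := hX
  have hcard : Nat.card X = 42305421312000 := by rw [Nat.card_congr e.toEquiv, card_co2]
  refine chief_of_codim (K := 60) (q := 61) D le_rfl ?_ (by norm_num) (by rw [hcard]; norm_num) ?_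
  · rw [Cfsg.Agent.H92.KTools.card_classes_congr e]
    exact card_classes
  · intro A _ _ _ r hr hexp hfix hnt z hz
    let _ : DistribMulAction Spor.Co2 A := DistribMulAction.compHom A e.symm.toMonoidHom
    have h1 : (fx A (e z)).index = (fx A z).index := by
      congr 1
      ext x
      rw [mem_fx, mem_fx]
      show e.symm (e z) • x = x ↔ _
      rw [e.symm_apply_apply]
    rw [← h1]
    refine cod hr hexp (fun x hx => hfix x fun g => ?_) hnt fun h => hz ?_
    · have h2 := hx (e g)
      have h3 : e.symm (e g) • x = x := h2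
      rwa [e.symm_apply_apply] at h3
    · exact e.injective (h.trans (map_one e).symm)

end Cfsg.Agent.H217.S8.Co2M
end

-- part: H456/S8/HNSolv
section
set_option linter.all false
open scoped Cfsg.Agent.FastGrp

/-!
# S4908, SOLV for the Harada–Norton group (helper456)

* `solv_iso` : no solvable group has the degrees of `HN` or of `Aut HN`.
-/

set_option autoImplicit false
set_option maxRecDepth 10000

namespace Cfsg.Agent.H456.S8.HNSolv

open Cfsg Subgroup
open Cfsg.Agent.Characters.Core
open Cfsg.Agent.H456.S8.HNNum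
open Cfsg.Agent.H456.LD.HN.Blk (dd dd_eq)

universe u v

local notation "Γ" => Cfsg.Spor.HN

theorem mem_divs {d : ℕ} (h : d ∣ 273030912000000) : ∃ a < 15, ∃ b < 7, ∃ c < 7, ∃ e < 2, ∃ f < 2, ∃ g < 2,
    d = 2 ^ a * 3 ^ b * 5 ^ c * 7 ^ e * 11 ^ f * 19 ^ g := by
  have h0 : d ∣ 2 ^ 14 * 3 ^ 6 * 5 ^ 6 * 7 ^ 1 * 11 ^ 1 * 19 ^ 1 := by
    have e : 2 ^ 14 * 3 ^ 6 * 5 ^ 6 * 7 ^ 1 * 11 ^ 1 * 19 ^ 1 = 273030912000000 := by norm_num
    rwa [e]
  obtain ⟨d5, x6, h5, q6, rfl⟩ := Nat.dvd_mul.1 h0
  obtain ⟨d4, x5, h4, q5, rfl⟩ := Nat.dvd_mul.1 h5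
  obtain ⟨d3, x4, h3, q4, rfl⟩ := Nat.dvd_mul.1 h4
  obtain ⟨d2, x3, h2, q3, rfl⟩ := Nat.dvd_mul.1 h3
  obtain ⟨x1, x2, q1, q2, rfl⟩ := Nat.dvd_mul.1 h2
  obtain ⟨a, ha, rfl⟩ := (Nat.dvd_prime_pow Nat.prime_two).1 q1
  obtain ⟨b, hb, rfl⟩ := (Nat.dvd_prime_pow Nat.prime_three).1 q2
  obtain ⟨c, hc, rfl⟩ := (Nat.dvd_prime_pow Nat.prime_five).1 q3
  obtain ⟨e, he, rfl⟩ := (Nat.dvd_prime_pow (show Nat.Prime 7 by norm_num)).1 q4
  obtain ⟨f, hf, rfl⟩ := (Nat.dvd_prime_pow (show Nat.Prime 11 by norm_num)).1 q5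
  obtain ⟨g, hg, rfl⟩ := (Nat.dvd_prime_pow (show Nat.Prime 19 by norm_num)).1 q6
  exact ⟨a, by omega, b, by omega, c, by omega, e, by omega, f, by omega, g, by omega, rfl⟩

theorem okd_of_dvd {d : ℕ} (h : d ∣ 273030912000000) : okd d = true := by
  obtain ⟨a, ha, b, hb, c, hc, e, he, f, hf, g, hg, rfl⟩ := mem_divs h
  have h1 := List.all_eq_true.1 all_ok a (List.mem_range.2 ha)
  have h2 := List.all_eq_true.1 h1 b (List.mem_range.2 hb)
  have h3 := List.all_eq_true.1 h2 c (List.mem_range.2 hc)
  have h4 := List.all_eq_true.1 h3 e (List.mem_range.2 he)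
  have h5 := List.all_eq_true.1 h4 f (List.mem_range.2 hf)
  exact List.all_eq_true.1 h5 g (List.mem_range.2 hg)

/-- the degrees of `HN` and their doubles -/
theorem mem_adm (χ : IrrCharacter Γ) : dd χ ∈ Adm ∧ (dd χ ≠ 1 → 2 * dd χ ∈ Adm) := by
  have hfin := Cfsg.Agent.H710.Spor.HN.finite_hn
  have := Fintype.ofFinite (IrrCharacter Γ)
  have h1 := okd_of_dvd (d := dd χ) (by
    have h2 := Cfsg.Agent.H511.Ore.charDegree_dvd χ
    rwa [Cfsg.Agent.H175.Ore.HNDeg.card_hn] at h2)
  have h19 := Cfsg.Agent.H456.LD.HN.Blk.mod_nineteen χ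
  have h11 : dd χ % 11 = 0 ∨ dd χ % 11 = 1 ∨ dd χ % 11 = 10 := Cfsg.Agent.H456.LD.HN.Grp.mod_eleven χ
  have hsq : dd χ * dd χ < 273030912000000 := by
    have h2 := Cfsg.Agent.H456.LD.HN.Blk.dd_sq χ
    have h3 : dd χ * dd χ ≤ 273030912000000 := by
      have h4 : ((dd χ * dd χ : ℕ) : ℤ) ≤ 273030912000000 := by push_cast; nlinarith
      exact_mod_cast h4
    by_contra hcon
    rcases Nat.lt_or_ge (dd χ) 16523648 with h4 | h4
    · nlinarith
    · nlinarith
  have hsm : 770 < dd χ ∨ dd χ = 1 ∨ dd χ = 133 ∨ dd χ = 760 := by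
    by_cases h1 : (χ : Γ → ℂ) = 1
    · right; left
      have h2 := dd_eq χ
      rw [h1, Pi.one_apply] at h2
      exact_mod_cast h2.symm
    · rcases Cfsg.Agent.H175.Ore.HNDeg.deg_cases h1 with h2 | h2 | h2
      · exact Or.inr (Or.inr (Or.inl h2))
      · exact Or.inr (Or.inr (Or.inr h2))
      · exact Or.inl h2
  generalize dd χ = d at h1 h19 h11 hsq hsm ⊢
  unfold okd at h1
  simp only [Bool.or_eq_true, Bool.and_eq_true, Bool.not_eq_true', beq_iff_eq, List.contains_iff_mem,
    Bool.or_eq_false_iff, beq_eq_false_iff_ne, ne_eq] at h1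
  rcases h1 with (((h1 | h1) | h1) | h1) | h1
  · have h2 := Nat.le_of_ble_eq_true h1
    omega
  · exfalso
    obtain ⟨⟨⟨⟨e1, e2⟩, e3⟩, e4⟩, e5⟩ := h1
    rcases h19 with h | h | h | h | h
    · exact e1 h
    · exact e2 h
    · exact e3 h
    · exact e4 h
    · exact e5 h
  · exfalso
    obtain ⟨⟨e1, e2⟩, e3⟩ := h1
    rcases h11 with h | h | h
    · exact e1 h
    · exact e2 h
    · exact e3 h
  · exfalso
    obtain ⟨⟨⟨e0, e1⟩, e2⟩, e3⟩ := h1
    have h2 := Nat.le_of_ble_eq_true e0
    rcases hsm with h | h | h | h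
    · omega
    · exact e1 h
    · exact e2 h
    · exact e3 h
  · exact ⟨h1.1, fun h => h1.2.resolve_left h⟩

/-- the known degrees -/
theorem known : ∀ n ∈ [16929, 653125, 3200000, 4809375], ∃ χ : IrrCharacter Γ, dd χ = n := by
  obtain ⟨α, χ0, h1, h2, -, -, h5⟩ := Cfsg.Agent.H456.LD.HN.Chi.main
  obtain ⟨M, hM⟩ := Cfsg.Agent.Blocks.ExistsModular.exists_isPModular (by norm_num : Nat.Prime 5)
  have hH : Cfsg.Agent.H456.LD.HN.Blk.Hyp M χ0 := ⟨hM, Cfsg.Agent.Blocks.Basic.charDegree_of_eq h2, h5⟩
  obtain ⟨χ, -, hχd, -⟩ := Cfsg.Agent.H456.LD.HN.Kill.unique hH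
  obtain ⟨ψ, -, hψ⟩ := Cfsg.Agent.H456.S8.HNDeg.exists_deg hH
  intro n hn
  simp only [List.mem_cons, List.not_mem_nil, or_false] at hn
  rcases hn with rfl | rfl | rfl | rfl
  · exact ⟨α, Cfsg.Agent.Blocks.Basic.charDegree_of_eq h1⟩
  · exact ⟨χ0, hH.deg⟩
  · exact ⟨χ, hχd⟩
  · exact ⟨ψ, hψ⟩

/-- **SOLV.** -/
theorem solv_iso {X : Type v} [Group X] [Finite X] (h : Spor.IsoHN X) {D : Set ℕ} (hD : Cfsg.Agent.H704.S8.Deg 2 X D) :
    Cfsg.Agent.H704.S8.Solv.{u} D := by
  obtain ⟨e⟩ := h
  have hsΓ : IsSimpleGroup Γ := Cfsg.Agent.S1701.result.1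
  have hs : IsSimpleGroup X := e.isSimpleGroup
  have hnc : ¬ IsMulCommutative X := fun hc => Cfsg.Agent.H175.Ore.HNDeg.not_comm
    ⟨⟨fun a b => e.symm.injective (by rw [map_mul, map_mul, hc.is_comm.comm])⟩⟩
  have hi : (MulAut.conj : X →* MulAut X).range.index ≤ 2 := by
    have h1 : Nat.card (Out X) = 2 := by
      rw [Cfsg.Agent.H548.Crit.card_out_congr e, Cfsg.Agent.S2082.result]
    exact h1.le
  have hcd : charDegrees X = charDegrees Γ := Cfsg.Agent.H424.DegTools.charDegrees_congr e
  have hmem : ∀ n, n ∈ charDegrees X ↔ ∃ χ : IrrCharacter Γ, dd χ = n := by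
    intro n
    rw [hcd]
    constructor
    · rintro ⟨χ, hχ⟩
      exact ⟨χ, hχ⟩
    · rintro ⟨χ, hχ⟩
      exact ⟨χ, hχ⟩
  obtain ⟨up, down⟩ := Cfsg.Agent.H242.S8.deg_two' hs hnc hi hD
  intro G _ _ hsol hG
  refine (Cfsg.Agent.H497.S8.solv_of_chk2.{u} (D := D) 33000000 [2, 3, 5, 7, 11, 19] Adm K ?_ ?_ ?_ chk_ok) hsol hG
  · intro p hp
    simp only [List.mem_cons, List.not_mem_nil, or_false] at hp
    rcases hp with rfl | rfl | rfl | rfl | rfl | rfl <;> norm_num
  · intro d hd
    rcases down d hd with h1 | ⟨n, h1, h2, rfl⟩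
    · obtain ⟨χ, rfl⟩ := (hmem d).1 h1
      exact (mem_adm χ).1
    · obtain ⟨χ, rfl⟩ := (hmem n).1 h1
      exact (mem_adm χ).2 h2
  · intro l hl
    have hup : ∀ n ∈ [16929, 653125, 3200000, 4809375], n ∈ D ∨ 2 * n ∈ D := fun n hn =>
      up n ((hmem n).2 (known n hn))
    simp only [K, List.mem_cons, List.not_mem_nil, or_false] at hl
    rcases hl with rfl | rfl | rfl | rfl
    · rcases hup 16929 (by simp) with h1 | h1
      · exact ⟨_, by simp, h1⟩
      · exact ⟨_, by simp, h1⟩
    · rcases hup 653125 (by simp) with h1 | h1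
      · exact ⟨_, by simp, h1⟩
      · exact ⟨_, by simp, h1⟩
    · rcases hup 3200000 (by simp) with h1 | h1
      · exact ⟨_, by simp, h1⟩
      · exact ⟨_, by simp, h1⟩
    · rcases hup 4809375 (by simp) with h1 | h1
      · exact ⟨_, by simp, h1⟩
      · exact ⟨_, by simp, h1⟩

end Cfsg.Agent.H456.S8.HNSolv

private theorem dce_ae4123c42cf9 : _root_.True := by
  try have : _root_.True := by simp only [_root_.Cfsg.Agent.H456.S8.HNNum.K.eq_1]
  exact _root_.True.intro
end

-- part: H786/S8/MEleven_mg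
section
prune_inst 0x40000000000000000001c02a000000000030000000200000000000000008600000000000000000000000000000000000000000000000000000000000000000000000000000000000000000000000000000000000000000000000000000000000
set_option linter.all false
open scoped Cfsg.Agent.FastGrp

/-- decoders of the packed data (elaboration time only) -/
private noncomputable def pk61d (b S i : Nat) : Nat := Nat.mod (Nat.shiftRight S (Nat.mul b i)) (Nat.shiftLeft (nat_lit 1) b)
private noncomputable def pk61c {α : Type} (t : Nat) (a : α) (f : Nat → α) : α := Nat.rec a (fun k _ => f k) t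
private noncomputable def pk61f {α : Type} (t : Nat) (f : Nat → α) : α := Nat.rec (f Nat.zero) (fun k _ => f (Nat.succ k)) t
private noncomputable def pk61l {α : Type} (f : Nat → α) (s e : Nat) (tl : List α) : List α :=
  pk61f e fun e => Nat.rec tl (fun k ih => List.cons (pk61f (Nat.sub e (Nat.succ k)) f) ih) (Nat.sub e s)
private noncomputable def pk61o {α : Type} (O : (n : Nat) → OfNat α n → α) (I : (n : Nat) → OfNat α n) (t : Nat) : α :=
  pk61c t (O (nat_lit 0) (I (nat_lit 0))) fun k => O (Nat.succ k) (I (Nat.succ k))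

-- part: H786/S8/MEleven
section
/-!
# S4908, M11: the degrees, SOLV (helper786, after helper417)
-/

set_option autoImplicit false

namespace Cfsg.Agent.H786.S8.MEleven

open Cfsg Cfsg.Agent.Characters.Core Cfsg.Agent.SporadicA.M11Block Cfsg.Agent.SporadicA.M11Rel
  Cfsg.Agent.SporadicA.M11Facts Cfsg.Agent.SporadicA.M11Facts2
  Cfsg.Agent.SporadicA.M11Cent
open scoped ComplexConjugate

universe u v
variable {G : Type u} [Group G] [Finite G]

set_option maxHeartbeats 1000000 in
/-- The degrees by enumeration of the characters. -/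
theorem key (hG : Cfsg.IsM11 G) : (∀ d ∈ [10, 11, 16, 44, 45, 55], d ∈ charDegrees G) ∧
    ∀ (χ : IrrCharacter G) (d : ℕ), (χ : G → ℂ) 1 = d → d ∈ [1, 10, 11, 16, 44, 45, 55] := by
  classical
  have := finite_irr (G := G)
  have := Fintype.ofFinite (IrrCharacter G)
  obtain ⟨y, hy⟩ : ∃ y : G, orderOf y = 5 := by
    have : Fact (Nat.Prime 5) := ⟨by norm_num⟩
    exact exists_prime_orderOf_dvd_card' 5 (by rw [hG.2]; norm_num)
  obtain ⟨x, hx, v, hB⟩ := exists_caseC hG
  obtain ⟨w, hw, hmod, hw1⟩ := exists_five_values hy (isConj_five hG hy)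
  have hn := fun χ : IrrCharacter G => isIrr_apply_one χ.2
  choose n hn0 hn1 using hn
  have hnz : ∀ χ : IrrCharacter G, (χ : G → ℂ) 1 = ((n χ : ℤ) : ℂ) := fun χ => by
    rw [hn1]; simp
  have hv0 : v 0 = triv G := Subtype.ext hB.one
  have m0 : n (v 0) = 1 := by exact_mod_cast (hn1 (v 0)).symm.trans (hB.degs 0)
  have m1 : n (v 1) = 10 := by exact_mod_cast (hn1 (v 1)).symm.trans (hB.degs 1)
  have m2 : n (v 2) = 10 := by exact_mod_cast (hn1 (v 2)).symm.trans (hB.degs 2)
  have m3 : n (v 3) = 10 := by exact_mod_cast (hn1 (v 3)).symm.trans (hB.degs 3)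
  have m4 : n (v 4) = 45 := by exact_mod_cast (hn1 (v 4)).symm.trans (hB.degs 4)
  have m5 : n (v 5) = 16 := by exact_mod_cast (hn1 (v 5)).symm.trans (hB.degs 5)
  have m6 : n (v 6) = 16 := by exact_mod_cast (hn1 (v 6)).symm.trans (hB.degs 6)
  have e1 := col_conj hw hw (IsConj.refl y)
  have e6 := col_conj hnz hnz (IsConj.refl 1)
  have hy1 : ¬ IsConj y 1 := by
    intro h
    have h1 : y = 1 := by
      obtain ⟨c, hc⟩ := isConj_iff.1 h
      have := congrArg (fun z => c⁻¹ * z * c) hc
      simpa [mul_assoc] using this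
    rw [h1, orderOf_one] at hy
    norm_num at hy
  have e7 := col_not_conj hw hnz hy1
  have hc1 : Nat.card (Subgroup.centralizer ({1} : Set G)) = 7920 := by
    rw [Subgroup.centralizer_eq_top_iff_subset.2 (by
      rw [Set.singleton_subset_iff]; exact Subgroup.one_mem _), Subgroup.card_top, hG.2]
  rw [card_centralizer_five hG hy] at e1
  have hle : ∀ ψ : IrrCharacter G, w ψ * w ψ ≤ 5 := by
    intro ψ
    have := Finset.single_le_sum (f := fun χ => w χ * w χ) (fun χ _ => mul_self_nonneg (w χ))
      (Finset.mem_univ ψ)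
    rw [e1] at this
    exact_mod_cast this
  have hz : ∀ ψ : IrrCharacter G, (5 : ℤ) ∣ n ψ → w ψ = 0 := by
    intro ψ h5
    have h1 := hmod ψ (n ψ) (hn1 ψ)
    have h2 : (5 : ℤ) ∣ w ψ := by omega
    obtain ⟨q, hq⟩ := h2
    have h3 := hle ψ
    rw [hq] at h3 ⊢
    have : q = 0 := by
      by_contra hq0
      have : 0 < q * q := mul_self_pos.2 hq0
      linarith only [h3, this]
    rw [this]; norm_num
  have h16 : ∀ ψ : IrrCharacter G, n ψ = 16 → w ψ = 1 := by
    intro ψ h5
    have h1 := hmod ψ (n ψ) (hn1 ψ)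
    rw [h5] at h1
    have h3 := hle ψ
    have h4 := abs_le_two h3
    push_cast at h1
    omega
  have w1 := hz (v 1) (by rw [m1]; norm_num)
  have w2 := hz (v 2) (by rw [m2]; norm_num)
  have w3 := hz (v 3) (by rw [m3]; norm_num)
  have w4 := hz (v 4) (by rw [m4]; norm_num)
  have w5 := h16 (v 5) m5
  have w6 := h16 (v 6) m6
  rw [sum_split hB.inj, Fin.sum_univ_seven] at e1 e6 e7
  rw [hv0, hw1, w1, w2, w3, w4, w5, w6] at e1
  rw [m0, m1, m2, m3, m4, m5, m6, hc1] at e6
  rw [m0, m1, m2, m3, m4, m5, m6, hv0, hw1, w1, w2, w3, w4, w5, w6] at e7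
  have g1 : ∑ χ ∈ others v, w χ * w χ = 2 := by push_cast at e1; linarith only [e1]
  have g6 : ∑ χ ∈ others v, (n χ : ℤ) * n χ = 5082 := by push_cast at e6; linarith only [e6]
  have g7 : ∑ χ ∈ others v, w χ * n χ = -33 := by push_cast at e7; linarith only [e7]
  -- data on the others
  have hoth : ∀ χ ∈ others v, ∃ k : ℕ, n χ = 11 * k ∧ 0 < k ∧ k ≤ 6 ∧ -1 ≤ w χ ∧ w χ ≤ 1 ∧
      (5 : ℤ) ∣ n χ - w χ := by
    intro χ hR
    obtain ⟨-, k, hk⟩ := hB.rest χ (mem_others.1 hR)
    have hk' : n χ = 11 * k := by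
      rw [hn1] at hk
      exact_mod_cast hk
    have hk0 : 0 < k := by
      rcases Nat.eq_zero_or_pos k with h | h
      · have := hn0 χ
        omega
      · exact h
    have b1 : w χ * w χ ≤ 2 := by
      rw [← g1]
      exact Finset.single_le_sum (f := fun χ => w χ * w χ) (fun χ _ => mul_self_nonneg (w χ)) hR
    have b6 : (n χ : ℤ) * n χ ≤ 5082 := by
      rw [← g6]
      exact Finset.single_le_sum (f := fun χ => (n χ : ℤ) * n χ)
        (fun χ _ => mul_self_nonneg (n χ : ℤ)) hR
    have hk6 : k ≤ 6 := le_six (by rw [hk'] at b6; exact b6)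
    obtain ⟨u2, u1⟩ := abs_le_one b1
    exact ⟨k, hk', hk0, hk6, u2, u1, hmod χ (n χ) (hn1 χ)⟩
  set! T := (others v).filter fun χ => w χ ≠ 0 with hT
  have hTc : T.card = 2 := by
    have h1 : ∑ χ ∈ T, w χ * w χ = 2 := by
      rw [hT, Finset.sum_filter_of_ne]
      · exact g1
      · intro χ _ h h0
        apply h
        rw [h0, mul_zero]
    have h2 : ∑ χ ∈ T, w χ * w χ = ∑ χ ∈ T, (1 : ℤ) := by
      refine Finset.sum_congr rfl fun χ hχ => ?_
      rw [hT, Finset.mem_filter] at hχ
      obtain ⟨k, -, -, -, h3, h4, -⟩ := hoth χ hχ.1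
      have h5 := hχ.2
      have : w χ = 1 ∨ w χ = -1 := by omega
      rcases this with h | h <;> rw [h] <;> norm_num
    rw [h2, Finset.sum_const, nsmul_eq_mul, mul_one] at h1
    exact_mod_cast h1
  obtain ⟨a, b, hab, hTab⟩ := Finset.card_eq_two.1 hTc
  have ha : a ∈ T := by rw [hTab]; simp
  have hb : b ∈ T := by rw [hTab]; simp
  have hkey : w a * n a + w b * n b = -33 := by
    have h1 : ∑ χ ∈ T, w χ * n χ = -33 := by
      rw [hT, Finset.sum_filter_of_ne]
      · exact g7
      · intro χ _ h h0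
        apply h
        rw [h0, zero_mul]
    rwa [hTab, Finset.sum_pair hab] at h1
  have hval : ∀ χ ∈ T, (w χ = 1 ∧ (n χ = 11 ∨ n χ = 66)) ∨ (w χ = -1 ∧ n χ = 44) := by
    intro χ hχ
    rw [hT, Finset.mem_filter] at hχ
    obtain ⟨k, h1, h2, h3, h4, h5, h6⟩ := hoth χ hχ.1
    have h7 := hχ.2
    rw [h1] at h6 ⊢
    push_cast at h6
    have : w χ = 1 ∨ w χ = -1 := by (clear * - h4 h5 h7; omega)
    rcases this with h | h
    · left
      rw [h] at h6
      refine ⟨h, ?_⟩
      (clear * - h3 h6; solve | lia | omega)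
    · right
      rw [h] at h6
      refine ⟨h, ?_⟩
      (clear * - h3 h6; omega)
  have hn2 : (n a = 11 ∧ n b = 44) ∨ (n a = 44 ∧ n b = 11) := by
    rcases hval a ha with ⟨h1, h2 | h2⟩ | ⟨h1, h2⟩ <;> rcases hval b hb with ⟨h3, h4 | h4⟩ | ⟨h3, h4⟩ <;>
      rw [h1, h2, h3, h4] at hkey <;> norm_num at hkey
    · exact Or.inl ⟨h2, h4⟩
    · exact Or.inr ⟨h2, h4⟩
  have hrest : ∑ χ ∈ (others v) \ T, (n χ : ℤ) * n χ = 3025 := by
    have h1 : T ⊆ others v := Finset.filter_subset _ _
    have h2 := Finset.sum_sdiff (f := fun χ => (n χ : ℤ) * n χ) h1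
    rw [g6, hTab, Finset.sum_pair hab] at h2
    rw [hTab]
    rcases hn2 with ⟨h3, h4⟩ | ⟨h3, h4⟩ <;> rw [h3, h4] at h2 <;> push_cast at h2 <;> linarith only [h2]
  have h55 : ∀ χ ∈ (others v) \ T, n χ = 55 := by
    intro χ hχ
    rw [Finset.mem_sdiff] at hχ
    obtain ⟨k, h1, h2, h3, h4, h5, h6⟩ := hoth χ hχ.1
    have h7 : w χ = 0 := by
      by_contra h0
      exact hχ.2 (by rw [hT, Finset.mem_filter]; exact ⟨hχ.1, h0⟩)
    rw [h7, h1] at h6
    push_cast at h6
    (clear * - h1 h2 h3 h6; omega)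
  constructor
  · obtain ⟨χ, hχ⟩ : ((others v) \ T).Nonempty := by
      rw [Finset.nonempty_iff_ne_empty]
      intro h0
      rw [h0, Finset.sum_empty] at hrest
      norm_num at hrest
    have g55 : (55 : ℕ) ∈ charDegrees G :=
      H424.DegTools.mem_charDegrees.2 ⟨χ, χ.2, by rw [hn1, h55 χ hχ]⟩
    have g10 : (10 : ℕ) ∈ charDegrees G :=
      H424.DegTools.mem_charDegrees.2 ⟨v 1, (v 1).2, by rw [hn1, m1]⟩
    have g45 : (45 : ℕ) ∈ charDegrees G :=
      H424.DegTools.mem_charDegrees.2 ⟨v 4, (v 4).2, by rw [hn1, m4]⟩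
    have g16 : (16 : ℕ) ∈ charDegrees G :=
      H424.DegTools.mem_charDegrees.2 ⟨v 5, (v 5).2, by rw [hn1, m5]⟩
    have g11 : (11 : ℕ) ∈ charDegrees G := by
      rcases hn2 with ⟨h1, h2⟩ | ⟨h1, h2⟩
      · exact H424.DegTools.mem_charDegrees.2 ⟨a, a.2, by rw [hn1, h1]⟩
      · exact H424.DegTools.mem_charDegrees.2 ⟨b, b.2, by rw [hn1, h2]⟩
    have g44 : (44 : ℕ) ∈ charDegrees G := by
      rcases hn2 with ⟨h1, h2⟩ | ⟨h1, h2⟩
      · exact H424.DegTools.mem_charDegrees.2 ⟨b, b.2, by rw [hn1, h2]⟩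
      · exact H424.DegTools.mem_charDegrees.2 ⟨a, a.2, by rw [hn1, h1]⟩
    intro d hd
    simp only [List.mem_cons, List.not_mem_nil, or_false] at hd
    rcases hd with rfl | rfl | rfl | rfl | rfl | rfl <;> assumption
  · intro χ d hd
    have hdn : d = n χ := by
      rw [hn1] at hd
      exact_mod_cast hd.symm
    rw [hdn]
    by_cases hmem : ∃ i, v i = χ
    · obtain ⟨i, rfl⟩ := hmem
      fin_cases i
      · rw [show n (v ((fun i => i) ⟨0, by norm_num⟩)) = 1 from m0]; simp
      · rw [show n (v ((fun i => i) ⟨1, by norm_num⟩)) = 10 from m1]; simp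
      · rw [show n (v ((fun i => i) ⟨2, by norm_num⟩)) = 10 from m2]; simp
      · rw [show n (v ((fun i => i) ⟨3, by norm_num⟩)) = 10 from m3]; simp
      · rw [show n (v ((fun i => i) ⟨4, by norm_num⟩)) = 45 from m4]; simp
      · rw [show n (v ((fun i => i) ⟨5, by norm_num⟩)) = 16 from m5]; simp
      · rw [show n (v ((fun i => i) ⟨6, by norm_num⟩)) = 16 from m6]; simp
    · have hR : χ ∈ others v := mem_others.2 fun i hi => hmem ⟨i, hi⟩
      by_cases hχT : χ ∈ T
      · rw [hTab, Finset.mem_insert, Finset.mem_singleton] at hχT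
        rcases hχT with rfl | rfl <;> rcases hn2 with ⟨h3, h4⟩ | ⟨h3, h4⟩ <;> simp [h3, h4]
      · rw [h55 χ (Finset.mem_sdiff.2 ⟨hR, hχT⟩)]
        simp


/-- the degrees of `M11` -/
theorem mem_iff (hG : Cfsg.IsM11 G) {d : ℕ} : d ∈ charDegrees G ↔ d ∈ [1, 10, 11, 16, 44, 45, 55] := by
  constructor
  · intro hd
    obtain ⟨χ, hχ, h1⟩ := H424.DegTools.mem_charDegrees.1 hd
    exact (key hG).2 ⟨χ, hχ⟩ d h1
  · intro hd
    rw [List.mem_cons] at hd
    rcases hd with rfl | hd
    · exact H681.DegBasic.one_mem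
    · exact (key hG).1 d hd

/-- the degree set -/
theorem deg_iff (hG : Cfsg.IsM11 G) {D : Set ℕ} (hD : H704.S8.Deg 1 G D) {d : ℕ} :
    d ∈ D ↔ d ∈ [1, 10, 11, 16, 44, 45, 55] := by
  rcases hD with rfl | ⟨h, -⟩
  · exact mem_iff hG
  · omega

/-- **SOLV** for `M11` -/
theorem solv (hG : Cfsg.IsM11 G) {D : Set ℕ} (hD : H704.S8.Deg 1 G D) : H704.S8.Solv.{v} D := by
  refine solv_of_list (P := [2, 3, 5, 11]) (W := [10, 11, 16, 44, 45, 55])
    (C := [(10, [16, 45]), (11, [16, 45]), (16, [45, 11]), (44, [16, 45]), (45, [10, 16]), (55, [16, 45])])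
    (by decide +kernel) ?_ ?_ ?_ (w := 10) ?_ (by norm_num)
  · intro d hd
    exact (deg_iff hG hD).1 hd
  · intro w hw
    refine (deg_iff hG hD).2 (List.mem_cons_of_mem _ hw)
  · intro p hp d hd hpd
    have h1 := (deg_iff hG hD).1 hd
    have h2 : d ∣ 2 * 2 * 2 * 2 * (3 * 3) * 5 * 11 := by
      have h3 : ∀ d ∈ [1, 10, 11, 16, 44, 45, 55], d ∣ 2 * 2 * 2 * 2 * (3 * 3) * 5 * 11 := by decide
      exact h3 d h1
    have h3 := hpd.trans h2
    simp only [hp.dvd_mul, Nat.prime_dvd_prime_iff_eq hp Nat.prime_two, Nat.prime_dvd_prime_iff_eq hp Nat.prime_three,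
      Nat.prime_dvd_prime_iff_eq hp Nat.prime_five, Nat.prime_dvd_prime_iff_eq hp (show Nat.Prime 11 by norm_num)] at h3
    simp only [List.mem_cons, List.not_mem_nil, or_false]
    itauto
  · exact (deg_iff hG hD).2 (by decide)

end Cfsg.Agent.H786.S8.MEleven
end

-- part: H881/MF/Base
section
/-!
# Packed permutations of 12 points and overgroups of a subgroup (helper881)

`ofT T`: the permutation with the packed table `T` (12 digits of 4 bits).  `cover`: a double coset enumeration
`M = ⋃ R gᵢ R` checked by the kernel; `overgroups`: if every `gᵢ` outside two subgroups `Y₁`, `Y₂` generates `M` with `R`, then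
every proper subgroup `T ≥ R` of `M` is contained in `Y₁` or in `Y₂`.
-/

set_option autoImplicit false

namespace Cfsg.Agent.H881.MF

open Cfsg.Agent.H347.HX (alb of_alb)

/-- digit of 4 bits -/
def nb (T i : ℕ) : ℕ := Nat.land (Nat.shiftRight T (Nat.mul 4 i)) 15

/-- the table is injective with values below 12 -/
def injT (T : ℕ) : Bool := alb 12 fun i => bif Nat.blt (nb T i) 12 then
  (alb i fun j => bif Nat.beq (nb T i) (nb T j) then false else true) else false

theorem lt_of_injT {T : ℕ} (h : injT T = true) (i : Fin 12) : nb T i < 12 := by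
  have h1 := of_alb h i i.2
  rcases h2 : Nat.blt (nb T i) 12 with _ | _
  · rw [h2, cond_false] at h1; cases h1
  · rwa [Nat.blt_eq] at h2

theorem inj_of_injT {T : ℕ} (h : injT T = true) :
    Function.Injective fun i : Fin 12 => (⟨nb T i, lt_of_injT h i⟩ : Fin 12) := by
  have key : ∀ i j : ℕ, i < 12 → j < i → nb T i ≠ nb T j := by
    intro i j hi hj he
    have h1 := of_alb h i hi
    have h2 : Nat.blt (nb T i) 12 = true := by
      rw [Nat.blt_eq]; exact lt_of_injT h ⟨i, hi⟩
    rw [h2, cond_true] at h1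
    have h3 := of_alb h1 j hj
    rw [he, Nat.beq_refl, cond_true] at h3
    cases h3
  intro i j hij
  have he : nb T i = nb T j := congrArg Fin.val hij
  rcases lt_trichotomy (i : ℕ) j with h1 | h1 | h1
  · exact absurd he.symm (key j i j.2 h1)
  · exact Fin.ext h1
  · exact absurd he (key i j i.2 h1)

/-- the permutation of a packed table -/
noncomputable def ofT (T : ℕ) : Equiv.Perm (Fin 12) :=
  if h : injT T = true then Equiv.ofBijective _ (Finite.injective_iff_bijective.1 (inj_of_injT h)) else 1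

theorem ofT_apply {T : ℕ} (h : injT T = true) (i : Fin 12) : (ofT T i : ℕ) = nb T i := by
  unfold ofT
  rw [dif_pos h]
  rfl

/-- image of a point under a product of tables -/
def apl : List ℕ → ℕ → ℕ
  | [], i => i
  | T :: l, i => nb T (apl l i)

/-- product of tables -/
noncomputable def pr (l : List ℕ) : Equiv.Perm (Fin 12) := (l.map ofT).prod

theorem pr_nil : pr [] = 1 := rfl

theorem pr_cons (T : ℕ) (l : List ℕ) : pr (T :: l) = ofT T * pr l := by
  unfold pr; rw [List.map_cons, List.prod_cons]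

theorem pr_one (T : ℕ) : pr [T] = ofT T := by rw [pr_cons, pr_nil, mul_one]

theorem pr_apply {l : List ℕ} (hl : ∀ T ∈ l, injT T = true) (i : Fin 12) : (pr l i : ℕ) = apl l i := by
  induction l with
  | nil => rfl
  | cons T l ih =>
    rw [pr_cons, Equiv.Perm.mul_apply, ofT_apply (hl T List.mem_cons_self),
      ih fun U hU => hl U (List.mem_cons_of_mem _ hU)]
    rfl

/-- equality test -/
def eqt (u w : List ℕ) : Bool := alb 12 fun i => Nat.beq (apl u i) (apl w i)

theorem pr_eq {u w : List ℕ} (hu : ∀ T ∈ u, injT T = true) (hw : ∀ T ∈ w, injT T = true) (h : eqt u w = true) :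
    pr u = pr w := by
  apply Equiv.ext
  intro i
  apply Fin.ext
  rw [pr_apply hu, pr_apply hw]
  exact Nat.eq_of_beq_eq_true (of_alb h i i.2)

/-- all entries of a list are tables -/
def allT (l : List ℕ) : Bool := l.all injT

theorem of_allT {l : List ℕ} (h : allT l = true) : ∀ T ∈ l, injT T = true := by
  unfold allT at h
  rwa [List.all_eq_true] at h

/-- equality test with validity -/
def eqv (u w : List ℕ) : Bool := bif allT u then (bif allT w then eqt u w else false) else false

theorem pr_eqv {u w : List ℕ} (h : eqv u w = true) : pr u = pr w := by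
  unfold eqv at h
  rcases h1 : allT u with _ | _
  · rw [h1, cond_false] at h; cases h
  rcases h2 : allT w with _ | _
  · rw [h1, cond_true, h2, cond_false] at h; cases h
  rw [h1, cond_true, h2, cond_true] at h
  exact pr_eq (of_allT h1) (of_allT h2) h

/-- letters of a word -/
def sel (l : List ℕ) (w : List ℕ) : List ℕ := w.map fun k => l.getD k 0xba9876543210

theorem ofT_id : ofT 0xba9876543210 = 1 := by
  rw [← pr_one, ← pr_nil]
  exact pr_eqv (by decide +kernel)

theorem pr_sel_mem {T : Subgroup (Equiv.Perm (Fin 12))} {l : List ℕ} (hl : ∀ U ∈ l, ofT U ∈ T) (w : List ℕ) :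
    pr (sel l w) ∈ T := by
  induction w with
  | nil => exact one_mem _
  | cons k w ih =>
    have h1 : pr (sel l (k :: w)) = ofT (l.getD k 0xba9876543210) * pr (sel l w) := by
      unfold sel; rw [List.map_cons, pr_cons]
    rw [h1]
    refine mul_mem ?_ ih
    rw [List.getD_eq_getElem?_getD]
    rcases h2 : l[k]? with _ | U
    · rw [Option.getD_none, ofT_id]; exact one_mem _
    · rw [Option.getD_some]; exact hl U (List.mem_of_getElem? h2)

/-- a table is a word in given tables -/
def isW (l : List ℕ) (w : List ℕ) (U : ℕ) : Bool := eqv (sel l w) [U]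

theorem mem_of_isW {T : Subgroup (Equiv.Perm (Fin 12))} {l w : List ℕ} {U : ℕ} (h : isW l w U = true)
    (hl : ∀ U ∈ l, ofT U ∈ T) : ofT U ∈ T := by
  rw [← pr_one, ← pr_eqv h]
  exact pr_sel_mem hl w

/-- table number `i` of a packed list of tables -/
def tn (RT i : ℕ) : ℕ := Nat.land (Nat.shiftRight RT (Nat.mul 48 i)) 0xffffffffffff

/-! ### Double cosets -/

/-- the entry of `letter * ρ a * g` : `ρ a' * g i' * ρ k` (6 bits for `a'`, 6 bits for `k`, 8 bits for `i'`) -/
def chE (RT GT n m lt g : ℕ) (E a : ℕ) : Bool :=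
  (fun q : ℕ => bif Nat.blt (Nat.land q 63) n then (bif Nat.blt (Nat.land (Nat.shiftRight q 6) 63) n then
    (bif Nat.blt (Nat.shiftRight q 12) m then
      eqt [lt, tn RT a, g] [tn RT (Nat.land q 63), tn GT (Nat.shiftRight q 12), tn RT (Nat.land (Nat.shiftRight q 6) 63)]
    else false) else false) else false) (Nat.land (Nat.shiftRight E (Nat.mul 20 a)) 0xfffff)

/-- row of the check -/
def chR (RT GT n m lt g E : ℕ) : Bool := alb n fun a => chE RT GT n m lt g E a

theorem of_chE {RT GT n m lt g E a : ℕ} (h : chE RT GT n m lt g E a = true) :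
    ∃ a' < n, ∃ i' < m, ∃ k < n, eqt [lt, tn RT a, g] [tn RT a', tn GT i', tn RT k] = true := by
  unfold chE at h
  set q := Nat.land (Nat.shiftRight E (Nat.mul 20 a)) 0xfffff
  change (bif Nat.blt (Nat.land q 63) n then (bif Nat.blt (Nat.land (Nat.shiftRight q 6) 63) n then
    (bif Nat.blt (Nat.shiftRight q 12) m then
      eqt [lt, tn RT a, g] [tn RT (Nat.land q 63), tn GT (Nat.shiftRight q 12), tn RT (Nat.land (Nat.shiftRight q 6) 63)]
    else false) else false) else false) = true at h
  rcases h1 : Nat.blt (Nat.land q 63) n with _ | _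
  · rw [h1, cond_false] at h; cases h
  rcases h2 : Nat.blt (Nat.land (Nat.shiftRight q 6) 63) n with _ | _
  · rw [h1, cond_true, h2, cond_false] at h; cases h
  rcases h3 : Nat.blt (Nat.shiftRight q 12) m with _ | _
  · rw [h1, cond_true, h2, cond_true, h3, cond_false] at h; cases h
  rw [h1, cond_true, h2, cond_true, h3, cond_true] at h
  rw [Nat.blt_eq] at h1 h2 h3
  exact ⟨_, h1, _, h3, _, h2, h⟩

/-- **the double cosets cover** -/
theorem cover {RT GT n m x y : ℕ} (hx : injT x = true) (hy : injT y = true)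
    (hR : ∀ a < n, injT (tn RT a) = true) (hG : ∀ i < m, injT (tn GT i) = true)
    (h0 : ∃ a < n, ∃ i < m, ∃ k < n, eqt [] [tn RT a, tn GT i, tn RT k] = true)
    (R : Subgroup (Equiv.Perm (Fin 12))) (hRm : ∀ a < n, ofT (tn RT a) ∈ R)
    (hcx : ∀ i < m, ∃ E, chR RT GT n m x (tn GT i) E = true) (hcy : ∀ i < m, ∃ E, chR RT GT n m y (tn GT i) E = true)
    {g : Equiv.Perm (Fin 12)} (hg : g ∈ Subgroup.closure {ofT x, ofT y}) :
    ∃ a < n, ∃ i < m, ∃ b ∈ R, g = ofT (tn RT a) * ofT (tn GT i) * b := by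
  have step : ∀ (l : ℕ) (_ : injT l = true) (_ : ∀ i < m, ∃ E, chR RT GT n m l (tn GT i) E = true)
      (z : Equiv.Perm (Fin 12)), (∃ a < n, ∃ i < m, ∃ b ∈ R, z = ofT (tn RT a) * ofT (tn GT i) * b) →
      ∃ a < n, ∃ i < m, ∃ b ∈ R, ofT l * z = ofT (tn RT a) * ofT (tn GT i) * b := by
    rintro l hl hc z ⟨a, ha, i, hi, b, hb, rfl⟩
    obtain ⟨E, hE⟩ := hc i hi
    obtain ⟨a', ha', i', hi', k, hk, he⟩ := of_chE (of_alb hE a ha)
    have h1 : pr [l, tn RT a, tn GT i] = pr [tn RT a', tn GT i', tn RT k] := by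
      refine pr_eq ?_ ?_ he
      · intro T hT
        simp only [List.mem_cons, List.not_mem_nil, or_false] at hT
        rcases hT with rfl | rfl | rfl
        exacts [hl, hR a ha, hG i hi]
      · intro T hT
        simp only [List.mem_cons, List.not_mem_nil, or_false] at hT
        rcases hT with rfl | rfl | rfl
        exacts [hR a' ha', hG i' hi', hR k hk]
    simp only [pr_cons, pr_nil, mul_one] at h1
    refine ⟨a', ha', i', hi', ofT (tn RT k) * b, mul_mem (hRm k hk) hb, ?_⟩
    calc ofT l * (ofT (tn RT a) * ofT (tn GT i) * b) = (ofT l * (ofT (tn RT a) * ofT (tn GT i))) * b := by group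
      _ = _ := by rw [h1]; group
  have hbase : ∃ a < n, ∃ i < m, ∃ b ∈ R, (1 : Equiv.Perm (Fin 12)) = ofT (tn RT a) * ofT (tn GT i) * b := by
    obtain ⟨a, ha, i, hi, k, hk, he⟩ := h0
    have h1 : pr [] = pr [tn RT a, tn GT i, tn RT k] := by
      refine pr_eq (fun T hT => absurd hT List.not_mem_nil) ?_ he
      intro T hT
      simp only [List.mem_cons, List.not_mem_nil, or_false] at hT
      rcases hT with rfl | rfl | rfl
      exacts [hR a ha, hG i hi, hR k hk]
    simp only [pr_cons, pr_nil, mul_one] at h1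
    exact ⟨a, ha, i, hi, _, hRm k hk, by rw [h1, mul_assoc]⟩
  have hfin : (Subgroup.closure {ofT x, ofT y}).toSubmonoid = Submonoid.closure {ofT x, ofT y} :=
    Subgroup.closure_toSubmonoid_of_finite
  have hg' : g ∈ Submonoid.closure {ofT x, ofT y} := by
    rw [← hfin]; exact hg
  induction hg' using Submonoid.closure_induction_left with
  | one => exact hbase
  | mul_left l hl z hz ih =>
    have ih' := ih (by rw [← Subgroup.mem_toSubmonoid, hfin]; exact hz)
    rcases hl with rfl | rfl
    · exact step x hx hcx z ih'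
    · exact step y hy hcy z ih'

/-- **overgroups** -/
theorem overgroups {RT GT n m x y : ℕ} {R M : Subgroup (Equiv.Perm (Fin 12))}
    (hRm : ∀ a < n, ofT (tn RT a) ∈ R)
    (hcov : ∀ g ∈ M, ∃ a < n, ∃ i < m, ∃ b ∈ R, g = ofT (tn RT a) * ofT (tn GT i) * b)
    (Y₁ Y₂ : Subgroup (Equiv.Perm (Fin 12))) (h1 : R ≤ Y₁) (h2 : R ≤ Y₂) (hM : M = Subgroup.closure {ofT x, ofT y})
    (hi : ∀ i < m, ofT (tn GT i) ∈ Y₁ ∨ ofT (tn GT i) ∈ Y₂ ∨
      ∀ T : Subgroup (Equiv.Perm (Fin 12)), R ≤ T → ofT (tn GT i) ∈ T → ofT x ∈ T ∧ ofT y ∈ T)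
    (T : Subgroup (Equiv.Perm (Fin 12))) (hT : T ≤ M) (hne : T ≠ M) (hRT : R ≤ T) : T ≤ Y₁ ∨ T ≤ Y₂ := by
  have key : ∀ g ∈ T, g ∈ Y₁ ∨ g ∈ Y₂ := by
    intro g hg
    obtain ⟨a, ha, i, hi', b, hb, rfl⟩ := hcov g (hT hg)
    have h3 : ofT (tn GT i) ∈ T := by
      have h4 := mul_mem (mul_mem (inv_mem (hRT (hRm a ha))) hg) (inv_mem (hRT hb))
      have h5 : (ofT (tn RT a))⁻¹ * (ofT (tn RT a) * ofT (tn GT i) * b) * b⁻¹ = ofT (tn GT i) := by group
      rwa [h5] at h4
    rcases hi i hi' with h4 | h4 | h4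
    · exact Or.inl (mul_mem (mul_mem (h1 (hRm a ha)) h4) (h1 hb))
    · exact Or.inr (mul_mem (mul_mem (h2 (hRm a ha)) h4) (h2 hb))
    · exfalso
      apply hne
      refine le_antisymm hT ?_
      rw [hM, Subgroup.closure_le]
      obtain ⟨hx, hy⟩ := h4 T hRT h3
      rintro z (rfl | rfl)
      exacts [hx, hy]
  by_contra hcon
  push Not at hcon
  obtain ⟨hn1, hn2⟩ := hcon
  obtain ⟨a, ha, ha1⟩ := SetLike.not_le_iff_exists.1 hn1
  obtain ⟨b, hb, hb1⟩ := SetLike.not_le_iff_exists.1 hn2
  have ha2 : a ∈ Y₂ := (key a ha).resolve_left ha1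
  have hb2 : b ∈ Y₁ := (key b hb).resolve_right hb1
  rcases key (a * b) (mul_mem ha hb) with h | h
  · apply ha1
    have := mul_mem h (inv_mem hb2)
    rwa [mul_inv_cancel_right] at this
  · apply hb1
    have := mul_mem (inv_mem ha2) h
    rwa [inv_mul_cancel_left] at this

/-! ### Small groups -/

/-- the group generated by `gens` is contained in the union of the cosets `d j * R` -/
theorem mem_cosets {gens : List ℕ} {DT RT m n : ℕ} {R : Subgroup (Equiv.Perm (Fin 12))}
    (hR : ∀ k < n, ofT (tn RT k) ∈ R) (hinjR : ∀ k < n, injT (tn RT k) = true) (hinjD : ∀ j < m, injT (tn DT j) = true)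
    (hg : ∀ l ∈ gens, injT l = true) (h0 : ∃ j < m, tn DT j = 0xba9876543210)
    (hs : ∀ l ∈ gens, ∀ j < m, ∃ j' < m, ∃ k < n, eqt [l, tn DT j] [tn DT j', tn RT k] = true)
    {g : Equiv.Perm (Fin 12)} (h : g ∈ Subgroup.closure {z | ∃ l ∈ gens, z = ofT l}) :
    ∃ j < m, ∃ b ∈ R, g = ofT (tn DT j) * b := by
  have hfin : (Subgroup.closure {z | ∃ l ∈ gens, z = ofT l}).toSubmonoid =
      Submonoid.closure {z | ∃ l ∈ gens, z = ofT l} := Subgroup.closure_toSubmonoid_of_finite
  have hg' : g ∈ Submonoid.closure {z | ∃ l ∈ gens, z = ofT l} := by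
    rw [← hfin]; exact h
  induction hg' using Submonoid.closure_induction_left with
  | one =>
    obtain ⟨j, hj, he⟩ := h0
    exact ⟨j, hj, 1, one_mem _, by rw [he, ofT_id, mul_one]⟩
  | mul_left l hl z hz ih =>
    obtain ⟨j, hj, b, hb, rfl⟩ := ih (by rw [← Subgroup.mem_toSubmonoid, hfin]; exact hz)
    obtain ⟨l', hl', rfl⟩ := hl
    obtain ⟨j', hj', k, hk, he⟩ := hs l' hl' j hj
    have h1 : pr [l', tn DT j] = pr [tn DT j', tn RT k] := by
      refine pr_eq ?_ ?_ he
      · intro T hT
        simp only [List.mem_cons, List.not_mem_nil, or_false] at hT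
        rcases hT with rfl | rfl
        exacts [hg _ hl', hinjD j hj]
      · intro T hT
        simp only [List.mem_cons, List.not_mem_nil, or_false] at hT
        rcases hT with rfl | rfl
        exacts [hinjD j' hj', hinjR k hk]
    simp only [pr_cons, pr_nil, mul_one] at h1
    refine ⟨j', hj', ofT (tn RT k) * b, mul_mem (hR k hk) hb, ?_⟩
    rw [← mul_assoc, ← mul_assoc, h1]

end Cfsg.Agent.H881.MF
end

-- part: H881/MF/Check
section
/-!
# Checks for overgroups (helper881)
-/

set_option autoImplicit false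

namespace Cfsg.Agent.H881.MF

open Cfsg.Agent.H347.HX (alb of_alb)

/-- the group generated by tables -/
def cl (gens : List ℕ) : Subgroup (Equiv.Perm (Fin 12)) := Subgroup.closure {z | ∃ l ∈ gens, z = ofT l}

theorem mem_cl {gens : List ℕ} : ∀ U ∈ gens, ofT U ∈ cl gens := fun U hU => Subgroup.subset_closure ⟨U, hU, rfl⟩

theorem cl_le {gens : List ℕ} {T : Subgroup (Equiv.Perm (Fin 12))} (h : ∀ U ∈ gens, ofT U ∈ T) : cl gens ≤ T := by
  unfold cl
  rw [Subgroup.closure_le]
  rintro z ⟨l, hl, rfl⟩
  exact h l hl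

/-- rows of the double coset check -/
def chL (RT GT n m lt : ℕ) : List ℕ → ℕ → Bool
  | [], _ => true
  | E :: l, i => bif chR RT GT n m lt (tn GT i) E then chL RT GT n m lt l (Nat.succ i) else false

private def fzb (x : ℕ) (k : ℕ → Bool) : Bool := Nat.rec (k 0) (fun n _ => k (Nat.succ n)) x

private theorem fzb_eq (x : ℕ) (k : ℕ → Bool) : fzb x k = k x := by cases x <;> rfl

private noncomputable def eq6 (a b c d e f : ℕ) : Bool :=
  Bool.rec false (Bool.rec false (Bool.rec false (Bool.rec false (Bool.rec false (Bool.rec false (Bool.rec false (Bool.rec false (Bool.rec false (Bool.rec false (Bool.rec false (Bool.rec false (true)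
    (Nat.beq (Nat.land (Nat.shiftRight a (Nat.mul 4 (Nat.land (Nat.shiftRight b (Nat.mul 4 (Nat.land (Nat.shiftRight c (Nat.mul 4 0)) 15))) 15))) 15)
      (Nat.land (Nat.shiftRight d (Nat.mul 4 (Nat.land (Nat.shiftRight e (Nat.mul 4 (Nat.land (Nat.shiftRight f (Nat.mul 4 0)) 15))) 15))) 15)))
    (Nat.beq (Nat.land (Nat.shiftRight a (Nat.mul 4 (Nat.land (Nat.shiftRight b (Nat.mul 4 (Nat.land (Nat.shiftRight c (Nat.mul 4 1)) 15))) 15))) 15)
      (Nat.land (Nat.shiftRight d (Nat.mul 4 (Nat.land (Nat.shiftRight e (Nat.mul 4 (Nat.land (Nat.shiftRight f (Nat.mul 4 1)) 15))) 15))) 15)))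
    (Nat.beq (Nat.land (Nat.shiftRight a (Nat.mul 4 (Nat.land (Nat.shiftRight b (Nat.mul 4 (Nat.land (Nat.shiftRight c (Nat.mul 4 2)) 15))) 15))) 15)
      (Nat.land (Nat.shiftRight d (Nat.mul 4 (Nat.land (Nat.shiftRight e (Nat.mul 4 (Nat.land (Nat.shiftRight f (Nat.mul 4 2)) 15))) 15))) 15)))
    (Nat.beq (Nat.land (Nat.shiftRight a (Nat.mul 4 (Nat.land (Nat.shiftRight b (Nat.mul 4 (Nat.land (Nat.shiftRight c (Nat.mul 4 3)) 15))) 15))) 15)
      (Nat.land (Nat.shiftRight d (Nat.mul 4 (Nat.land (Nat.shiftRight e (Nat.mul 4 (Nat.land (Nat.shiftRight f (Nat.mul 4 3)) 15))) 15))) 15)))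
    (Nat.beq (Nat.land (Nat.shiftRight a (Nat.mul 4 (Nat.land (Nat.shiftRight b (Nat.mul 4 (Nat.land (Nat.shiftRight c (Nat.mul 4 4)) 15))) 15))) 15)
      (Nat.land (Nat.shiftRight d (Nat.mul 4 (Nat.land (Nat.shiftRight e (Nat.mul 4 (Nat.land (Nat.shiftRight f (Nat.mul 4 4)) 15))) 15))) 15)))
    (Nat.beq (Nat.land (Nat.shiftRight a (Nat.mul 4 (Nat.land (Nat.shiftRight b (Nat.mul 4 (Nat.land (Nat.shiftRight c (Nat.mul 4 5)) 15))) 15))) 15)
      (Nat.land (Nat.shiftRight d (Nat.mul 4 (Nat.land (Nat.shiftRight e (Nat.mul 4 (Nat.land (Nat.shiftRight f (Nat.mul 4 5)) 15))) 15))) 15)))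
    (Nat.beq (Nat.land (Nat.shiftRight a (Nat.mul 4 (Nat.land (Nat.shiftRight b (Nat.mul 4 (Nat.land (Nat.shiftRight c (Nat.mul 4 6)) 15))) 15))) 15)
      (Nat.land (Nat.shiftRight d (Nat.mul 4 (Nat.land (Nat.shiftRight e (Nat.mul 4 (Nat.land (Nat.shiftRight f (Nat.mul 4 6)) 15))) 15))) 15)))
    (Nat.beq (Nat.land (Nat.shiftRight a (Nat.mul 4 (Nat.land (Nat.shiftRight b (Nat.mul 4 (Nat.land (Nat.shiftRight c (Nat.mul 4 7)) 15))) 15))) 15)
      (Nat.land (Nat.shiftRight d (Nat.mul 4 (Nat.land (Nat.shiftRight e (Nat.mul 4 (Nat.land (Nat.shiftRight f (Nat.mul 4 7)) 15))) 15))) 15)))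
    (Nat.beq (Nat.land (Nat.shiftRight a (Nat.mul 4 (Nat.land (Nat.shiftRight b (Nat.mul 4 (Nat.land (Nat.shiftRight c (Nat.mul 4 8)) 15))) 15))) 15)
      (Nat.land (Nat.shiftRight d (Nat.mul 4 (Nat.land (Nat.shiftRight e (Nat.mul 4 (Nat.land (Nat.shiftRight f (Nat.mul 4 8)) 15))) 15))) 15)))
    (Nat.beq (Nat.land (Nat.shiftRight a (Nat.mul 4 (Nat.land (Nat.shiftRight b (Nat.mul 4 (Nat.land (Nat.shiftRight c (Nat.mul 4 9)) 15))) 15))) 15)
      (Nat.land (Nat.shiftRight d (Nat.mul 4 (Nat.land (Nat.shiftRight e (Nat.mul 4 (Nat.land (Nat.shiftRight f (Nat.mul 4 9)) 15))) 15))) 15)))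
    (Nat.beq (Nat.land (Nat.shiftRight a (Nat.mul 4 (Nat.land (Nat.shiftRight b (Nat.mul 4 (Nat.land (Nat.shiftRight c (Nat.mul 4 10)) 15))) 15))) 15)
      (Nat.land (Nat.shiftRight d (Nat.mul 4 (Nat.land (Nat.shiftRight e (Nat.mul 4 (Nat.land (Nat.shiftRight f (Nat.mul 4 10)) 15))) 15))) 15)))
    (Nat.beq (Nat.land (Nat.shiftRight a (Nat.mul 4 (Nat.land (Nat.shiftRight b (Nat.mul 4 (Nat.land (Nat.shiftRight c (Nat.mul 4 11)) 15))) 15))) 15)
      (Nat.land (Nat.shiftRight d (Nat.mul 4 (Nat.land (Nat.shiftRight e (Nat.mul 4 (Nat.land (Nat.shiftRight f (Nat.mul 4 11)) 15))) 15))) 15))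

private theorem eq6_eq (a b c d e f : ℕ) : eqt [a, b, c] [d, e, f] = eq6 a b c d e f := by
  have h : ∀ x y : Bool, (bif x then y else false) = Bool.rec false y x := fun x y => by cases x <;> rfl
  unfold eq6
  simp only [← h]
  rfl

private noncomputable def chEf (RT GT n m lt g : ℕ) (E a : ℕ) : Bool :=
  fzb (Nat.land (Nat.shiftRight E (Nat.mul 20 a)) 0xfffff) fun q =>
    fzb (Nat.land q 63) fun u => fzb (Nat.land (Nat.shiftRight q 6) 63) fun v => fzb (Nat.shiftRight q 12) fun w =>
    bif Nat.blt u n then (bif Nat.blt v n then (bif Nat.blt w m then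
      fzb (tn RT a) fun A => fzb (tn RT u) fun U => fzb (tn GT w) fun W => fzb (tn RT v) fun V => eq6 lt A g U W V
    else false) else false) else false

private theorem chEf_eq (RT GT n m lt g E a : ℕ) : chE RT GT n m lt g E a = chEf RT GT n m lt g E a := by
  unfold chEf
  simp only [fzb_eq, ← eq6_eq]
  rfl

private noncomputable def chLf (RT GT n m lt : ℕ) (L : List ℕ) : ℕ → Bool :=
  List.rec (fun _ => true) (fun E _ ih i => fzb (tn GT i) fun g => fzb E fun E =>
    bif alb n (fun a => chEf RT GT n m lt g E a) then ih (Nat.succ i) else false) L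

private theorem chL_of {RT GT n m lt : ℕ} {L : List ℕ} {i : ℕ} (h : chLf RT GT n m lt L i = true) : chL RT GT n m lt L i = true := by
  rw [← h]
  clear h
  induction L generalizing i with
  | nil => rfl
  | cons E l ih =>
    show (bif alb n (fun a => chE RT GT n m lt (tn GT i) E a) then chL RT GT n m lt l (Nat.succ i) else false) =
      fzb (tn GT i) fun g => fzb E fun E =>
        bif alb n (fun a => chEf RT GT n m lt g E a) then chLf RT GT n m lt l (Nat.succ i) else false
    rw [fzb_eq, fzb_eq, ih, funext (chEf_eq RT GT n m lt (tn GT i) E)]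

theorem of_chL {RT GT n m lt : ℕ} : ∀ {l : List ℕ} {i : ℕ}, chL RT GT n m lt l i = true →
    ∀ j < l.length, ∃ E, chR RT GT n m lt (tn GT (i + j)) E = true
  | [], _, _ => fun j hj => absurd hj (Nat.not_lt_zero j)
  | E :: l, i, h => by
    have h1 : (bif chR RT GT n m lt (tn GT i) E then chL RT GT n m lt l (Nat.succ i) else false) = true := h
    rcases h2 : chR RT GT n m lt (tn GT i) E with _ | _
    · rw [h2, cond_false] at h1; cases h1
    rw [h2, cond_true] at h1
    intro j hj
    rcases j with _ | j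
    · exact ⟨E, h2⟩
    · have h3 := of_chL h1 j (Nat.lt_of_succ_lt_succ hj)
      rwa [show i + (j + 1) = Nat.succ i + j by omega]

/-- the tables number `i, i + 1, ...` are words -/
def chW (l : List ℕ) (GT : ℕ) : List (List ℕ) → ℕ → Bool
  | [], _ => true
  | w :: ws, i => bif isW l w (tn GT i) then chW l GT ws (Nat.succ i) else false

theorem of_chW {l : List ℕ} {GT : ℕ} : ∀ {ws : List (List ℕ)} {i : ℕ}, chW l GT ws i = true →
    ∀ j < ws.length, ofT (tn GT (i + j)) ∈ cl l
  | [], _, _ => fun j hj => absurd hj (Nat.not_lt_zero j)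
  | w :: ws, i, h => by
    have h1 : (bif isW l w (tn GT i) then chW l GT ws (Nat.succ i) else false) = true := h
    rcases h2 : isW l w (tn GT i) with _ | _
    · rw [h2, cond_false] at h1; cases h1
    rw [h2, cond_true] at h1
    intro j hj
    rcases j with _ | j
    · exact mem_of_isW h2 mem_cl
    · have h3 := of_chW h1 j (Nat.lt_of_succ_lt_succ hj)
      rwa [show i + (j + 1) = Nat.succ i + j by omega]

/-- the double coset number `i`: `0` with words of `x` and `y` in `gens` and the representative, `1` or `2` with a word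
of the representative in the generators of `Y₁` or `Y₂` -/
def chI (gens : List ℕ) (h1 h2 x y GT : ℕ) : List (ℕ × List ℕ × List ℕ) → ℕ → Bool
  | [], _ => true
  | (0, u, v) :: l, i => bif isW (gens ++ [tn GT i]) u x then
      (bif isW (gens ++ [tn GT i]) v y then chI gens h1 h2 x y GT l (Nat.succ i) else false) else false
  | (1, u, _) :: l, i => bif isW (gens ++ [h1]) u (tn GT i) then chI gens h1 h2 x y GT l (Nat.succ i) else false
  | (_ + 2, u, _) :: l, i => bif isW (gens ++ [h2]) u (tn GT i) then chI gens h1 h2 x y GT l (Nat.succ i) else false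

theorem bif_true {a b : Bool} (h : (bif a then b else false) = true) : a = true ∧ b = true := by
  rcases a with _ | _
  · cases h
  · exact ⟨rfl, h⟩

theorem of_chI {gens : List ℕ} {h1 h2 x y GT : ℕ} : ∀ {l : List (ℕ × List ℕ × List ℕ)} {i : ℕ},
    chI gens h1 h2 x y GT l i = true → ∀ j < l.length,
      ofT (tn GT (i + j)) ∈ cl (gens ++ [h1]) ∨ ofT (tn GT (i + j)) ∈ cl (gens ++ [h2]) ∨
      ∀ T : Subgroup (Equiv.Perm (Fin 12)), cl gens ≤ T → ofT (tn GT (i + j)) ∈ T → ofT x ∈ T ∧ ofT y ∈ T
  | [], _, _ => fun j hj => absurd hj (Nat.not_lt_zero j)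
  | (0, u, v) :: l, i, h => by
    obtain ⟨e1, e2⟩ := bif_true (show (bif isW (gens ++ [tn GT i]) u x then
      (bif isW (gens ++ [tn GT i]) v y then chI gens h1 h2 x y GT l (Nat.succ i) else false) else false) = true from h)
    obtain ⟨e3, e4⟩ := bif_true e2
    intro j hj
    rcases j with _ | j
    · right; right
      intro T hR hT
      have hmem : ∀ U ∈ gens ++ [tn GT i], ofT U ∈ T := by
        intro U hU
        rcases List.mem_append.1 hU with hU | hU
        · exact hR (mem_cl U hU)
        · rw [List.mem_singleton.1 hU]; exact hT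
      exact ⟨mem_of_isW e1 hmem, mem_of_isW e3 hmem⟩
    · have h3 := of_chI e4 j (Nat.lt_of_succ_lt_succ hj)
      rwa [show i + (j + 1) = Nat.succ i + j by omega]
  | (1, u, _) :: l, i, h => by
    obtain ⟨e1, e2⟩ := bif_true (show (bif isW (gens ++ [h1]) u (tn GT i) then
      chI gens h1 h2 x y GT l (Nat.succ i) else false) = true from h)
    intro j hj
    rcases j with _ | j
    · left; exact mem_of_isW e1 mem_cl
    · have h3 := of_chI e2 j (Nat.lt_of_succ_lt_succ hj)
      rwa [show i + (j + 1) = Nat.succ i + j by omega]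
  | (_ + 2, u, _) :: l, i, h => by
    obtain ⟨e1, e2⟩ := bif_true (show (bif isW (gens ++ [h2]) u (tn GT i) then
      chI gens h1 h2 x y GT l (Nat.succ i) else false) = true from h)
    intro j hj
    rcases j with _ | j
    · right; left; exact mem_of_isW e1 mem_cl
    · have h3 := of_chI e2 j (Nat.lt_of_succ_lt_succ hj)
      rwa [show i + (j + 1) = Nat.succ i + j by omega]

/-- the coset check of a letter -/
def chS (DT RT n m l E : ℕ) : Bool := alb m fun j =>
  (fun q : ℕ => bif Nat.blt (Nat.land q 63) n then (bif Nat.blt (Nat.shiftRight q 6) m then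
    eqt [l, tn DT j] [tn DT (Nat.shiftRight q 6), tn RT (Nat.land q 63)] else false) else false)
    (Nat.land (Nat.shiftRight E (Nat.mul 16 j)) 0xffff)

theorem of_chS {DT RT n m l E : ℕ} (h : chS DT RT n m l E = true) (j : ℕ) (hj : j < m) :
    ∃ j' < m, ∃ k < n, eqt [l, tn DT j] [tn DT j', tn RT k] = true := by
  have h1 := of_alb h j hj
  set q := Nat.land (Nat.shiftRight E (Nat.mul 16 j)) 0xffff
  change (bif Nat.blt (Nat.land q 63) n then (bif Nat.blt (Nat.shiftRight q 6) m then
    eqt [l, tn DT j] [tn DT (Nat.shiftRight q 6), tn RT (Nat.land q 63)] else false) else false) = true at h1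
  obtain ⟨e1, e2⟩ := bif_true h1
  obtain ⟨e3, e4⟩ := bif_true e2
  rw [Nat.blt_eq] at e1 e3
  exact ⟨_, e3, _, e1, e4⟩

/-- the coset check for all letters -/
def chSs (DT RT n m : ℕ) (gens Es : List ℕ) : Bool :=
  bif Nat.beq gens.length Es.length then (gens.zip Es).all fun p => chS DT RT n m p.1 p.2 else false

theorem of_chSs {DT RT n m : ℕ} {gens Es : List ℕ} (h : chSs DT RT n m gens Es = true) :
    ∀ l ∈ gens, ∀ j < m, ∃ j' < m, ∃ k < n, eqt [l, tn DT j] [tn DT j', tn RT k] = true := by
  obtain ⟨e1, e2⟩ := bif_true h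
  have e3 := Nat.eq_of_beq_eq_true e1
  rw [List.all_eq_true] at e2
  intro l hl
  obtain ⟨i, hi, rfl⟩ := List.mem_iff_getElem.1 hl
  have hi' : i < Es.length := e3 ▸ hi
  have hz : i < (gens.zip Es).length := by rw [List.length_zip]; omega
  have h1 : (gens[i], Es[i]) ∈ gens.zip Es := by
    rw [List.mem_iff_getElem]
    exact ⟨i, hz, by rw [List.getElem_zip]⟩
  exact of_chS ((e2 _ h1 :))

/-- the tables number `0, ..., m - 1` are valid -/
def chV (DT m : ℕ) : Bool := alb m fun j => injT (tn DT j)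

/-- identity -/
abbrev idt : ℕ := 0xba9876543210

/-- **a group of at most `m` elements** -/
theorem list_of {gens Es : List ℕ} {RT m : ℕ} (hg : allT gens = true) (hv : chV RT m = true) (hm : 0 < m)
    (h0 : Nat.beq (tn RT 0) idt = true) (hs : chSs RT idt 1 m gens Es = true)
    {g : Equiv.Perm (Fin 12)} (h : g ∈ cl gens) : ∃ j < m, g = ofT (tn RT j) := by
  obtain ⟨j, hj, b, hb, rfl⟩ := mem_cosets (gens := gens) (DT := RT) (RT := idt) (m := m) (n := 1) (R := ⊥)
    (fun k hk => by
      have hk0 : k = 0 := by omega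
      subst hk0
      rw [show tn idt 0 = 0xba9876543210 from by decide +kernel, ofT_id]
      exact one_mem _)
    (fun k hk => by
      have hk0 : k = 0 := by omega
      subst hk0
      decide +kernel)
    (fun j hj => of_alb hv j hj) (of_allT hg) ⟨0, hm, Nat.eq_of_beq_eq_true h0⟩ (of_chSs hs) h
  exact ⟨j, hj, by rw [Subgroup.mem_bot.1 hb, mul_one]⟩

/-- **a group which is a union of `m` cosets** -/
theorem cosets_of {gens gR Es : List ℕ} {RT DT m n : ℕ} (hg : allT gens = true) (hvR : chV RT n = true)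
    (hvD : chV DT m = true) (hm : 0 < m) (h0 : Nat.beq (tn DT 0) idt = true)
    (hR : ∀ k < n, ofT (tn RT k) ∈ cl gR) (hs : chSs DT RT n m gens Es = true)
    {g : Equiv.Perm (Fin 12)} (h : g ∈ cl gens) : ∃ j < m, ∃ b ∈ cl gR, g = ofT (tn DT j) * b :=
  mem_cosets hR (fun k hk => of_alb hvR k hk) (fun j hj => of_alb hvD j hj) (of_allT hg)
    ⟨0, hm, Nat.eq_of_beq_eq_true h0⟩ (of_chSs hs) h

theorem card_le_of_list {T : Subgroup (Equiv.Perm (Fin 12))} {m : ℕ} (f : ℕ → Equiv.Perm (Fin 12))
    (h : ∀ g ∈ T, ∃ j < m, g = f j) : Nat.card T ≤ m := by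
  choose! j hj hg using h
  have hinj : Function.Injective fun g : T => (⟨j g, hj g g.2⟩ : Fin m) := by
    intro a b hab
    have e : j a = j b := congrArg Fin.val hab
    apply Subtype.ext
    rw [hg a a.2, hg b b.2, e]
  have h1 := Nat.card_le_card_of_injective _ hinj
  rwa [Nat.card_eq_fintype_card (α := Fin m), Fintype.card_fin] at h1

theorem card_classes_le {T : Subgroup (Equiv.Perm (Fin 12))} {m : ℕ} (f : ℕ → Equiv.Perm (Fin 12))
    (h : ∀ g ∈ T, ∃ i < m, ∃ u ∈ T, u * g * u⁻¹ = f i) : Nat.card (ConjClasses T) ≤ m := by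
  have h' : ∀ c : ConjClasses T, ∃ i : Fin m, ∃ g : T, ∃ u : T, ConjClasses.mk g = c ∧
      ((u * g * u⁻¹ : T) : Equiv.Perm (Fin 12)) = f i := by
    intro c
    obtain ⟨g, rfl⟩ := ConjClasses.mk_surjective c
    obtain ⟨i, hi, u, hu, he⟩ := h g g.2
    exact ⟨⟨i, hi⟩, g, ⟨u, hu⟩, rfl, he⟩
  choose i g u hg hu using h'
  have hinj : Function.Injective i := by
    intro a b hab
    have e : u a * g a * (u a)⁻¹ = u b * g b * (u b)⁻¹ := by
      apply Subtype.ext
      rw [hu a, hu b, hab]
    rw [← hg a, ← hg b, ConjClasses.mk_eq_mk_iff_isConj, isConj_iff]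
    refine ⟨(u b)⁻¹ * u a, ?_⟩
    calc (u b)⁻¹ * u a * g a * ((u b)⁻¹ * u a)⁻¹ = (u b)⁻¹ * (u a * g a * (u a)⁻¹) * u b := by group
      _ = g b := by rw [e]; group
  have h1 := Nat.card_le_card_of_injective _ hinj
  rwa [Nat.card_eq_fintype_card (α := Fin m), Fintype.card_fin] at h1

/-- conjugation entries: `u * (d j * ρ k) = t i * u`, `u = d j' * ρ k'` -/
def chC (DT RT CT n m c : ℕ) (Es : List ℕ) : Bool := bif Nat.beq Es.length m then
  (alb m fun j => alb n fun k =>
    (fun q : ℕ => bif Nat.blt (Nat.land q 31) n then (bif Nat.blt (Nat.land (Nat.shiftRight q 5) 15) m then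
      (bif Nat.blt (Nat.shiftRight q 9) c then
        eqt [tn DT (Nat.land (Nat.shiftRight q 5) 15), tn RT (Nat.land q 31), tn DT j, tn RT k]
          [tn CT (Nat.shiftRight q 9), tn DT (Nat.land (Nat.shiftRight q 5) 15), tn RT (Nat.land q 31)] else false)
      else false) else false) (Nat.land (Nat.shiftRight (Es.getD j 0) (Nat.mul 16 k)) 0xffff)) else false

theorem of_chC {DT RT CT n m c : ℕ} {Es : List ℕ} (h : chC DT RT CT n m c Es = true) (j : ℕ) (hj : j < m) (k : ℕ)
    (hk : k < n) : ∃ j' < m, ∃ k' < n, ∃ i < c,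
      eqt [tn DT j', tn RT k', tn DT j, tn RT k] [tn CT i, tn DT j', tn RT k'] = true := by
  obtain ⟨-, e2⟩ := bif_true h
  have h1 := of_alb (of_alb e2 j hj) k hk
  set q := Nat.land (Nat.shiftRight (Es.getD j 0) (Nat.mul 16 k)) 0xffff
  obtain ⟨f1, f2⟩ := bif_true h1
  obtain ⟨f3, f4⟩ := bif_true f2
  obtain ⟨f5, f6⟩ := bif_true f4
  rw [Nat.blt_eq] at f1 f3 f5
  exact ⟨_, f3, _, f1, _, f5, f6⟩

end Cfsg.Agent.H881.MF
end

-- part: H881/MF/TwoDat
section
/-!
# Overgroups of a Sylow 2-subgroup of `M₁₂`: data and checks (helper881)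
-/

set_option autoImplicit false
set_option maxRecDepth 100000
set_option Elab.async false

namespace Cfsg.Agent.H881.MF.Two

open Cfsg.Agent.H347.HX (alb of_alb)

def RT : ℕ := 0x6485a7b932014a97865b2301ab76984510325b86974a3210865b4a970123859b46a732019475a8b60132a7b9648501324a68795b10327a64b95832019845ab763210b9a785642310459876ab0123647a58b9102357b6948a1023ab8967452301a8496b751023a8b6947532017a9b46581023756b49a80132795b4a6832108a94b65701326745ab8901235b79684a0123b6a875941023456789ab3210948a57b623108564b9a7102386a4b597321098ba54760123b9587a640132974a5b861032b56879a4230176ab4598230157496b8a320158b9647a2310548967ba1032a7469b85231089ab456710327594b6a8231079a4b568012367ba54893210b6578a943201684a5b7923017654ba9810326b8a5749013297b5a486230146587a9b23108a6b49572310a47968b5321058469b7a0132547698ba2301b59786a410328954ba6723019b7a5846320168b5a47910326b75a849231046a7859b0132a48697b5012349578a6b10239b85a7461023ba678954012349a8756b3201ba9876543210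
def GT : ℕ := 0xa20961354b789584b7a60231b59812a0367436402b915a7862501a39b748b41a856079239230187ab4569b658341a270760951a843b27346b859a210ab61295437801584ba7320691b924530a86764a7b3980251b436781a9250489b0a71652315372048ba6936a5910487b232015b79864a0b612598734a35a1762904b81b52897a04636180372954aba467519208b319732a84b065672b093415a839407a685b210a987561234b7164908a3b259538a712604b07b863a1945226a47539b1089ab810523476382906a174b52475b90831a68160ab245937758a30649b21597403126a8b02a193b864572839b5a471065b1263740a89b0543698721aa20157b46893ba9876543210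
def gens : List ℕ := [0x49a8756b3201, 0xba6789540123, 0x9b85a7461023]
def tx : ℕ := 0xa20157b46893
def ty : ℕ := 0xb0543698721a
def h1 : ℕ := 0x9584b7a60231
def h2 : ℕ := 0xa20961354b78
noncomputable def wR : List (List ℕ) :=
  (by
  refine (?fq9001 : (fun (On : (n : Nat) → OfNat Nat n → Nat) (In : (n : Nat) → OfNat Nat n) => ((pk61l (fun i1 => ((fun g1 : Nat → Nat => pk61l (fun i2 => (pk61o On In (pk61d (nat_lit 2) 
    (nat_lit 0x1191891182684a1984628862265196248912518120649a1a4a662646a2622212299919894911281848642468a986892a59251a182241298a46124) i2))) (g1 i1) (g1 (Nat.succ i1)) List.nil) fun j => (pk61d (nat_lit 8) 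
    (nat_lit 0xeae4ded8d3cec9c4bfbab5b0aba6a19c97928e8a86827e7a76726e6a66625e5a56524e4a46423e3b3835322f2c292623201d1a1714110f0d0b0907050302010000) j))) (nat_lit 0) (nat_lit 64) List.nil) : List (List ℕ)))
    = ?xq9001 → (List (List ℕ))) ?hq9001; (case hq9001 => (set_option maxRecDepth 1000000 in conv => lhs; reduce)); intro _; exact ?xq9001 (@OfNat.ofNat Nat) instOfNatNat : List (List ℕ))
noncomputable def wG : List (List ℕ) :=
  (by
  refine (?fq9002 : ((pk61l (fun i1 => ((fun g1 : Nat → Nat => pk61l (fun i2 => (pk61d (nat_lit 1) 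
    (nat_lit 0x2500a842829555) i2)) (g1 i1) (g1 (Nat.succ i1)) List.nil) fun j => (pk61d (nat_lit 6) 
    (nat_lit 0xda44c0) j))) (nat_lit 0) (nat_lit 3) List.nil) : List (List ℕ))
    = ?xq9002 → (List (List ℕ))) ?hq9002; (case hq9002 => (set_option maxRecDepth 1000000 in conv => lhs; reduce)); intro _; exact ?xq9002 : List (List ℕ))
noncomputable def EX : List ℕ := [0x1fc001f8001f4001f0001ec001e8001e4001e0001dc001d8001d4001d0001cc001c8001c4001c0001bc001b8001b4001b0001ac001a8001a4001a00019c0019800194001900018c0018800184001800017c0017800174001700016c0016800164001600015c0015800154001500014c0014800144001400013c0013800134001300012c0012800124001200011c0011800114001100010c0010800104001000,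
  0xb2e0126d11369e03b15044d30d299163812464f26e73183fb1fc5303a881e6dc099a406e04043890dc8b06f8503234165fb0d0a6096f812152226d802017039a6166de0354e0eecb04e481e5b903d2a10d931813e18079039650c99d0a36c03659174d810840293d1033ac13af8125a81e0c21b6ee095870efab1cf5703cb212ff50be1217021093d825d900d88526b8a1168d0bfda18bfd024df1666004000,
  0xc3e42260609d1508dc61b7e5176f301e580ace20c04d267342442e23d0306259177b30708a03802216011ea510ce641584129142170a003f211f7840e01718c041568108eff1f6c4184c4175f50817608af60bf7a0ea570170b0b2ba17f3502b1b0a3b9084460691921481117a1037c20aef90cc4d0a5a2013d81b825233430295b116e109355083bf2248617d600118b29ac21e011261b424e2e07d4a035e1,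
  0x12ece1d00015a4f2486919f600bc8d0af0212b1f21df7293cf202511eaed26464181250a56f1c69304adc18bb11d2190a7d81118b1d66025b001719a110170b0411e1920a5e10c2c41d9010c5c00b4f40bb240d9ba08f3b1e45f1c56808909248c821ae3242ce2388c19159028c52be4007e850a2451d30c26141247a5176b619624291060eea6174b80bd1312bac0e199183670d644087e40b7251edd500000,
  0x1ca8f073580fbd91da50085700db47243d50ac6b08e82140ce0c962242971f20608b9b0dce0088802568a07be00a56b0dd60261da2518a084f40e2fa0550e1ecd00d7be0bb79081e30a30413219190891d99001c9d2997c0d2471f7c614e8e0a4c429abc1958901d9d1e63b08b230833405dce26b1a1c94f07060074180b2791ed500e47a0caa2246d708c701ee7b089db080c224495137d90f0590df7e08000,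
  0x2110703149238421693416e7403e391638a1a05712eba26bc812b421a71712482268482200e0aec01fc120e4f41a91722ece095651f8121e2fa096a50e1741ea7a1f09221e071237a0a50003db9034c91607423bc216dca0397912682262480af401628a03f89232422250e121fa1e7ba0e5b409b6521d870efb403589219471ef3a094a5125421ae571673422f4e263c8129fa1688a03139233c21fad20a000,
  0xaa3718b9f0264025f8502c0008e8823a86076041e27c0710404a8a0eada173551da490a2f720e531e8261d4c90e39b0e45a206131d9892538504bca087081227f0774423946179151eb7c1efa6201130494a258050ea1a23bc612e3f0e81b0404a0aaf712d3f189df0ef9b02880183df0e5db12b7f1d3091e3a61ee3c0884817fd5255c51ed3c1e5e617415080c80a4771849f07e440e2da207532304602000,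
  0x215d5160000c0880327003d3022dd41a6db1a4ce29f40015bf0b6021aa4e0b742017bf032221e3e10ceea0f51a1604e1b0580530610d830a07b059860f8da0a97b106832181511be303c001bb8016c0018e1d0cf481a98a1b3c0247e80e0481eba11acdb184141fb8203ee229080034fb0e6bf14c85282450edbf18fd428d0503a7b1418524f281694e18b5d1b9580e94811aa31a30a221541f3c20c22a03000,
  0x149540c48f18e450f30421fd711f411020c24cd106503067d203a13219cb1eff71bca10cdc91a9c6052cf1a8c801c780c1060ae8124e8322305034a9090172469d296041331309d7b0ec6f29dc101eef01a8709c0c03d4c28e800347e0c64a0bc0f11ce40f718183c30fda10a87e29d4d212ad16d4c0b98627fc01bb5311db70e84e1ed230a6a41f7181a9490b91e2a3801eb5829a2416c88098a0297a513000,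
  0x1824e23b4a1a7052b8c32334a08e4e243de1840e201801e4d91ad8518c971706d0d412196480e5a8189082475e12b2f02813200c00469b0e2a824e420a0a30e4f519a4818857259941d1691e8992b4431d3a5171ed1af470d2521b8261bb8a0e8b50a6e31d7e51bee604e9b249c20e6d21acc70d91a12bef070430ef511dcd71d2e925c141ebe01df570ecd118e08089ce0de1a071c31b60a1eb2002ed30e092,
  0x11dee0e1d521e4f20d882646011ae824cf709a0328483014d924c160d5e80e6f818f2a1e98e17b0b1388d0290912f872423a0bc270e0dd1e1f51a2eb0101724e3f08d7920a4110a85083e21fa161c305129240f8a81494b0d6ee0b68a1ea3f0bf5921d08127260c25504dd103787232c5177e6223160eb1c0154829e0a075d5070e7246b90e0b017f741116d095050fcb31684d1396e14d8601ee02575c15000,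
  0x1dc6b01bb22652a142070f07c065061eb0d17fc417cce0c256180d11734112d4b0f8a72426b0a6361948401f8d0837d1ed3016bcb01a951e064224a91f0171cc041bb681715c0ad4e1aed804c1905b0d084521a6ea03686171d318e9a13c8e255c212796074f40ed80070660d4f1140e01164c1ad810141018f6c0d6a2220ad22d6e0381d12cf30d3f9245591eb5d0260724a6409f440348b22f8c0aadb05000,
  0x18041297d60e32a181011350a096ab082f816a580bcad0b6ae029ca174ef2988b0e6ea0ad97226c40279526b400a2dd0ac381722829d4b1b347087f80d0170be2e223040bfed2488c165981320a024d51d99e177af0254a0730b18646046850d097292d619cd826d801752804e0506c4812bf1076cb115061dcde1e1a71b707037280a7dd112061e4270ab57033681999812bb106748182860af7824d4c09e2b,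
  0x2684303acf01d35097dc032eb247cb0ac4d0db860dacc17fba0a24f0d48914ba5214221e9f3014b10e4e71fc0922b0724b411a6c2183120fa830db401e14301ba52998326689245260abee1b15109ed613cc81e4411dbd2173cd1e6ac0ecfe0f05c22bd511e620f4a41a25929d221e6e52690d0b803180a8194431f28713d461763d22f9b054410aaad21c560b7b81d5cb131d50d39c1d8540af270ec1317000,
  0x294851954214899040971d8610d1ea233d3170f718f820c95102fd101f5605b830ff0812645291141318b0199c185e00f8ea22a6c0e35e13a1802ca31fcea11a30163c50cf7c02e120315a0db1d12a540d1670367a080182374018ed80ff8e13a8c24cb30bb2f143171850c085b302c6201c3918821265de1e38f1e685032d2167541b0c514a11046df171a31ee940a4660828a0b01108321039a31f3eb18000,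
  0x1f9000a074048ac0ab341e3de243860972122b1712a9b06e47031d01fd000432c0bf7c113e503d0d0c3830d9eb131020c20325c9711125160241255b09ca10390d297282205704d8e093810bd7c1e11e18e1c03bd0039ee06b8703e2d24206164e40d62b184161209a29ca825717092010d5d40484e136c70362e18fdc133c2064c01c4101229a1358718b561b2f2168c21cb500d7d4162c203fed1b8f206000,
  0x12f6e19f800430d0bdfe1ddfb03b5f246710474d03057034df12c6e19d00037d7245f10468d0b0be04c0d0b9fe1dcfb1d9fb0365f1d2fb24b710438d030171954012a2e1d1bb0391f244f10341724ab11940003b1f0b2fe0b1be0470d0bcfe1d87b03a9f1d13b126ee1998012e2e1d0bb249311216e197c003edf0b13e04f0d0b87e03997035df12bee24ef11236e03f9704b8d0355724b3103d171904019000,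
  0x12ce00e673048ed1bc62261851e8f81a6ef2056a0e9f3186e60db6d1bf2d03d5b12aa014b270406d04a4604346180e61a85d1fa410e9941225c1b222023c80375b1a0ef1e078265c50d2ed1bfed22c500cf851d604140a71b3cb0b83520aea16f431aedd1f3411239c027c80dd4a1df8425643222100ec160ed940b28c1b7cb0bbf50c60516c8314d230d74a259c30e9560b40c17817147a31969417bd719514,
  0xe7c40f0001989505f880181226911258040cfc707d822350108d530b6c51ddf80d9bc01b4324aad267442431f08ad10d10118929017da0d0f808769230170b7940825e1ac6308e4d07d3b262681490822f52070de1e97e1c002087ac0d4fb0dba40e5b71af841df55074cc1e8aa081680b0dc07c5c0fa53189c7138500863708bf5182701d4470fba629e601f98a187780a6fa0ece30a74b083e52241107000,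
  0x1b5970a81014b0a122b91e16b2442104b47145ca17810083aa20584132450df350b85b12cbc0d4951aa960da550694b1179d0499217d5e0b09b1223c08f971e93d20fc41ee2b1e8cc0bba2121a2044c7096c208baa0dd33123f92520c226421725e040520644b14d0409c421bfd71161d1b18c042cf1e67d1ee8c2290225c8c0d7f312ce224fa1049cf1bccc147c4170d01aed60d7750b3a2084170a0d013d45,
  0x1fe5a06f810ebec03071098801780909ec922fc80dde90a80916eb312d7724afb122841f61a163072165a126c42774712cf717f31096c803bf1160f317f8903f242290812f6324a3b1ec8424dfe164c703f810af31127de09f090379c23a18038010da3003ee42614e271070e06c0680123ad803f5c092882453e1ed841af1f0ae130aef10d52921c1a0ad131aedf0daf0268ce0af891221e17ef1127a309000,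
  0x2946101d940ede101c940ffcd24e520bce1243d201e9424fd226721292e10e5212952111e400e2e111fc01124024252119000f48d1160026c61010d40bd610e4610b0a1244920f24d266a129de10f90d01a942686111480249120e021246122656111b400fe4d26be10b5a10f3cd261a10b7e10fb4d299a1113c00195424b520e9a101b142606129a610f60d0bfa129021011d40b221298a10e8a10b8210ea61,
  0x17307254d3080311c8801c3800a45420e45178a718ccd23fc808b41173a70854123c4812f97190810a67f15a8312c341edda1e257129081d0241ebd7154031dee4120481720718c090bec01ce8725f930bb2c08ef1172921c9c708e7e1847619ac120705242f007dd4124d7188cd24d8d02fcb0ae5e04c4402c4b247b004fc42410d0a71e0873e128340bd2c1e29a186f61880917dd20a6d4072940a7ff0b000,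
  0x139a50aebc178191c6541734c17b1d1a50b092d4186ed037ca147420e6b108b99166a50809c11ad511472036f81a1120e04c20b8a034bf297aa245a3035f6010a31e88813a41023e5071f208283200ce0bc711a0e2244fd22183140cf0c60b017a707ecd0dde11e8ef1bc01021811874b213c60d7b216a15214831ea9b172ac08e4c25a680842d07f891796b095121f9a2185d00aba80b8731b7c6290880230f,
  0x245db025020b769144921827a1f1e31ca5c0b9631711b09ed0241b80c6c1014eb12f7014e9c1b1300b9f7046580773321f6426d6c234da22ecb04cc30665103e9e27c410a68c0a95c149d524832054c51be8d17e4a0bab0201890b65f0b597031180b4842298f0dfb7089ef1c8e008d2724247129a91514d29c9e1b4562a88114d900e3df010210588a221c12453511e582095a0c2a50da231e3e817b7c0874f,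
  0x1769015b418d77017b401f741f5c31733e01e6922dc01ef49186f701629182b71e7890899401a3b0f54517a7e0744e0f1c5228c0083140147b22140179be012fb084d4011291ba9d145931e589010b410ac218cf7211a51e089023f21f80301afb174fe102c2029f208a54225001479321da51bbdd07a0e21ca51044207ace14f531b05d024b2072ce10a020fb051ff831b95d216a51f38302bb20fc4514093,
  0x1abc00dbc222da017f8f0b4c803f5424ffc16e8f168a71fbc81d5561796e187f20cc021d21c020dd227a02132112caa0a13d1f1480bb0818aca0d188219b208ce024a130768603e142453c17f301e17217d6e0a9301704f0bd6a1d49c0289d073860aef00acfd1a14012d0003dbd12a6a1860a24c530d14218c5b217610ddc80b96a2143218a1b1d7d60cb82037bd185721628f160e71ebf2177300812012000,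
  0x295d91dd75210511208f1dcee0c2de04b56015ca1dbb52412026919025431a993298591598521ad1114e6119e624660188b3168061e9ae1ffd112a8f0bed01ae9304dd60c91e1db2e262d9028c3125b6032160d1ce15e85123e50ef410184a22e491837316c461f3910b1900d10d0dc0e016041277617f461eeae248ac12fa50e0c103bd6221492350d0d64d017c4170c62436c21dd82370d24d8021b5824000,
  0x1b2230a50a2428505e091ef13016cc14f09248c5162660327c1b3630ab8a0f79e14fc924045058891a79105809088ee1e1d301e4c0806e141c92440516c2607be41bc631e31303c3c0b1560f55e14309078240397c0d9ec05bc91a5510d66c0842e010cc082ae0b40b078a41ba631efd30bc960b28b07e24033bc0deec1ad110d86c0fd1e01a0c0b8cb0b4960b04b169661aad10fade0bf56163a60a58a0a68a,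
  0x82cb01a6c135681438101c2c026040a61a088cb177bb1b10313aa80f75421fcd171c5146ee01ee408a2b0a9da078080107017cfb086c501fa40a75222ed31090a145ae0f4941ea7127c031b3c314201017fe21e0d13a4917bc511a1a1154710d0a22f93015fe1151a085850a492144c013c0917a9407f0818663013810570227a431ec311fddd05c82012010852b029c417554189a311a871fadd01b3014000,
  0xdf180e4e9180150306f0e88726f3c0ab11013370ddd10ba66080d501ce60e9f903527020860e4a20b3c903173135a90129f12af81f5af0e90925ac7240ef0ff5117da20fe0a24a041bce4155ca164c9109c7200cf0746517b8308b262105d012fc23ec728d4102c4d117d11a40c24fdc1ff4c2064221a8512259132a40ae201a1da0438b0e34318aab29689018b6121811b14f0e76d08a5d25c200160e0bd76,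
  0xe34602796262a712cbe18bcf0a81f20e4d13d5c1e33616a9c24e7604f94183a421dd30d63d01646265e70c7d8080c712dc916d9c1870f0199e04150037d126593122830e9100a59f20fcd22ce612d2d040941b61a1297e1cec30d93d01ac60e6101b91a120090eb8607fe811905081c7012de125c302ed602c6d0ccd8043101c78303cd1026ad24ff62101311605186e41321c1e1761212d227e62681307e68,
  0xb5fd0ede524c1424f140e16001d680b67d0570721fe6012680bc2b0fcf40e86514db10d1741a58d0de340538724610015280cd59011e81b1371a44d0f9f421466143f1247900c2591bdf70d47f0b76b0e1250e6e005b870dc74246940d6f40c519248d00ee200b6ab0dfff1b0b70c1d90b93d1b8770f1b424e9024754053071afcd215a60ec600bb3d0bf2b142b10d97f1a94d0f2f414af10e0a50d5bf21966,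
  0x1c8f296320eacf24027137040a6c71cc8c2174029b320af830486a245a21d08201fcf125150e5cf01b8201bc20adc30b2550d99f29fd5269dc240a7178111d0021cfcc0a3071334404d2a24a620dc160b37206a8a12215201831249d21c4019d5c0b0d50dcdf2655c1745113ee0063ca0c6a10df561144f29c951170820403121dd0b7321989c122fb138e00ce211180f11348172bf127fb0970b1767f0934b,
  0x8f3c23451180350d99e15008298661fe8e0af162692604702160b221ae81ff4d037c50b50e171b207ccf16ab2262e61f0cd24374125a70a2560a769123cd295e6121530d6650ef6412050018730b70e017fa12a8618cae21a2e03605170a91118a0163a015f3186ee0e0e4214ae12f8d0a5a917aa912086236910827c12ad012e530d125210680de9e07b0f17ef215d881f98e11eca18db512767248b404502,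
  0xe45805c8b260582999814783081c424fda0f71508dba186af01e85063501807f24e5a0fbd5292d8265580b218145c3092591872f142831191326858181bf067500ea5809499089442425a08b3a1161306e1008c84290180bd580fc5529dd809e59080c409fd90e518051cb01b0514ec311b530e898050cb18c6f0b818261980b5981887f18bef01d852449a01a851857f0f69508eba113d308aba06b900594b,
  0x869a21eb016c2807ad91f2050ad06180f42510f26b5529d4722f8d1e48a0ab251243d142a90a07507e070410c2618f0abd51d4030b58717e790ab881301709ef501d6e2931d0e6fb010ad0de13088960aab21fddb1fd9f022101ac9009b06097ee0b5dd1775603c430ea7612bab019c906b4917b080d3cf0f9c1178a40fae0017aa1d0c517ba50570c1e2a91c24a0125b12b0a1edb40ca3221fcc1328f0ffcf,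
  0xef3c0a9f32158a018111eb0016a990f06c2124a01ae20fa020ec3c0a1b303aa00ffac2144a01e510e7cd01a51083721e90016b59086f20fd2c211ca012a207d010e73c1eec00ff420d8af03b600f02c070010fe0224b6a01c910e98d245ea08bf216659081720ca66070410ebbc1e4c00d22f0cca607f810fc4224aaa0e54d2466a03660165d90c8260d0ef0ce6601ea20e40d035e00d4af016220adf30a0b3,
  0x1121626bc2144a8268420edc20d2030c3280bcff03e041f0d0183de11cd614b680dc101d5d8010fd139c30bda80208c133431b1081d6d80fb49031040c8e801b3d18d930b23f031f71887c0dad00e8821f58b1825e0a6991fb1002a5a0dcc30f4890b9680cb2005f84189531be0818bfc246ca03eb71931e0a5591ff8b0280c1872222eca05584198de0c0e00de761e60622f4a245ca1efc6022da0d93618062,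
  0x1dc880ebae097e91dfc80e42e0e6ae090291da88125d80ec6e09d6912c1812ed8092e91de881d4881db080952912658124d8126d8128d81db48090a90e86e0e76e1d1c812ad8123981d3c80e1ae1d6080e36e12f58098a909a6909ce9094690ed2e0ebee0e9ee0922912318098290e12e09de9095a912a180e72e1de481dd881d2481229812f181d9481d9081d0c80e56e09fa90e06e099a912798121580ee2e,
  0x12ab2242490b6fb0bf7b0b5bb128f212b320480124389122b224c4904381241c912cf204c410b0fb0434104a411243212af20b6bb127b224a490bcbb0430124309120b2120720bbbb242090424124e09249490bd7b0420104e010ba3b04bc10b73b125720b53b24349041c1248090b77b12b722488904c0112d320b17b048810be7b24c090b47b1293224bc9122f2049410b4bb04f0112df224fc904fc124f09,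
  0x94de0eeca04d5a0911e2611419b851efe217e821a6430cd940869f17e1f0e6050475a111c30ab6a06f021234c18e591e40702e8e0ef851e18b1ef221fd590c9940a2ea1a9c31b1d517002264d406fc2037351789f0851f17b6a080500d55b1f7590e84a1658412a4c0200e0dadb1d64624698172ea0e3bd0347513e941e5cb1e6d618a190e27d13014113031e0d616b84245181d9c6088d01e2871b31519585,
  0x120e10edf20e5b20e4720e17212c61124a1128610e03212be10e7b212da10ecf2121e112d210e83212421129e11272112e210ec32123610e5f20ea72126210e7f212261126a10e3320eef212aa10eaf20e2f20e6f212121125610ed72120610ef32127610ea320e2b2129210e4f20e3b212e610e67212ea112ba10e532121a10e2320e9b20ef7212ca10e8f212fe112b210e8b2123e1129610e0b212b610efb2,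
  0x14aac01253147ac14dac01c5301c931466c14d2c01d5301e5314dec01c130159314eec1456c1462c1442c14fac0189301a5301153018131486c14aec0171301fd31492c01213016d31412c01693149ec011d301a131402c149ac148ec147ec01bd30149301e13140ac0131314cec01353145ec142ec01f13010d3143ec1406c14eac0151301f5314b6c141ac14b2c01753142ac01b93144ec014530139301953]
noncomputable def EY : List ℕ := [0x2fc002f8002f4002f0002ec002e8002e4002e0002dc002d8002d4002d0002cc002c8002c4002c0002bc002b8002b4002b0002ac002a8002a4002a00029c0029800294002900028c0028800284002800027c0027800274002700026c0026800264002600025c0025800254002500024c0024800244002400023c0023800234002300022c0022800224002200021c0021800214002100020c0020800204002000,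
  0x13c030c5481158729540298cd1920318a3f1f6c90d5a11f6c61bc031ec531b6861ec70186530f07c0daf80af4a0b12f0af5b0d1721b1e305f4c0152326d8d0d4cf1ef0318def015280d4f113c100c84f0309311fd51b1e818dd8023250b1182652a0daf603840177eb11213143cf0f920112300d5bf24aab1867003869195c92600f143f1023041d107030b02671a1de980d1741ef1024a85177c518a2105000,
  0x11f6429ee12544524c5224c55296871025302e100245102e031edbc296591edbb29847105cc19f6029b110164a112a40165b021620cb1e00a40028a30ccb202a050131b036d9029a3028c51134d299fc2977c25b8a0ceb2036cc2510a11d0d15a4f29de4240521e0fb2995119f82192a02946402dd1024101091324055293191500f1920225dc503799293a10c95e0378c02ae20130a024031e0fc10f0c00000,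
  0xd5e9221180f5741f4d31fada187bd04782265ca11c81266c20514720bc4057cf2020303631010880a44f1277c18f331277b1bf6111ddd019ce29901186fb17862032e515f08290a8178660d5c022ec812da30fb6111b0f15ec50be9e18f35022890a4711211124903211ae0c9ca0109f2105811a650ab830360f121371879e022860cd030bebd1e36512da8186fc1e3441be32032c40ab902491004796019d7,
  0x1e49f1889b036f9213f221b610df971da35123710f65c1234f26dc8296882688e2930f0e019098800819c0e88c124310e8990fc240869c0902913e8826a800e06e1d2de0d80e13ad50e06c1e4881888a214b2036c1086a40d8172600e1240f0ebec081a41800a032812605913a15098a9269400f6641e3df0e00c1801b0df8e0ebee130c826508291882126126bd9294cf0fc1c1daf51e3c8032b91d45e09000,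
  0x24418158c10528207c4a0718a24caf12c4c1f6cc0d5901f6d9075481f5cc076881f5d9037f501ec012199036731f44c036750d14312619010290d4c303a330152912fd924b980d4d0015002442f1530107fca053821260c24baf074881f45901f401218c152010588203d750df9001ee903d730d58324a98037f315cc124c9801f690df8307b481f98c0760a03a351f9990d15012fcc24aaf05dc212c5901000,
  0xe6b224b5c0e6400ec290ec002884506ec11610e081921660e25e8213bc2258c713a470edb224e240e1b4134c716cb313a8224d24139870e02925702280c50869516e4e06f0125507086920e6b424b64250c20e669130420620108c95166b3258420e1b208d952425c161b30e88024e1c16db308195133070edb408d9228e8525dc70e8a908c920ecb425147287050ecb224d1c1674e1394224264067c10e000,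
  0xb49c1518d076de072b307d731266424f9f0cd551f8d00ca45077bb0c295075bb0c4c5181870b7212438816f4d23f4c165031e6460ba9911e961e8861608d117160bbd90b9dc1e88911c000b4a415c8d05bca07cde0ba8c0b9e405748233970bea12439f2aa810730218c871f5100b73f18ca71f8c31289c181a72abc11265c0bebf1f503056082308c05a8a168c323f971e6490bbcc128a40798224f8811000,
  0x1a3d31308624b940a1ed0a1da0e1e324f0725544206422541421d6624c8e21d6224c970e14108430163490bf0129e320bf3928d410a8c508fa908b261e4fe089280e1370411808b22089231aada130892251324b8b0a8eb041ea0ebfe296de0f3591634618d681b9d1061110ff51084130634a209081c30f0e17918d630e1e80f9400f5a80ebe012738229471e4e012736289430e1111c3a81b9f724f2708f80,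
  0x12b60142521a5d714415144121b56d0a8ac123600f64d1237e1a217096a41a20e0969c1e7b8044d320e8d0a4ec1e7410a4ee0fa4d0dfd9048930e061205aa13e9e1ed7809ea40e07f13af812b7e1425517fdb1a5ce0dfcc09e9c218951e7791369e202aa17d1b214d50dd190e1e1043000dd0c0f99a1e3c11e7b617d0a1b55a135380e1ff215871b95a17fca2068d1b96d0fc1a1ed761e3f9212870a8ae04000,
  0xde371b9e21308f0d82d0d81a14be30db040eed60bae60eec2140a90ad34140800ad32034580e8872008f09881086bc094ee08add1241b0bd78121c1183e61a4191ba4b213e3121f91a40c0de111b9e61d965139e81240a213e801f6c086bb1801520dda0ebf30a1d20a682179030e8a70a6960bae2032430346f0ebf514be8180121791001f6e1bc641d944183e21ba0d08aea1b0c8032500a1d50db250bd76,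
  0x7e8c1298503e8a1610516628123cd083ac0a5a9162410a5800b67318d340b67518d322614423607011ad1fe1f0b38b1fe08171180b45d0e15a188f916ab20a8f7236910785c188c10a8d107e99129ab0facf03e9b0b46a07864224d00b394074a50119a1f12b1fb011ad440bf1a23b061a691163581ee32266551f105123fa074840bf2d224c31f9db0f2ea16ab41f9ca1712f23e021ee341f622083ae0e16d,
  0x172d411fda0291d177d4177cb126e51891a245201ad812453e17d300234717d1302e9d019fe2378d11cad0c9d61cbd40c9c2074f4178531230418e9a17f862423e234cd1ab4118ead24220172cb11fed0156002707178701a6620384b1cf4417dc611c9a1000a0c556077b41cc04235d8077b21a2a203d14019e010f85126c417dc91cb940385410dc50157e17f891008a074f223ad803d0b0c5421892d12325,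
  0x1d51197d90da5e1d5a01df7b1ecb7241a8018ef0a0ff018d826fe601a0526d1301a2b014e21b7e50d45826d580a23c26fac12c97141c3035ff1e95a0ed0e114320a901144451e96d117a101d771938012b2e0da7d141d0142c2129490a23b09d150d46f0421c12bc3182d4126c81b601182cb0a0e105a05014e604f8d1ec9109d12126df129460fc8a12b2c0ed170fb8212c8e0a93905f8b12bd0241a3035e1,
  0x968b0849b24dd91484e148572457b08a0f16107081a5161270a48e063490a497063460eecf1e3de13e250448c0ba000449924d2d0fe410688b0868d0a8932558c17ff1188ba086ba25717096940848a13f0c24dcc0f7271888d225c40ba29048ac13e040dd070aef81c920296a01e3fd1c080081841330e0eef10dd272457c0400f29318229cc13e8113f190a8b013ae024d1a17fcf133170aef608a3106000,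
  0x3abd01b3026b03010700105309a450ec5d0499108f4b04a45269490357d260430355e0b8c82074e22dcf2256009c2b22acf0f1940b2c80871908d4b0e95d2048e1344d0465108d5420c8a03a9e01b13145ac26c490b2df04c050d34609c0508c9922aa0146ee0d2491314d0fe942070a13c8a08f5412ae90b8df146ec09a6b08c8c0f1050d34912de9145ae0e96a12dc00f3c51370a12ac00d2460ec6a0870c,
  0x29ae5177d90c849027010290f0c9c61754c0c2c9297840c2c629ea51741929e841740c0ccc902b810c18902c0102a8f024cf0cdc602b4f1798c0c109293c417059292a502ecf0c1061704c29ac4177cc17d190c8460268102f010c08902741025cf0c1860264f298e5170192962502b0f1700c297a517f990ccc6023010c9c902381296040c08629da517d0c293e529d840cdc92928417f8c298c41755917999,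
  0xd2a61f9c201bd2119631196802d2d033510ca581f6420cd601ee2a0d4221ee1d0d4260392a018121e5a41eba40c7601eb9c1e66103ddd07c2611c2301d5e1e89d03a51027ad11c281e8aa0d2a21f9d618d2a01bd503dea0279a199c40c358198951e59c1e9e1079660175e1879d018150177d1f656128b50391d1e9ff02d1a19644187aa19e1512e3318d1d01d7d12e351e67f03a77128b307e800337707000,
  0x19b9409aa11b14703fee03fec0b3cd0a6a3089490318e08946110c61d3c2118831d3d60442d1fa8726a140d91f245fd0d9080b9a012f5d0fdc903d88186a52218a0c3000788303d9f2219b19d0509cb80d6cb1bbd512f6a0764d0a42a245de05e41264c50d36b1e0871a70724acf1f3cb1a58b031970d4820441a0d3450b3fa0574424af10a41d0d71b0d6d4186840d70a0b9be0c6cd0d4961e0a70a6a80f8c3,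
  0x24bf00e8c9091cc139241391c0f4440ee860950c0887e095190e82f1b5400e8181bad60a09e22c941de5c222140e7032220b1d8a40eb881bd960a85e06303016a10e0ef1365c0a87d016bf24bd30e8c604e14091d90eb9f136640f3550e7100e3881de640e303067100415424f7022c8b0414b0886001c210a0bd0e3100fa150e39f24f530f944080a004e0b06310080be1d89c0e0d801c3f067030ee891b000,
  0x148b1e1e9226150a5b50a5b3179be1a14921da51de5221a810a3cd0f28e0a3fa0fcc8013cb1eb0026ba10fd48099e00f6ce0d45c0d19d0a0b50a48d17a7e0ebbb21ca51a8c60a4ba0ebbc014941e1c02108a226120d1aa1a8c91d6150937b2158a263f40e9fb0d2e409ba022e551eb290943b1de550d69d013d40e9fc179a02188c22e521d612269e12100c17a60264b40d464219410d6aa0d2dc1a1460a0b3,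
  0x1939e036dc18dd70329c032a4071200580e07ba003f5c07d201850e195de1851719f1e02a4c182d70244c0250c07420022cc03ee40298c18a4e0379c05f8e184570520e079e0037a41844e19ede036e40339c18dce0288c07e2018017077601898e02dcc035e41888e057ce03f24182ce0558e03f641929e0200c035dc073601899703f1c1800e196de033a405d4e1979e03edc0508e19f5e1889705cce18a57,
  0x242b3165e016d481667b167fb070870bb910b54724d090b567061120bb4706d920bb672381322f970bcb70e63608baf0e6380b1bb1c08a1fdd20b63b0e1b61f2921caca24df30b63c1fec0242b5169a01659e16a081c90524df52a1c008b98224d70bc9106c4428f8023c1324b0922f8e2331a24d0607ae72321a06fc4070a7224ce24b062a34008caf1615e0e1b808c980b1bc1c04507ac7284c00bbb71f000,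
  0x1aa8d14a6721e9a1a66f1a658201d117db91df80175771dfa927f8718b362750018b380e7650c9dd0b185237881784423ec1017d61ca071b39829d052bc80039e2179da177e429295039e61a5e314a471aa2a21ead1cf42177dc09d1717865109800b1ab17dd71a3c81d3c50c7fc0c9ea1d3eb175510ab0b0e74417dce20fc010f830c2e1097480cf871aa1d2b2030cdd9017c2179ed0ab141a3df17d811bbae,
  0x1179213cf032ba036c7036e70e8a40bae8179321e1cc179340339a0bd34033ad0bd321ef4f0164f01de4190a40cb011909c1bc4c1128b21096085970710f0a3e7121e724c4a0858e0a3c70114121b5d268bc0328d11d0824c5b0400e0cea82406201ddc15a4018dd60a0190d2d5016710a00c1e1d926bdc1ef711500a0e89c240660d2d2040171ff9d26de0073551ffaa1ba0a121c726be418dc20bae321000,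
  0x185ae02f5315783020930259301fba1fc0e18f6e12b7f18f6c15083187ae15583187ac11e8a0d23e1f6571f88e0138d1f89712d3f1170a0df3e12e3f1f00e0defe1184a180ae12e210dee0185ac027931944815f4311c0c180ac025cb013ba0d7fe1f64e19a0802f8b110ca1227f0d2201188c12b610180d1100c19ac801f8d0d7e0122610238b015cd192c81f017015fa12d211164c0183a0280b1fc170df20,
  0x2170d1a85017abc17bc817bdf17b610cd911c2570b1d51cd4c1461c178c214c41178d6276c3083e11767c09b5e088ff09e751c94c1715f232c3175ff129520c6640b5920a9a6175e10c79121c641a843173c217abb171480a9a227343088e10a4261767b0983521f0d23d0012d55083ff238430b1d21a2d027f41095de17b7f0a42212d5227e0114adc173d61295514a011c4570b5951a2c321a240caa423000,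
  0x3f45085c2213970145d0146a0a1490d6300950908842095060a5fe030eb0a5e0030c5291e621fd717f001724009706172691d31029c22130290169d12a1e0a8600d7f00ae49016aa0a87e03f6b085d60ae252114529c260ae461816b0970918e4517f291d95013da91249e0aa4421e45124bd0885601c33291e21d9430a14618e6b0aa6518145011f50ae0412a3d011f31d3030d7d301c3513d800d61313000,
  0xc94b0eb1208fc323a4a23445162a50eb55081c317c9d081d00c38b0e2d20c3940e2d5083032334a1640423c4a1ad4523745160651a7450e09508f031715d249d60cc0b23d4508f10249c20c9540eb152465608fd01a76b2320a168c41ad6b1a705164251a44517f6a24ed60c24b2370524ec217caa24856083101a46b162841a72b0c254168e5174aa246421716a1749d160440cc142484217f5d0eb520e092,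
  0x219d30dd7b042c40df7c0df7b22da61e385216131711221630048c41395804141133050ac9f17ef601e891e2051bc971e22b173d21495117fb620305011861d9d90a71f13c58202531d9cc219f00dd7c26ea804441149ca13885121321b8851d61901e86261a8123f214c512088517ef81460a171151b7170ac88260d12200d1d60c2035312134224cd266910118922866173d50a7081b305123f41e3ab17fb8,
  0x11645084e70e3d302e0202e161e57a093c3095a50d37a095841ef730b0c31ef750b0d018f4f01e7226b811ec2c0d7231ec2e1df01118a214913216b7120822274003c891126e216912276911857084c7043d00e3f0118a611d582958a0d72818691263e724af82483920d012446901e74209890d34d0138418f7124af61e54d186b72444029fc307645043c312096078a81d82e03c86013a524801093d0146a0,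
  0x11ad1078941f15818089180861f5cd0b9020b54e24d320b557013b80b1ee013b60b1ec0b049034fb1f31819ad8038fc19a010b19718f8616ee61fee312b530b61624134052c61f28d0b60211af70788b0b0ee1f16f18f89052c90b849038fb059861f32f19c011165116dc0123f0034fc167a624d34075140b046196581f7a305989123d30b846016f80b0ec12b70016f60b18e241320750b116770b91616000,
  0x1e052085f70fa260ff660f59309e981ed12095071768d098d808911030f408937030f20a0981dc940a858092470adef096181d88b097981777a1de5403a7417f0d034b20a12f1de4b17f3a1e055085d108b370f45309d470a1180f3660add81d20b0a86f0ffd3086511e7d517c3a1dc8b1e7d2176ba038340a0af0fbe6091c71d21417c0d0f9531e99208b1103a721e9951d894034b403832086771ed151774d,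
  0x4b9f1e4a81dd210aa9c0aaa41a382147251793d1e1e81791e08a7304bc808a7504bdf183e01d861030550311517e9e031121bc7018abe180290a3dc09796085b5143651a1420a3e4085b304b881e4a3222c51db3818aa01a1561408817ebd14899030521b770180a9094d6226011d638094c21e1e326a9e183fe1b7531a39614008227c514d5926bb322b0109782263de1bc531434426bf3180801470418000,
  0x169cc0f56c0b9ca2492a2491d1d4c62160b1e3a2244371e3a62407f1266624061126620fdd808508031a024aff247b724ae1212c8221961efe21480b0871f1d9c60e5ca13893148141d9c9169d90fb5803efe0b9db2218213c6e12122247910e85b031be164d922ec214c541382e0851f14c4b244110b4db0f8ec164cc1d4c90e84a1335312126242ea03ee008708242dd217cb0e5db0b4ca22ed6219081efe6,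
  0xbca51adc00cae516d4f16a150c4c417eee1c1d30b1c41cd5c0bb70177ac0bb53177ae1c0d31620f0c8e5077c916315077c61c59c161551ad120c6650b613175ec0b96507cc60c644175ee0bc841a112172ac0cac41658f07cc91cc931680f070860c8c407f860b0e51a9800b3f016c151a4120b1e51a2c01c21c07f890c4e5070890b3d31c81c0b930172ae0b6300b9131c9530b9441a9d20b0c417eec1a000,
  0x228ee0c826125ed0e54d0e57a24f4d1e2161e8d7222ad1e8ce16ddc1fd1116de41f184128cb13f5405b43244ec0ed2b244ee01b50222c91e4540d139083811804c251d306b820d10118059228ec0c82207f18125da222c606d0518e5c0ed050edfd0534d083721c9d00204e0827d13f4b020572241103b02128d40837424f7a0edde0825e18e641691407f81083b91690b01b4325fdc03b161c9c31e2021e44b,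
  0x87f6256e02998224384243a50209b25800295420609929556089b625160089b825e40297c224684029ca243040e5222432502ddb0efe225a402940206dd9296c6085762476529416296c9087f825c8029346299960efe6247440218a0e5260ed62029db0e96206e082914608436246a52914906f4829bc6297d60e9660208a0ed66084380219b06c482934906a080619902dca0857829bc9069d925be025360,
  0x1484618ddf21b431889f1888801d871e25818b431de1718b502124614bc62148314bc9010190dd350d5ac0dfae019670dfac124ef0151904b471d1171e3d80d7750ba0f184831de880d7731484918dc80451b213c60150c18490035f601947044870d5ae0400a036f80b64f1216f0dd330b6711d1c80f91e0100c0401b01da70405212158035f80fe5e0450a1e3ef0f733124d80ba310f073036f61e26f04712,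
  0x177f517a731ae5b172f5172f3172331a0db17d751ab4a17d731a91b1a94a1a90a1a95b1783517035175b51ab1b1aa8a1ab0a1a48a1ae8a175351a25b17fb3178b3170b51ad8a1a24a178b5177f317a75174731ae4a1ae9b1ad9b1afdb1aa9b17df3175b3179b31a61b1a1ca1a3db170331a1db1ab5b1ac8a17833179b51723517df51a3ca1afca17cf51747517fb517cf31a49b170b31ac9b1a60a1a0ca17533,
  0x8d45169c206f070638706807080c50858508e6b1664208e4516d820876b16182087450816b06fc708f6b08cab08a0508c8506e070848516f8206247086ab165c208b85086c506bc71698208d6b163c21684206207084ab086eb0630708a2b0634708f4506887166020852b1600206c4708505167c20872b0814506c07080eb061c716ec206a470844516e82086850846b0694708bab0870516102085ab164c2,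
  0x2f1f0e1cb086ed02fdf02fc801afc03b231b50f027121b95d29e2a080da29e1d080ed044c9107c70e314253cf29acb252a817d232989d0157b030a3021cd1bc1d103c702452030a81b68f02f080e1d404106086da298aa024551ed4a29ad40230d0e30b25150257cf177a32955410542177a8027151e75b044c62514301afb026722954b1ed5b2548304109029f22549017d2810ac21e74a2542803b280157c,
  0x7a8e16fca16a8a16b4a1640a0718e07b4e07bce16e4a0784e16bca071ce161ca07d8e07b8e16d8a0774e07e0e0704e079ce1610a0710e1668a163ca07fce160ca073ce0754e169ca1670a070ce16e0a1624a1654a0734e0768e16b0a0770e1684a0740e16d0a16c4a07e4e16b8a1618a0790e1674a0794e07d0e1690a07c4e16e8a1648a1604a07b0e1634a0760e07c8e1660a0724e07e8e1694a0748e16c8a,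
  0x1748717c6717447172471726717ba71720717707176e71772717f4717a6717f6717a4717747179471768717c071732717c271752717f271734717d4717e6717be717c87173a717d6717bc7174a717c4717e271746717f0717387175871730717fe7176a7171e717a07178a7171471796717887176c71782717767171c717b8717fc717167175a7170c717e0717e47170e71750717ca71780717a271722717367]
noncomputable def II : List (ℕ × List ℕ × List ℕ) :=
  (by
  refine (?fq9003 : (fun (On : (n : Nat) → OfNat Nat n → Nat) (In : (n : Nat) → OfNat Nat n) => ((pk61l (fun i1 => (_root_.Prod.mk (pk61o On In (pk61d (nat_lit 2) 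
    (nat_lit 0x9000000000000000000001) i1)) (_root_.Prod.mk ((fun g1 : Nat → Nat => pk61l (fun i2 => (pk61o On In (pk61d (nat_lit 2) 
    (nat_lit 0xf1cc4b7dc71c6bfbe9e9cd4e7b78ce3c32e363ac739b18d3de87c92f9f1337b48bf1919ce3ffffdf29fe746cc8fbdcba7977eb1bd3fbffffc78f30b9e363b88bb3bcb8dbdd2e84cae09d2cee7b9de9cb3ffffe7dfa371fffe7b9e934ca3) i2))) (g1 i1) (g1 (Nat.succ i1)) List.nil) fun j => (pk61d (nat_lit 9) 
    (nat_lit 0x176badd2d35ea9d2a7d36964823311853fdeaeb70b659ec55dac9549f4e255167a3819cba53238f46a311608c3615060040000) j)) ((fun g1 : Nat → Nat => pk61l (fun i2 => (pk61o On In (pk61d (nat_lit 2) 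
    (nat_lit 0x9cc90e3cc7ccbcdf5fd23ecb22c8eb71b6376332723b37271af8cf3fd8edacfce07efec74cd128f99f18b4cf711bacefdef62b7e42f768ccfa3747e86eeed1c9d3febf07dfde7232a7634a2cb8b1c9db12d9ff79df2bc3caf5bb79a6e27f62e6) i2))) (g1 i1) (g1 (Nat.succ i1)) List.nil) fun j => (pk61d (nat_lit 9) 
    (nat_lit 0x180c0602ef6bafd6aa5489fcde59238cc420cfd793a1bed565b0d6eae5327122853e1ccd25f2a92c8439178983a13050240000) j))))) (nat_lit 0) (nat_lit 44) List.nil) : List (ℕ × List ℕ × List ℕ)))
    = ?xq9003 → (List (ℕ × List ℕ × List ℕ))) ?hq9003; (case hq9003 => (set_option maxRecDepth 1000000 in conv => lhs; reduce)); intro _; exact ?xq9003 (@OfNat.ofNat Nat) instOfNatNat : List (ℕ × List ℕ × List ℕ))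
def ER : List ℕ := [0xf000d000e400fc0090008c00f40080008400ac00b800f8009c00a000a40094008800d4005c004c00d8006400c400c800cc005400c000ec00e800bc00dc00e000400060005800500048004400a8007800b400740098007000b0006c0068007c002800240020001c0018003c003800340030002c000c000800140010000000040, 0xe400dc00c000a000ac00b000fc00b800f800a800a4009c00980094007000f4006800e0003c00e800ec00d800d400f000d000cc00c80060005c005800540050002c0064003400c4003000bc00780090008c008800840080002800240020001000b400140074006c007c004c00480044000c000400380040001c0000001800080, 0x4c004800d000100074006c008c0000001c00f40090008800fc007800f80084007c002c00c0003800bc00f000d80004004400c800ec003000c400e800d4003c00e400e000dc00cc004000080070001400b800b4008000b0006800ac00a800a400a0009c009800180094003400640060005c005800540050002800240020000c0]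
def D1 : ℕ := 0xa68b479512309584b7a60231ba9876543210
def ED1 : List ℕ := [0x4000800001, 0x9f00770002, 0x5e00a00003, 0x1d00890040]
def D2 : ℕ := 0xb038721469a5a20961354b78ba9876543210
def ED2 : List ℕ := [0xb3004f0001, 0xb400550002, 0x6400800003, 0x2f00920040]
theorem k_gens : allT gens = true := by decide +kernel
theorem k_tx : injT tx = true := by decide +kernel
theorem k_ty : injT ty = true := by decide +kernel
theorem k_RT : chV RT 64 = true := by decide +kernel
theorem k_GT : chV GT 44 = true := by decide +kernel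
theorem k_wR : chW gens RT wR 0 = true := by decide +kernel
theorem k_wG0 : isW [tx, ty] (wG.getD 0 []) (gens.getD 0 0) = true := by decide +kernel
theorem k_wG1 : isW [tx, ty] (wG.getD 1 []) (gens.getD 1 0) = true := by decide +kernel
theorem k_wG2 : isW [tx, ty] (wG.getD 2 []) (gens.getD 2 0) = true := by decide +kernel
theorem k_x : chL RT GT 64 44 tx EX 0 = true := chL_of (by decide +kernel)
theorem k_y : chL RT GT 64 44 ty EY 0 = true := chL_of (by decide +kernel)
theorem k_I : chI gens h1 h2 tx ty GT II 0 = true := by decide +kernel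
theorem k_ER : chSs RT idt 1 64 gens ER = true := by decide +kernel
theorem k_V1 : chV D1 3 = true := by decide +kernel
theorem k_S1 : chSs D1 RT 64 3 (gens ++ [h1]) ED1 = true := by decide +kernel
theorem k_h1 : allT (gens ++ [h1]) = true := by decide +kernel
theorem k_V2 : chV D2 3 = true := by decide +kernel
theorem k_S2 : chSs D2 RT 64 3 (gens ++ [h2]) ED2 = true := by decide +kernel
theorem k_h2 : allT (gens ++ [h2]) = true := by decide +kernel

end Cfsg.Agent.H881.MF.Two
end

-- part: H881/MF/ThreeDat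
section
/-!
# Overgroups of a Sylow 3-subgroup of `M₁₂`: data and checks (helper881)
-/

set_option autoImplicit false
set_option maxRecDepth 100000
set_option Elab.async false

namespace Cfsg.Agent.H881.MF.Three

open Cfsg.Agent.H347.HX (alb of_alb)

def RT : ℕ := 0x543ab9786210786453ba921083b947a65210a6538b497210749a56b83102b834795a61023b879465a0216b473a95821046b3a7895102958b6437a21089564ba37102a3798546b102b46a735890215894b67a30219ba768354102354b9a6781024359ab8670216785349ba102867345a9b021a9b6874350215a68b374910265ab3897402197456a3b80214976a583b2107a3859b4602137a5986b4210ba9876543210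
def GT : ℕ := 0x9ab8673452016574b8a9310275469ba8302193b84657a1205609b17324a832809a6147b595b874a63012173b0925648ab80a72541639476b82013a59513806ba27949b453867a012465793b820a10259a743186b290658b143a79041b782653a83124b067a5960b284513a97b823701956a4620b3417a89518b396245a0751a608732b49a346718b920570b56329148a4b26870a9351182096a3475ba437681b2905a03b16852497a83541096b729156730ba2847b2610a49583b21506843a973647ab198205b180327a459652a0698173b47b69a8150342562403879b1a20354ab86917196537b02a48278b46915a0302314a76895b6138294b705aa531b82409760453798a1b6232905674ba18024539b68a173582964ba1701a09826b54737136a5b428094a87153206b982195b64730a8259a6370b4191a3857b62404a97865b230182a913b046752465719a803b43b1789062a52693b14a750809b7563a2814291b7a58603472150869a34b468a25b309170346b5812a9786a473501b9258290a6b47130a9428b71653920a654137b84650972ba18370354ba1968262501a39b74843716a9b0528b70852a4916334b650129a78b41a856079233517694ab8205403628b1a799230187ab45642159b6837a018b027653a4994a28670531b420517ba86395a964218073b760951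a843b230a5b76281949841350a67b2a1856b7239047346b859a21026a5901b7843432ba7509186814963ba572090435728ab1623b46079851a72a19b3546806478152ba90308327b4965a16971b2435a80869a532b01473a798b015642137a0952846b56927ab418306b29578034a18731605ba92443289b6a05711584ba7320691b924530a86764a7b3980251548b273961a0614a7325980b79136580b42ab436781a925008639152a4b7489b0a71652314ba2369708549723a810b5615372048ba6990568214a37b36a5910487b2872b039a5146194076a2b58332015b79864a6834192b05a731685a407b290b612598734a35a1762904b887245b60a9311b52897a046350b41a9278366180372954aba467519208b3845ba0316927416a0b28957319732a84b065672b093415a839407a685b21158a3602b9477164908a3b2507b863a1945226a47539b1089ab810523476382906a174b52475b90831a68160ab245937758a30649b219b126738a045597403126a8ba3b46701589202a193b864572839b5a471065b1263740a89b0543698721aa20157b46893ba9876543210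
def gens : List ℕ := [0x37a5986b4210, 0x7a3859b46021]
def tx : ℕ := 0xa20157b46893
def ty : ℕ := 0xb0543698721a
def h1 : ℕ := 0xb80a72541639
def h2 : ℕ := 0x95b874a63012
noncomputable def wR : List (List ℕ) :=
  (by
  refine (?fq9004 : (fun (On : (n : Nat) → OfNat Nat n → Nat) (In : (n : Nat) → OfNat Nat n) => ((pk61l (fun i1 => ((fun g1 : Nat → Nat => pk61l (fun i2 => (pk61o On In (pk61d (nat_lit 1) 
    (nat_lit 0x59ab694c4b3d562474e5362) i2))) (g1 i1) (g1 (Nat.succ i1)) List.nil) fun j => (pk61d (nat_lit 7) 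
    (nat_lit 0xbb5e8cc8f09eb868c16284880e192c4c80d14203040404000) j))) (nat_lit 0) (nat_lit 27) List.nil) : List (List ℕ)))
    = ?xq9004 → (List (List ℕ))) ?hq9004; (case hq9004 => (set_option maxRecDepth 1000000 in conv => lhs; reduce)); intro _; exact ?xq9004 (@OfNat.ofNat Nat) instOfNatNat : List (List ℕ))
noncomputable def wG : List (List ℕ) := [[0, 1, 0, 1, 0, 1, 0, 1, 0, 1, 0, 1, 0, 0, 0, 1], [1, 0, 0, 1, 0, 0, 1, 0, 0, 0, 1, 0, 1, 0, 1, 0, 0, 0, 1, 0, 1, 0]]
noncomputable def EX : List ℕ :=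
  (by
  refine (?fq9005 : (fun (On : (n : Nat) → OfNat Nat n → Nat) (In : (n : Nat) → OfNat Nat n) => ((pk61l (fun i1 => (pk61o On In (pk61d (nat_lit 540) (Nat.add (Nat.add (Nat.add 
    (nat_lit 0x2000e3518c0c24c1a156245544c549082c3283538529a6821649355543c6895cd1810879393733587634559594855874a0070a64d1b00062211376040c3462d200332811234d373463c0940464f85191663d37b41558346673cc101568b58b70649405550f1c208354201805f48b530536c3003b0112e2d00500043146423cc4d0cc0244e144c85e596241d533449043d14a3d14d4d05858316492304503418307489394da3c146916803f14d551cd230c25a64c5e0872421221154180005f587432cc035d0594c3685d01264b9250373287071017954f540960c2c176554541535e3480b48a763812f1490a08f7f5923318a6c5d07020b67698620cb0b403160008a047383d30748e3040a6a54c1a698916423b24d0f05981006495d37f6981b4903608d5f45a633022369a8168b19449746492739a1e313141c7344c9190d004489140005910d2f18f220da6a5470a516526926f3d479046526483d48c6b1985d5480c210110471b15692201293900c05153086370476d25a5b40b483cb565058728a6f209030006c2463f14e142463930f334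996a0cd18204830937720a7620e6e252152d73c053373546830f561926a1013145202087612541a58c42297263d36b11766404172540d0866e5167420c6205a7214e1450f3808e173898568b5b5850644504558096451b5455f6565134e751092c5c3471ca5e154694558b3946d6123a1d8653012a1d5184530200067486181965064b2144b6908b26209221c3244586150b5d61a155c65f445274cc0f5477f58e6d14b3b1176020e0a2423548758296720c5780d31d40b3a582582580e000225d33b14b5a44812292701946b245101021e44e8c4c06f2866430a7f4d75d4016a482522916b1093e6557d6411248a37558521592238f796903e04c6f2475c1910c0006b34f8040a6d1424f08a886443600e0a24b316854b2cc4f118561848d287130c3210937034d273d21f60303095785542f3c11c450604043f2c2855506e1835d2170a000584135c5c56a0121854981297323c60f5d5183c668255650942314e0f5943f094813c77d150196115f2947a3c9190877f1506310b145506638a504d26328f502c80000055558321d61c418825c8252da4304b050c31d1d956206862073055a8034340100161c925582495c76114c054935b3d0580542b203115da4b1ce0b4953c28a355da060006a244671d35f5c24f3d16938c5900e2d485573985b48f3e61290081540c909282734526c583316581b512624c83518d0330c62517104576444003041392014450404000016800164001600015c0015800154001500014c0014800144001400013c0013800134001300012c0012800124001200011c0011800114001100010c0010800104001000)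 (Nat.shiftLeft 
    (nat_lit 0x5c4186821162401022174f5da50643522cc7240a221cb5a2863e358760573c4801e5053468c075da360000e40532253095d68b1521239a31088464da7e4026e017700115c1ca3e0c0091573d30a7b3cd1725a2c0990a343815d436418721d8490456a5c65b042442d3782cc330001d097392c91724f266553328f6d00e815d2534154b0192e393012d2595027d0436c205540cd583cb550c67764c1a5d35211a342d76b48d3325a8224c2f0c73248030000123d663658470c773246376512d1492c215041ca385117f0c7114d9852c42e4cb0868b5a6180905a566986b14e640956f64e54595532c9126575908c3d6527a2150d000120827045a5d5492f2d664205163480f3c03e5d62469a4e4c12030b482cf624957860e651452d4026e5c0533d10d64a920400e5c36b21a6924d20104690406a21a226983628904688273d44d093161900e00e78552560100b0c91028e2d417485024e2cc1258028088614964c6446d5838b0010e2906504c47643530c40b2164a3168d64a2b00010199366944d2c54438a732451a551161d9435d61721509047312c0633990e31611398726106e3085820a3a38f570513840c6961a612182d3d34624a1b1178d2040b0006d2cc1d344475898314d2c1910c4132d698490ce3d1447410b8e10751209151807414d3d2426a210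515117b38c112d3321d5880c6313448a2122c286406830908827000660cf5a5127348e542010d144712c1042126304a2e5191e5195e415233d24368d7c58a861443e04e4d489774817b343341850b24b5314d1448d770501d4495331426000510c4154d16a2050a505185592c4c0112c82d30f0858e132976b1021540f4004f463d9585894a595365d53a113281598650b784d90e518302161e1153204d730c124000602521060f042d6885413040b082020c1cd445cc3b347596527705a450c5571486764489442496413e0844e2475f0014540a0e0843f44b0734563085043847e306090007820d354883910364148855c31520946153210c6152852c198313931b20d6d685173885d31290543660146d2d54405a5c6960c4440d0455f0ca495d68e50a4644420555455894e6036f50f771c262543704523e28d895088b3c623096111466b5015d6930444b5068a5a3907b5c05465a7d617653821c259671900761653683176431214708000291da155122a0123328e682d9352c4406901e148541994a517025432764f8a58b185944e2ce85192421c23758b63690514171a108584c26b252436900d199174d0070003f6014e2510f2da2b58e28309483ce61246674d1623d94c01110053354d1722da361c3856574f201454163b2da0e6124f5c85b68c6e291072173f1c01d180240971c0006b08a24401316497120a3b686)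 (nat_lit 8000))) (Nat.shiftLeft (Nat.add 
    (nat_lit 0x3046085d70511a5d1d8703505e402784407308c4b387653c70a1da0f150500412d4cd355c55a58f732433e28b4b090240cf60019851cc3164b0310372593696458d281155990a215791c9422437b6854a6104f4457850a5c55a45041461473030968407550175e0121d5564020e75584493c37d5d17f2d30728834406055d756619551811a2da8a4822358b4518430515264112f2422b64771483670c2261840d40717000544513808b0f58696282104955f4c03664a1a48a690d04e60a4a24804507274ce4a5065d68b5e1c16a08e682ca4d24d0420d1524825188601d7722040334b282141a3d4660487a3ce48548156871a6150110f375452a60a14642745da39145050885c3035510919315722007f1402e68536359595da36448270d733658306452f3134655021503583da7600463303522503a4491800e194583d2066a5171830f5e1c66b4555a60d4c40b0d3cf1560a771c5740c4386502f2d5062495c259494926538a3448e1a0d048000314562f403692823310276208360c4780482a59a3d5c3513c762194162d84c4c6802c5021922821a2b4c6706812d0943b149524847714d2e4d41e4d22c21a60482295d5743024a1443504f665c7731562a394304847a1591f100421440865915502590884d154692ca6768b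881822c14d713053d24f3f0073e006272156b18b81601625c7025441f4c6300d72820f81295015c71d2d12d0927f29a74401635d10b4912e258654915b4555120d1218937082062831b0014d64b7d598783042e5c63a5cc7114c160c42f204265906d5174e64b693874f08b79218504562f540832505f20d6768d6258e59045875c2325c8433442c252761cd480013e3091148d564cd643cb1b344522493c31213000021d0233d11a01214513533d24d5d7242084251216682786102600b254d85a6512214528356064571c616492825410b756931a3805a3574305776556386197208111000503471b4cc6258f793815c1d549484385c9022cb6e0d43c2083314530353813998a30321307644d9093064d1d13b516050c68b3112320a456951e40f343146d1583d0002e34f8b2c8012d032045371c04138001205831863a01729006644cf131947f1818b404574833a1924b28b132ce433ce6c64d7d34b3321358517481d52e0076c10f281576f0173d0575f6973b694266577b246832800628e120996f059774d7142541d50c5c294873012b104123533b1431e5433e648083557d1994f184955c2221043344b1000082309033094308f084d6585cd136907b689610c70a4811221032312600c6356590f5c43e141155c178518482191468e483144f0d46c69937690012c4564804430e380005e60d95206074537b48239597021417f3884534f6b4cc331d4)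 (Nat.shiftLeft (Nat.add 
    (nat_lit 0x64318060967240d1c50b4d58a5f60c57000036085a29579608072cb144c189384044823404d6f31812381403c4260882731333392103c3305546f1400e402685d42f10a060540f2973d3514c5420c3057358a43105593105a6814315117459561113f1571a68b83483446031f0d4770d11c3c34f2cd7265725286264d972191675573928d7b588345526e459861112a085234971c1cc1e000533d92818c303591f5447b2d86b419684925b454111ce216963f04c7f58b3c04757241011c91c40e3a5d97654a050cb5e1938b1cd84445132c5482d6631d21a5432a14c643d70808935012812857d6824864d442c96d64d2a591256031954d2c3546a5d97b417130cc650982754646649233084234e6648b0d38c0155433608615970f4c80d4c84d2c254342495d16b046644912a1535b3c06450e1e04d1c046255c013553312d1834495e4055c0121160529552142991f3d1075830f14c284914b256220467a05652000040d7451da1050681198506982d5062f50d435403f4c9346416720e6b51470302305d20210c6501226107242ca6360454247353097a20c771587c2046a456532d6195143b3526c414276518550f16191131cd32457395517944b5a685400133a55162406256164f2d91b411484067d692071875248b045c10c5974a4142f4127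d3cd59693500004514c09551493486c282642030400e181152f21a08051070511b415295c51b15312198215514634d174530d3036a1953931267455203cc4f6827b584501458e0c03710848213831d5465170b30c1220c1b04e6a31325194222557d40a29044610955150c694c9341cf596961518d5810c700980165a1148b424100c207593d76f3cb304cc1024a794ce1729122602741866844d260ce365851b1c6814cc6661657485080875650307086052913f1d24d3c64e402233587b3d0750073b2807c18e774c91934b836411954f38197853d85968a682c97214f3720f7008e0b50e6f0905a1534f2060a287205924a6813e0cf2b5da895833a14452001215c92f24c2d2476010c2400d6b0506244d1e1023e4832f3d1282471620c2b2c164246065c4576826e48b4f38e255c48b6130b6480150c335914d4da2e648351c0840c74e3907319744119232c03164d0e0d12a4023a40a17284053127d4c94044618547293817860f7418e501d9196027a297185833524e8a0818f50066642453cb33250325da6d2491f0c5425da194800f2d2662c16814b0d2d76f5047b2cb7e44120087855ce3d4416d3816f20c781c9034983f28652307661113b5427668c355d026505791404b085704593948a5b5c489147104c4484c4403d24e0006530f2f4592a4c43845244054805c01d5d21a387296180b3c60b2414d5005311a212d94a459)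 (Nat.shiftLeft 
    (nat_lit 0x53208280006c3096258a7921a5035002096623025344b1a1090f24d6b5113f010181456020a912065c58985554263964a642301c35f448086461b5c72610f7f21506399281d8630001c6516a30b5c1883c5051d55817397451531e2560d0498b050273c41e201304c1874527f68c2b24f6f0ca2264710090065d1391cc260522e65276513552c218212523ca512d470017663571f1821614e514148b18e2a10f665178b30e1f3021d294700d71628e0e58d2a20f1f4828b48e1d094661d7700570e2cd2a38f1d154515940e40d1608e0568d3340c580d28b4c51a1cf051952a2816c2d60b6942e54d7311a63655670c1780065424c770543938e7d6863a085021931e0070d4d8023892314393601573cc114ca85481322d40f1967364d20388782437a6836e00d2120f6908f452c6700066e4586d0064864c2314c350146748f3c69845240163cd4b0060948b903406118e1f0571f3124e1466e3c90d40b543cf810841b4c239419681466739a44297664ce26146675140214d442071750d1f48d601545c2d38558d7964c6560b8f0410515485396576941e0442520c0c2ce100126254424186211183a59a3541614609486101600b69354780c58e4c27f186230843d2d41f6415f50f2d14a1760e4940f6a0c95d402154565e5431834d384480f0d12f44e6c64e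09390530c07f399591587b047833c58a380201455f2c92d65036201194012438e231cf7d20018217072994a28b850824908a523d85f5d85c000194c61904619606190c6192c6193061908619686193c619006194061948619106191461954619586191c6191861920619286192461934619386195c61950619646194462a1462d3d631206371cc2a08b062d37a4813a107724465a14a1531539106965000850f1f1565e20e38081321c1426596114d69458613880b3134b5183c49a244432200081153011d9082931c20f5c3903b5d952102222480540c5538a3534b37209516036f3c33209008550332557819a794c3294567a0902b1555f5591960a02295832145a0001f08a2f2570a6132c4080d0c18d1544e54d154845f4c3595c9290882764a1d60746414682ce73550102512540d465413828a0c088472860314f225ce205d0285442100070103401d8572d9444cd1c69445654664897350435606363426c34b5748d2058d55300023cf7b0d371180684453c199535018560a454507724379559603d81b459590000d4024238d3a4067c68020386083c4250413c31054017550110939426114464881e3501a24d46440341024520d5c60b1b4cb72502732d55b0da3e2143304d1554e580008b34f1540c2c4c1136483c68d3134f884857d3155b5d81f3985214e510427b5513520234144504c43751213159564020130a)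 (nat_lit 8000))) (nat_lit 8000))) (nat_lit 16000))) (Nat.shiftLeft (Nat.add (Nat.add 
    (nat_lit 0x3f6053f28f0100e433c9240101d1862d1d96c09527009895404a593044d51c64a4c113063cf5e2c464147070cc605164a0986120f294d35704423187781814425221385544d855385460162d4d56b20354608536587c64227048394d5400da4b69104599164974e29a7100e5c5c4571c92061657157672d60c1d67258b760002b545483495d644252cb2145a3a243364d1943c031499344553f1c41c31528502133c10f1cf6968e602878b5563710d0a5583234a2a287690c4440816c2874a34e25492271966d110090122d34831442153983920b465826a408373553200b975006444d46043312d5581450934a151da5c0822d50473280214104e048722c81b61842498390005161358044744082924c5010d8e484746533d15a49618511d81850b2c4d781143406822f6885c40d141c33d28e660c55640a632477168d3b645752d12c4428a4ca2b0522a0830a284372160a3d1541ca4240011482573c755284936805b6916e1d35d687213cc5350f65306160c54b509294492558f100494a38a53117764122e10c226411604f4d456705cc4430b8b357812963c00e2350d256574d583293d9751022d5c1773953859680501451470e48c5b34944146833c4430d284341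40551422cf060cb725526e2ce0b185471c10e2466d511454d14b1d74f5c93c3157a5cf0564a65550346997038f17512496975b0d769453572462b4982124d70507446151f14c444d12255903254605883b5987a54a462464b64820398726554e3930e34a610196c0118840021548831178d34e06495095c12530570216464cf1d653230452b0560438535697344932c44a6d000504143f0d1671593264f51359451d25765235553343d07625874085096495c30c5d3d9401d4584873e0d119283596048164d812500d40d8068c8b149772562b6542e0001158f423916148a66050104850a00e8b00a230102f30b023d91c0444b5d37d15a3128c3b2156e407133912a0c95b08d825015c2d7743801e1cb524d61d18a7a600604531468c555c8343404f05772414762896649a791125218f1d40d6821767580504ce1c31211216851153a2400d49a7e4c47669a3c2431c3d71f5937508b332037c487574937648b3a2487660b3a4483c5165a2594d60e761cb5161a3a5083c2565a459563074d1ce511da3c4562708b5a519560474d48e5149a2754b561472a3402768b2a5802a000623984a3526b4c4331465850f0e24b03453021542d351683987f4941d281531102b491161461b4ca0814d7b18a122ce8748b4b1542e2d5143cb7430f103475f48629000555d2342c807512672c8015cb5f2954a5034f0527f10a012c8335560868a5904b48611616125718f312147851189441631081b19420297131892e20464404)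 (Nat.shiftLeft (Nat.add 
    (nat_lit 0xc4587f0114058b3b2012c30c640d23d3887e6033d3d51448a6d3964c2c0512462c10f87287521d3381c7740433e285084412628d3b3046014f1014d3f0d6602c5641021c18d773876e1027b41a4b20d1b0cf951405a3045230d6c6524e452486471c5450e4146230c200943c48b0e2c74a000682400e257055c46f11a0321965204165413b28e6d4c76e4cc2254c1d4155a2cb315c18020e3701a1f58b67489592415344a3e1d7795056e60565500443c884244101c1394138364b36292774d36014d5824121082264423c60f5a3164e2d55e24c313035a4c73c40c6d0d91c6827c3038b099732c8754801f215102c82464c25011460d149000514d20f2c30d60e72649836871e051553cb1734b5768b4b583612c1792ca2b61023181590c784240052856648c43314804086d2544941001396136920150d0a6091f08f403577b1541d6830320a25399780953611a4e256356413838f21584035c2440d624184561cc6e4ca116574a14f4958d88183642902015a370d7616938e203614c9470007435486246833967b5520c3195064f5761012145025110d5115d08d480c31364b0a24a3c2c1621902a1903d10954485514551128c690115a18e63309345110e4537e0001905744090060523f40859591072c26b0c7166551938581511480985d34e60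211030c77a402364167838b320d15f5506a354656538d3008b54305690185116121124549463584e0c90b40d253891f19037341115832b38d422888e2d263317135475b1013b408154141a4d73018e6460c39604324425e5c922190404878110a42455050ce3430b5a1020349a121d42568e7a41a6f652525140b44f061c61c087374ce5d3467d1165b3460d396263582d5c3702d3500428464d423545e498051816e4441e08c6f502364d0815897f4c5220122b3484d1d26e2cf05096253507a5878a3040c00b061082e443310c7191087868258208685030f60a352d87d3041c15a152034010a7a4c611452440003d5190210a18381575161e0893b4cc3659758315536055f3515b613195532e4097a2d8070556425a261da384866c4440c509433085b2526a4436f2812f05829683015557a20b0954d380140e3897d0ce160435e24b4e3cf6c2ca636533604f73082691435c20f5c2414849a6d208446453e68a0f0c1275d90a390812c82914a552591d5820338e241916f39620142275853224703617621d3463cc340563f5d85b4c3375536d68f1b2897f14d142511e1185d4031821a380c2111152c2d01918c0f453681da12344340980c34f30607561942365522349340870208655683450171b403323041e206663c38b08054094143174a4cc641937630f0910f6540932018033c42d60b39094811c0770004b08a0a0573a194)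 (Nat.shiftLeft 
    (nat_lit 0x7a514094d34220b2c40e2d39a4e3184651224302965c648205382853469a09059301d8314da694563131a692d63f2432c296833cc3151a4a45a691563f1032c6160e59a8328c4a2da3f0434054c2c3d60e39a8360c4a15a4034c0e69a851804064c8508085000532cc0468c205415e4c0335575700e733144a34d655c3451d8562550d4926218030146681c173591243d60b0425318e765d90620d1111039518554877900d7e4480c60a4b1826738a504da45299893c58314a5640b5b099210170b0d077184433937e0877f6037340f2054a555d001117733198b0d567112660586c288280856e195854885448e4f0834664e034963b0ca7f516202cf694576f4530665a283c60d1d05c2470c21a5d196322c3831d8423491b35a134d57b00f171963d245012536c5da4b2c1090840650a626853e4903d39657695626053e3106d3ca6d24a57615852d3540103d216624c53e1906d54a855933d116564c8574d5540d07758f8541356688540507740f56608772cf790174d50803012193920548f704046e190144042920e161da0f14e495193f2d53a54e47684323490a459544840d555451ce6305a6808816356703000b5c78d602233931c589552d68b582450431630a591860f1cb6e15a505114d3472a3d6221945504e7a0c4025485b20a7d0072a28d6348c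430c38f3438161a6535a705c517007581d94224135643375433a4d5874848020d27582862403d5cb3d618561d62e40a1d2da822002c2042928f492093020d835d9743177d1d351080510456608d8b59874059136442c10b7210c4f28c4f216670c57a4c56025a0e619281011e017220111305623586612c05e25a775862a4173c5c23c497053428368279594772cb7d08f2b0d3060c7940c243202165c78808b283d210498242d927118241056c4980d394305d13f01a5f5d36168407454691414e6194064d2f4545a3da085cc0a3860b298044461a1c1543922860b4f000390475140f5d34f290516535636506613c32140e55213114812840d10514436983838d864c24b604271832538a84483084da2e05101051494141469a773d2011584d34f560c9220174f1d008245862d34a3454e5146f6853c1c4253475e2d71050b264c36b300842085e111701550c6141a4456360e7d58c79602762834d2987224772116145d5073cf40548072ca1060c2f1c579684534827e4056050b1d3904911a54500172d856353591956a5cf0835226601030cd5c20e204594f587873037b4814c5873831820503483d72a4596601269399674875d314090ce5110b040d0315ce682027d4c88130e832d2400453e6023034f320994e18544098385da8e04b3600b60209200c97a38d4b0006b58882542513081d58f12388561417469217641)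 (nat_lit 8000))) (nat_lit 8000))) (Nat.shiftLeft (Nat.add 
    (nat_lit 0x7b68e83691426862b18c06341642490e4d5323cc4868a2c3c915490690123544a691523528a383c442293740d5742551b648425531b508424532c6891565009295094552c1091551038104694123554a38684743551b4880955585206425471844a7010a525463650c7f049524c3603d04f6535064c7d29475346085c8135463d1102b397592191708a0449a3128a1d5c86f14d3e5133f68a7464764294656884e0173f4532d34c0e2810f2d8652080a688313100e241653084e2573f0932d3cc2d4cc210950a2083f4930e0010f1d80a3084e2973121021495214550f6583169082690293877f4c40c2035514f5b5882930b1e3946c68c01642580d11d68e6611576255013864b0123a38d5134a33007132cf113947a248935c30b199133185920f2f0c6691c82d60e2c05365317693882d00e0c4950c555653d70a3126e3012c5d3691482d44e0c2d50a3d22c6934914c655976e3c14d6950a592491cc6e5814d0554938c4d5d5076443939006598781161929652585145d20940c642c15d3ca1e01a6d15345108785d7464857421058250625962b0d92638a732cb4e6445f6527d0c56f6881734c66000402092908d045140225a2920d762d0732c96764363506744ca040940219a76550400897464a73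48963086670c3042140241a40509674c3740ca632062950d7354976490663868d3c36a10a8834c43147683043408a601815041323289280830750d6111a2858e654954f1150f4493e1473b64f40259853450e18f1a6823c1511949a4a28960000513105d5455269512095124953d3cd124552f250621c97b4162f0107b0567b396622c95d5c51e10a5d105516901e54a51210522153d4cd523153d34d2f290626491e5ca1a4c41f09931297632961864c4b5d52b00a175425e44f282ca653ce8b2870d393794563c3c950395443825534c3f619025d87c041766865f4c4384151c3413268e19084090d83a1cb64556222d6126115c3c66f5d50309138443243c7560da0f1850e28816153616428708036407354955d1d0660190b21a5b30779611116116a458135025d0003a4d05d1156934621381371ca564577b6992a04e546835e2107a0132b0c22e40282446794076a380124067749927050551d5634144310a0b2d7423c50654c0c3022c6056d0c42b189490864369539596065102a488052d80b2445d0117f10f421ca290426334d6e1c68321a602d56a4511f50e1220f5718a7f3c2201113e3992268a2e18e4d241214d2401968320f051470a5145b00e1f509066825e1ca244d35a3941f4877624229194152cb4b09a7a252162943a2161a1861714650486471026528d1a3d98654984642273c18e0813629325093142185800e2734d4d5193701983688393824038146095)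 (Nat.shiftLeft (Nat.add 
    (nat_lit 0x1a10e181101a38e1a20e1234312583530c75320712083125430348503405531c7035c553487536071238312183033c5030c5535c70320553287534071268303605031c5533c71264303285120035515a5545a2e5572e3575505a5525a0b6920b5522e0170b3522e1972e0975531a5551a0b0920b0122e6970b1922e5972e3975511a0b5920b3922e657554da0b652552da1348a1318a133ca1354a1c1881c308612851340a1c3c81358a1c5481c24861505611c51c4081c588613851c2c861105612051c48861085611451324a61345132ca1330a8168f8118f453c2451c28100f8154f0531905259452020515945602454028164f8158f052d905519454820505945282450c28138f0511905459455c28108f054d98134f4400f4434f20413205d34418f4464f09443092c320493094c320613201d34408f4454f0914309303200d30904320213203d34438f0950309243202934468f091034458f4b3cf5a5832250d1f05a3a081704885a2833a5c15a043701488b20c4b00f1f59a4d104223cd1f29a706884d644431993a241431d98b54c4b50f4d4042200d434598b4cc3d113330041331a2e4562e496513812e096112842a6982b4cb110042b3cb2b34b2a3183324448252332843d5d3482923d5531321a510411369a51401112442a218480124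638b4608b4620b4628b4618b4654b464cb4610b4640b4614b4648b463cb4664b4668b462cb4630b460cb4624b465cb4660b4658b4604b4644b461cb4600b4650b4634b1909930382711c8553d4763d1742d6294571910e5b316052895a689183980c45214385852d911449074d0683532148a656196c401780477c1142341442016564ce435813e41a792d5044836c6531041a6b0d6796151065a793556b396282103e11a6c11385049041436c4136b316852895735a1011a572da284d03e65a85589046835761a28550181028168217445305881758530208021822c5877a4917a0115f1ce2c2075f04e2c447180028140274658741581848281502024c21720530448022827a1115f54e743d8490cb772883b290491cb1f688501977419177608500173b3d0024851f3885e659721d91f5885009772419025c5740915e359022055e559720d9773c8740114940b3b6106810c72183394087610750309732d37250350209720c3731d3631016854c765c77758e3904876547736537714e23599506892315963541685cc7760e3938823619635c10a3cc6b2d30a28c6b1536034328495042130a60c3d2076b45360643282151d5c5045d33d5c76054314196285d51d485044933d487140961d205621121401662052622528b61a2e4811c6133b5d38350e94046615506c2175d34c562cf08118011c3273072e41a514164309a8228501381)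 (Nat.shiftLeft 
    (nat_lit 0x6f6916f6516f4516f0516f3916f3516f4116f0d16f1116f6116f5116f1516f5916f5516f1d16f2916f2d16f2116f2516f3116f0916f3d16f4916f4d16f1916f5d16f0114f34f4f1cf4f20f4f10f2618c2648c524574f14f2654c4f08f263cc2624c524d7526972640c262cc520572658c52017520d72630c52657525d74f38f526174f28f4f50f1531315413152d3153d32464b2404b2555515253245cb154932400b244cb253d525195240cb2468b252552444b25495255952460b253152541515193252d515593155531a14e1a34e1a08e1a1ce0765807618183501a28e070181a50e075d8074d818090181d0070d80745818390076981829018510070581821018150) (nat_lit 8000))) (nat_lit 8000))) (nat_lit 24000))) (nat_lit 40000))) i1))) (nat_lit 0) (nat_lit 152) List.nil) : List ℕ))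
    = ?xq9005 → (List ℕ)) ?hq9005; (case hq9005 => (set_option maxRecDepth 1000000 in conv => lhs; reduce)); intro _; exact ?xq9005 (@OfNat.ofNat Nat) instOfNatNat : List ℕ)
noncomputable def EY : List ℕ :=
  (by
  refine (?fq9006 : (fun (On : (n : Nat) → OfNat Nat n → Nat) (In : (n : Nat) → OfNat Nat n) => ((pk61l (fun i1 => (pk61o On In (pk61d (nat_lit 540) (Nat.add (Nat.add (Nat.add 
    (nat_lit 0x23257092c1604d40b344531cb5e01006481961860e44208210395420931a441cd12319040cd382560404a12551451090e60d641d71b101056827f506155440c20007503574963541a222d23d4c64f0976645818312824823620a1a402543125824e1f1cd2f5c17900d1d044214177228660119840c085314190001514560600732125e600594da740885548c03690130154f1893d2927f58b4b5575d2524f4011d1ca664096f1ce640c658408520d756140804c11851635181074d30d2d7725570f38673301451151d59501401061d1771826f6013c543206134c0406c11834295611d083383432800520330456483cd830005e58f0e592704874d2417d18404000131141f44b5b244242c11568e1f304426931c28267218165c44f1cf595d80a182902c1224d61a48c316095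74d03530e68406134cb5f64d761943964c0a08e37456150000e1ca0410e095c396202835ca160126e486120d34e44904348302842d1c014490740d92728e363cb1b4543d0d37a2d9815983418e3b4d63f244094d8586410e21412000494423f34b6a152265485335177053385078a4843914e7c2030e2cc4468e2c30a1224b5730e43093276072b3d32e6956e04d4a38f7f3404e2cf6f14f3b5055b315030007430e055871d585571557d4d119545253580c5c17c54e4f3cb681181028d452c8556186f3551c591406537e685755c227181341d955411034ca0d3d614691030cf0f0827731a456137b61a7011012286672144050d5e112230150b3143058d37553581c5613432e30c8308d8e3c0744468d4035910c14594726525520f103410120c0e10f0f000865535338a834576168f4b642231546650d2635a34601200985a04f1d65a196597f116495486d35974042713850f54e073597c087262061a2ca0b2c90d65a61396010000f395725434a10a440c13c4c834409046054d10e3649933119220845349a094990e0477b2433e5c30e0c54341709591123c14525704454953426a3c31249a5d2d90b0003f34c4944e7e6001d5172228c260128814c8934d4f54c214450c6530704127203253d15c3c359154075c46f2c455313252173d2494564e4608b296534404b1038408000026590269a8b0842a34b505d36b19a7f2c82a216574118b1475e48e7d2c86b642501d470594282492c456393583728a643cd62291676165a6056350c62609632100000053387865516f180563062b585114d13c1cf1d4d6254878315a800884f5c53218a55342062c2610575648e586841c5cb291c4823c616647401c61d30f5b3c20b15505000026800264002600025c0025800254002500024c0024800244002400023c0023800234002300022c0022800224002200021c0021800214002100020c0020800204002000)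 (Nat.shiftLeft 
    (nat_lit 0x6f5da011c319641675d386287610c90c30b3b1d74f3516f00d83359073580d0c67e1825e14311649345d33f3d55a3094b194333cb390cf652532914b7e0841f0150734b781886c58d374861655429094014c85b393565827608f6e5018539a5564525410353560a2536f596243885e3946a1510f6096b1586d503686110960a7a406114d27728724314212483d34d6b384232877e483310c5301d3545885a1cd2f104813c37a5403f5977d1c60e48031000684427a6944730261599591480f15467500286456631a7238919317494d21f58e546100a10b22286052045728f262d566582766838568e5c3814604e0d14c4f24d2f0007f5150568e493901a1d04400f75013343c05e11749103670d1404c346286304c31721340500142572408d45484266027168855099073957d153660008a2831d68e0d0006d294324827824e3c50b0c3c35e2d918084851570d1cf76495663433d3961504f42580526817641a355058504a680cc50412734d08f48018194295965f34a523452c0003309279480782d03f0926434b6820442503192cd7928a304174f6085d0c93139621306824104060521152386837610750095590d66808f8610b6829a151cc8a402290007a351502025a0c714149542186e1041c38d326910901572644835c73418d24349852133e2c41e450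3c2907f5574029601685674c7370d50a4d12e404785432a500280001f44c13105654192959015546900836031a6d2885f1c7512944241a180ce0a6561304c17302211d55c500314d57414466391153960c41a0d3984a41a1f254784190a0008820049381454541928b8358c374d4063464530774080076420910e581515f0c94e4955a2482e154345051641781245512d25c690673c412416401997b346550c3250004810b524463a4172f2cc3d2900c0120a49a135915960e133535e18166548702196d589150cd0a5c6296821f5452c4935b5187f58c154991f5894b24f3c696930831e044041020e1c8124c39504014144676855419409053100d00e3842b6463e58a83106510983b1840828d5d14e2c687336422e5c8062562731028358125d87d20c0450709000660d27a34a4b64159050783566a64975206826481b5d2015d52158a24545522106b60b7b5048a4013a3591d681792521f35a4b68a1e3c24b6162808d794c62b494210003848f535974d0d98b295363d03201221314704d22b4567b499120523e2c77c6010724f38304835c4712804805a336867b2077b3cb89682035412b0da685c3065831e00045601773198b4126534b723980455a1a415222c85711839044694005a091053887450d3f3186b1d71f2c81b458734464f1800b5595900a763d84208b071806c0c006000771887a6966c38f5a5832d586)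 (nat_lit 8000))) (Nat.shiftLeft (Nat.add 
    (nat_lit 0x3130d081ce5d64a3b55412649371083d44051609200cd486415b41718000100438b0965f5014519a106123e54811101085093440743241433165c20a472044350a271052330b8e181426472f243560d8126900135682541231995d1d6570cd4d0007240532481692923110a022d363012651426a5822a64f3d407413002a6923f25a222596344b02597314d88b685694833a3548b0ca3c080585cf3a54c731405c655163c179499330906d3117d0d7183433c24c1c18c036834a5d91d15815357655da5b1032c3d1554841c4143718f25152526025104d7844d5638d013076a1151364a7e686170005020d7a34112584271525d4d1312c17234c371c2442006959577644225014b5531118370604393d7204860228b36084561536c1861a6934f30e54385592526e15216000442954614f4448c25381814596a18723349754072841740351121c5545c40924c3d181323c33b2906e5ce7f08e2e0460844a2c5922b48c423c8032ce36349070874900005593616463b59953345665ce1a20889184831110301556152222893d24c2450e710c3494cb732896f25259351083976a24f052c5795c1236022059a194484c5c420697493918840107594032c7782d1561874618844289294090350d1c144555148d1ce21281395d62c0d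84f3542004e801830111270417360c2642d0552814320227557140004058f6d302760496c6546d3d52054a1b1d05b6856e1033928b1f3cf32344263ce1918a78097850d13f1c61658e1c5405a10b612421138f21647705d37158a0a217460005f3132b083380150e295305820601205415364586360e65112380cd8150779691895c34220a2b1cb30641275947e2881b24c375414b48d7c60a2d615264443018f450007359a2a28d50640333530a5cc570123621a774050d213444da856444f4034840a2d392032563d28b39354262500f2136c1591a24b53219041905a3c07018b283cf3f0007a347660d0725560d145314861530b101d48d6421740a4368e506167668a7d0405b5904c6093544a113505f1851b28f24684171cd036118954135000356492524d1100026343535940519126640563c1362d4783d40b450666866f011470ca405ca250c92c043792054e58d243958d0476d5d6614ce2810a46401375c961695394554c2133b000115877950f1e40885516781871c01215282931016e4171f541322d4245101a34e0d3091561a0a61973396133440f20a4f6196c58e133890a1d5481d2541cf1f3913a000535983849257048630973b5883010752655650157f4835e4d51660b3e545753494b355635547440b85495326061f1584858f4330c48389130c06c3c1115053e000100000568f5a4d029411033d7015d30b356573068a14a560157b114)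 (Nat.shiftLeft (Nat.add 
    (nat_lit 0x3f594083c21208c6158b54241564c920000795101158a2f5cb13158333c53f1c72a58792203643043a3817a217510d1726997a08c2a38331307332c3694907d6426010e67450691d7312d74b0d0393c13a5511f000536863f3d1025892850b254cc206022258a7a2498510072140653d11c05608412443c20a683242515f41a5b3143e1d17308d2c6976c05a0f0d1703450e38b3a5024d60a7a10e8038e400d4824c50e28623018480808e2421e11935457534431011a811ca23050731d43404f4e3504e0807f61a083d42d61683154101cc1764963682462144e545484838b1035f5d23d5430a60116045145d50638f5110e3064e5228e2908a6e5cf69106465517818502248204c42c486643421c10e834895c0cf3e20e283132338654000222d40411223613304103b0cd8150e202154d218325106024b105167b00c4630a6440f3d3910950b0d2cd275828244c844c8545535645128188653502504544544530000d1547255546505386111c5833320c6830b5d04f8750a4b64349684302400a1c83150b5b5527d4da2160b216824c44b5f4044b385183ca5010f8e283684560c082210037d4810730687180891404d2930b24d810841d4c0735045a5d24e29a380cb090861608f3c1ca450c35c18704155436152b1526c5c3143ca5134f7850c8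320805452195145d08004491601827d28e7110d7b28a3f18a225971719a50199291997921a5d1022e0c7352d51c5176a1044b444744d850487106483a516671d23a20a126885a21a4d00258483625d57f2423b58f7418c632c51f210726941001516653363d27b3c96d1842c11a2d1c3674c20108e424c45b60d5554e1e4496e4d82458f2750c181192a119510006a1535e3852a5ca3a2041754e155c9542c75d093315906c616313528f6815d2082c1cb68195353cd2a4970a44a694cf3a1cb211161b04a5a34e6925858000282151b00049205871018a3cb171510b608431194e48b1b3096524f7e2073615723081376910635063440776033b20a4e1934334b1e495483022d65a09250195ce233562368a3528f7a6846844e8e34a565176b5904b38c682535848248096794c27960b883855a2d579443132173a4d87b4cd4b692872036f54b856096d6981b4862b2885b64c0d4c81a0007730c81496940022e4c36e442086481440b771957b1d24d08c8b340431cf3d50464007061cc743555d20d833c2124c73304d270c85a34a161432e5d73b44b812cb4d34f306854e40c424856748e38446234433e2062c48e2254d483d148207703492d0cd2d04e3c102573946904e422153e1cc622070e356696946234d3230c916465c04d0930f3248d6d2852504b396460260a6430e743d013108273462950d6a648815002d1135c1ce5831a)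 (Nat.shiftLeft 
    (nat_lit 0x5b0c7650004615044286464d5401986f18a5408c87107884031a5cf2555a1955866559036193f2897350c265cc6d180592130538c7148c60453302da35650194920861a1455927000100c983445541198b4982f192885828b1c95c2821f3032d511856061e3474359a0b507525961349a2214e1e5457004c2d2d0793c9734484a5563711a301c62c682381941a3584614240448200d0610401a5185d6862b40e405c85d4c6200106669546082610c0434482b58e200505d606664d54064846282435c82b2ce666151a1d843648610006d30d40592566454a4d8403d7495d8382c178684444563738c4941a274191a0c36141a8844b03184361ce4554225094644521924f353d88e54b6e6194724620145240002b0975f3113c347042867010a0b49714618064595e38a773c0584cb4d00503685884c65a2176c612551170e4830720e141d3733514041a191093404b463890f45a23000225d1773145335065487466122725a604cc4a2075509a6a55875011190160864f0e30927118030c27b21125253425904e403492594d41736381574803950d04057282d24834e304957b0d8041492b1d034448556160818b8b459575027b0102e30f216518d2011e1c6305882b3cd3b0c7476815d4555c2486814a843813e397252c22b2910b24a151505f58886346685d2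3c60e2d2c96700d0a6544e5d876544443487b3d37f4018b3d18b1d00f183232cc6564c275042b689574442d118325c9173d4516065f6821834d2a2102a2902a3902a0902a0d02a5d02a2d02a1102a6902a1502a0102a6502a3d02a4102a4d02a0502a1902a4502a5502a5902a6102a3102a2502a3502a4902a5102a1d045145140834909746516162483c012380580768a46359275916d04e2435a72410063d4614855b100204cf651034768766456013041744b82100195d0554d075484193cc2a28e735990f1cc1b3435a0cc1c51a3b3464d3481719739519781526861962410546820359a08599330944924d6740f3a3152430a6e456092846b3035c04c53155220005e4d6650067b497435436204e692457f0d87304294280393083e44f3e610372c33d1572d308693c21234f6264a2b3951020f2d2d41e38f1620c044cb5f5905f3401e001743125144c5f1cf3e40d1854f666973b18c090490c2503654c132567f1496b6541b58e2628f2224b6a4cd032865c5062a1510d5d2643ca2e3ce373977d6152708d2c6056544d584927768d7d694136426d18b5e5cb6b5d140015643d11624a01314424565760529295183d73430c78082045d64559870280602864a2c90b3912d48c5d0432a1855358426358865821d309095c56e2552c3885338e7f44d6f0982724b32357811cd360563d0942e602302ca646081e35643049)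 (nat_lit 8000))) (nat_lit 8000))) (nat_lit 16000))) (Nat.shiftLeft (Nat.add (Nat.add 
    (nat_lit 0x623464a5c5503d7614587461a3c1191440f6520e2a4c40d28a7928e4d5c4455d06600c5e2870c147643557a30f0630e016493211a2f1130968231002650085330f0f4925a0d30d115074172d54b5e64d22015021520a5c91a249081cc2b04166545520d963283601971e0d86c2511d1d43c44d426066951a433d17d5ca44103555098048c2b0472f3d76f5d91d0124a457284072641136605836934c0470110a295456f1c35328d784533b5c1700c325095011d7466986e5da8e6071c349205160c40544192191860744d4548a4345484402253cf031c87230f07145405c2062c4323875b20e0c114800856c1c8563da612c751687681c81c6852910c140410158d25243750008b11748498162d6674087f2507640112094363860d1cb812c21a44d1f302624925c44b491956f0875a482602d11b348312144f1d628543274cf6e6143f64d3b282370000410f222c51e35a103594d0c73f4012035977311651ca0859644598571d93b5535624b640030e3110555960484865800155a3965a265973b35a386106f6574a65036000603035704b596190c0464834c1e69485043854476b18976499112ce7941537250515c292381520894a2915218b6d24f5b50a1361918581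761d67414a294481864c66254625d6584981218d830558b5937f1931525164494142073a04f816943458437492290c73d6197458f613082c4446c20755647424426d00a783807d5cb524cd7a398320005a499330917a0d25851521450171870230d024d6181476239368349354847a053282da9028050349742835058b6a49433107760486b24d6254c4a094162d96b2d922698731551f447855050d19154306763512558a6f582676431d588591970a310281c41a28103392075115d64c0c09117450793477f20f014cf8010a2214f7240b0c14c0f08734250730c5424d27b1817b3161410d7a30d300897f499772973858a082048d14a2034b2d1593011461153096124b159845c55f08b383808040044147793d46315a381898b08610058362d344145946864d4c65e38834256811c66c5577714b2e580044935d09a2e1917709639440811493f593530564d5d54500f584cc601c9330000b2822b000204c16f4d3201016f113351c82150c5620f202c15f5146f2d3354882124c26101563cf5f25435608836012144c262c1560cf5f454831c1264c10b20f834810b3cf0b0cf842c44e4085d4d00c38e114441e58d1c0982838e2f649594cf3a043132837c4c0231052f5556b092116468540c6a68b783957500b35546336093569105696116986100115143294d2465d756614483847310a501836d292772c15224a53681085467010d64040603155e509044983c2046a157442d38b3cc584d67a4106e04069241)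 (Nat.shiftLeft (Nat.add 
    (nat_lit 0x33304190513a6063f1482d1174201481091724476e0858361054157165c65a00412655145054f692325cb5e2181a3d41a1d24938f0d6103d6554060747443522805c05a1105a15547210597a508264d6053d45800a643565920d0c14a1338f5e691206525738c60698185901a347744c519003294cf151585b019611045e4c61e013625431c29523491395103658330292582d03c61a426890f597533128b28f5701a441173e0196c48c72613404892a414854194a0007038e69553604850e3016658b58587511135d298466073c511252043614d2c1d502507680d4175963d505593c63b4492e00d0c0487a2433a1d25300c375876b0934a0cd4e401774586c2931e197630c6964401e38c703062a0155f658022c18b0c82345281208023c32a60c6e1888b5d45c4145f5866305632215746095724a38642604cf3060c7339760547722016c0cb514da324d98c000505515410e022463f14e5c2093e0d62d584503846b4ce3e689024426948d2d2c758597626846264565394695446b5006a5004614d1a35758614010cb05541206435b49a4e40a834d8840830b30c05657205c76d4c6861843b3436c24a1d04b511ca55208266994010c654970658d242864b00047000151d40d48366644570895e54c4a1cc0e5d3496065f6035420970556635c13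a4877d3cd445d436291735584d3036a2da623993c2456411853109521da330986f4080c4593914a7330e63691702d55c5c46e6474c606231da374d8451d93e3423d318765850a6857b5154e186185821404e423591531263347210893514760452426412b3d83e5817308f18215672c1194933e5da1e5d11b55a5928206493666470e0100b3450211057693603963c4d4455524a3cb4d55458249655d6315596a4c11d4027d0c7130900c4574d18d04201642536b4412b302436076b60a311930c28d285d64b5d8350d31240a2e2ca4f68a790882c6891704f312ce582d9474496e08c725cd3c0c13348e6c3d53319a660d3746946f605594856a54e2a68163148851828318b6705a14646370442c30d2d0c13f0c25460d2b2cf622cf432863408a3d3c86e04a5f4d60350c482531a544153ca6111465018133c72c1418a192081c1391c91c54a3538c6e0512134d7d159552cd324482f68279057523c75a2466d0904a0417c014246530a2982948e01502766524048b332c15011a6c190452cc793982f20e7f48757057344d10f18f1d5d9050d0315841b3073f056244872e5851c1d91428c160585b28902444670060e3575410a691d9225030c5d6524580a4cf4f09017046683850340b492c92828226589110d74b5d113452662ca064878d5d40f0058e4841a416763d7645095c1176f394673575e253735cb741c72c1cc5d20751119)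 (Nat.shiftLeft 
    (nat_lit 0x7608e704416c5c52164f240d8500c617488853d85f34e423911a6468f4835415585208191954419019095440904b1861e38e274531901511154440104b0861e68e40041272d3114544b006073081e58e4024127153112d4075084010155180074c85508055000584530904d335c86a0858320e2e58b5c6597f0053d1da690c92c5145134b071da0f3cd320961e14b52403634440c1955930006609665c1154085024a050ca7d112141922235a3f3596038a6255a1f54a4f41a3830c704c80c2d845586185c65e19a5f1d939187493cc594c14a4952624b486058b14b0f6084e059343d26a0593e0d30b1d82a4027a34b3a64e0f5560b39a21398353993265365444066856c5494014e551d26b6485d4c4285944f142812131a5518344f6760b0d2442a15a16691043996e109622d8394117b68833316241c2195c77b60833196493874920719447053c92600d245027b4c8334964910705249243426d4da19647260cd1054a055496d69a2604d103ca6d61a1024a6d50c132ce785c125146603905f2170234c244c3105d36c044064977b2406455a4a48e480c822082454962d58f735d30b103631d3395832844c56048693917660c3c2461d4d0564d63b191536821c3410758c595444c2112628a200116a010084030c3091d0077b1422f387490968734b60141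5418b7e3015c458032095630c4f3530b45201098564c446443325c51f1523f6053b29554443765d0284015b0d1691d6374ce274ca080c75d1856b3c75c0c5724826308a5f695091146718a16495244922e6161c3c74a0c3714410558b2f645682c1204c8245161825a7d1034a253291d85b18852288400d0461da703da3c095510051334d152537839a615cd2c2593208e1b3d6241d96a5964908a390c5224070b48e4d391314515d50124697632584544b572875a0980e5581f3461c34f65105620576128a723915530a512c828086764cb700d1344c67864a1e5030f04102095502011b4170f30b6b086935c03d68e641814b18b3c4d32f356851cb625cb50285790d61144d5d454520927268e6e50b6b1967d5d61b54d3f1c30268e5d617623c160208730c3443914a4086d34129483501083141a084181b4196f010262875c3963d5ca780864b6488115a116952c690270957d2d8741973348a045032a3535e5c4623c0573c35a301312833a3056e310283512d645643992a258705423a109315c82d0ca621087f0547d210976807405169647696883748d3e295623822a1083e50b4a2820f150172433f44f074907c1c2356023108c6404c2f294424d71b45586049171852f6197a5c518048351d44340550590553068434d0a14759555172d5104c21a61a6d217781cf5c0d18548d0a2d259583024457f48a062d51d4cd)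 (nat_lit 8000))) (nat_lit 8000))) (Nat.shiftLeft (Nat.add 
    (nat_lit 0x762c052613484504f3d822690520d45c093781583949236387821094e1c74b19a4e5874b05a61211684c7550155541543444681c74328468587362c7823c90d1820d202365c782689610514e4c74b21a6119155155435440d042014111d586615d2056187d449510d7384055665081501264936744972608742d60618b143565c092094d637105342c2164d01248e48619104cb0b54b2e5094c1020b0061758c38557841c736148112132b0441760c0118640084113131714c38117842c736588366080d54e010c684647116932b40401506385d7404440d5ce0d10e2b384404846a40a27616093477a4da2e119775c951650722ca8144f6718c913c081612363d53b30e776062e2013830e4d409632cd233cf4d31214288341941b50554211833d22c3cf382d97a6024f54401250384997a0025629956359014105524b255084f2c4385597a442561195540b4f4840c68401190252084e1c45518b0c044250884e3840c5c44e144384484e1123e054163890548d193da690cc51095760538b681542964f2c6271893b612133460c34f671153d40f022145a1140d3d9740137d10f1e112322984214e08585294c11d20323188305511d503030186f386070c91b34b1c413234083049103618290c11c2536f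1461b28b074c923248302d129641076491c1931b10b1d0836f1c603458355cb5b40f6a206290576b4c53d4423c6571940474481075d6692cb7f484332576050d122c2514c3574c1836160220f5e0421b3027700e0b0816d4933a6883411a210ce050c6230848a2405b2865b246086515b006686971008e074126821707052073921048e234844b10e23444055064b54e051868a000081d18a280082d1683171044e4b5ce0645810111430583e1184e1d65f3cc1d4914250f2e312442ca430108b45a875422f5ca3600f10506332553250f715ce102c7145828a647113cc0428c6f40c4e0977028f815d709208515413a2d00e6597754a1a659500ce500581659a4a144581c63849a4e1d43a18d7259a1159939293663cf2159a1b153684cd2f65a642858060d285991b384332cf2911a5a5565b0cb6b04c5214f4e502892c5112882364e3a3da1f3d95824d0d007881442f45017252485065d18b4f587115c2202cc8d4c02f60d2f5d1264c5171196d54715141854012418c115964b547205145660a3f4102521617218683001829829606343c3894076c682872c41c0901f0966a18c3708b46653163823c189704d851544061da0f1d9636194e2514d18b2e093441d9080d57704f531d391002770d27d0053c6582e1da4d4107a395814d50e09a1b2518144c22153286903044b0b0934a212455111814b521110f5045950752304181110a0847f0d25b6814f5956e4d31c1887618d)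 (Nat.shiftLeft (Nat.add 
    (nat_lit 0x3e5522e0183e3d23e2526b1156b2d513641133816b5156b2551f0d31f613133411f1d313581130016b1556b3151f5d31f293136811f41313081135416b4551f2131f3d3131816b0551f4936b4d5855d0854903a1533a45385410851d05258c5234c3a2535264c3a1133a05385290856105200c5218c3a3135208c3a5133a4d3850d05238c5268c3a2d3853d05254c85210811d08135081210813902d4c22d60277610812902d002810902d0422d0c277050770d02d6422d442776502d5c277450775d02d68277690774d0811107701081150815105014c504cc15355156955050c5004c0a5cd0a60d150150a40d15555153955010c5044c0a0cd0a48d150950a28d1565515595502cc0a3cd0a1cd151955030c0a20d5024c182c5184c5762c2764c218145183053158f3138f763023118f760427614218445185053168f3108f764423154f7650276242180453100f3134f76102182453164f18105594098d2c438593460c4561832f2988d344561c38d6042f058063ca59649463043508338053463842f598355c32b5ca564432b24a0600a5910935243382932b08a0650a201894e38e8e492593cb5934b06608594cb21313431cd2520e212132568e2530e4364d4e04e795444e40e2050979104200c98e092065888e4520614821693432cd795c46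265462694625d46261462394620946225462454621d4624d4622146229462194625546251462114624146215462494623d462354622d462314620d46259462054620147b60f43612481175449a2b19910257634c9513560f1584250d4230c652498b0cd8b04e4a506734072a046483146304f024114d19a2a6490219837499954867f6512e590086535b25617681303d87b1451d6535b5d67b4855b0961d1137c0840841330018195c217481305181d413190821148b7b6851168b7c5c40811319242171411114b7c244876927864b79453260d479593262d42328d0321310145103c52160403453212440359387412783cb3469734517875127814b2318d7921326094234cd106452138434417252d9494531445a25459030d44628c48655492d3463cc1415a4520d031d42f64f790cc034144660c791cc4548d485552f34f455cd2f54f7940c491534835525159142da78309893487b40e6f1494909435352894c849454893c8354d234498786896f6092f1c87b04e6f589353d22f64830099494943045934458782092f2c87b38e30499340980569a016990559a0159917204684101d10c0539a4239801399175c4681d06100c1d04c42698174843b658680d06118c1d24c425983b5586108c536483b35853548533481c5466514176506184131f3d71e10a0d1c1162cd8558f2404b922c0853521a645671194b1496b30f180c92f446)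 (Nat.shiftLeft 
    (nat_lit 0x6900a6968a694ca6944a6908a6938a6948a695ca6914a690ca6910a6950a6918a6958a6920a691ca6930a6928a692ca6924a6934a6940a693ca6904a6954a6960a6964a634d56369563015630d50e28e0e14e09557635d50e1ce634550e50e0e34e09597094170e10e0e38e091970e20e09497093170e08e093d70925763055092d76365563615126971245712657120578b1c28b082043c4120178b502124d78b2828b38204244044848b1428b202045448b34204304044048b10204184042c41261704584125d7120d73e5923e4923e4123e3124d6164d0562e6183e2d24d5d63e1924d4d64d0162e5d82e4d84d4564d6962e0d84d0d62e4582e6984d6562e0582e658) (nat_lit 8000))) (nat_lit 8000))) (nat_lit 24000))) (nat_lit 40000))) i1))) (nat_lit 0) (nat_lit 152) List.nil) : List ℕ))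
    = ?xq9006 → (List ℕ)) ?hq9006; (case hq9006 => (set_option maxRecDepth 1000000 in conv => lhs; reduce)); intro _; exact ?xq9006 (@OfNat.ofNat Nat) instOfNatNat : List ℕ)
noncomputable def II : List (ℕ × List ℕ × List ℕ) :=
  let y0 : List (ℕ × List ℕ × List ℕ) := (by
  refine (?fq9007 : (fun (On : (n : Nat) → OfNat Nat n → Nat) (In : (n : Nat) → OfNat Nat n) => (pk61l (fun i0 => (_root_.Prod.mk (pk61o On In (pk61d (nat_lit 2) 
    (nat_lit 0x1a965040000000000000000000) i0)) (_root_.Prod.mk ((fun g0 : Nat → Nat => pk61l (fun i1 => (pk61o On In (pk61d (nat_lit 2) 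
    (nat_lit 0x620865a195666206088a585a06a9692a250218888486a16a26899aa2659911a941a590a6489891698a261220a0a6216a616aa862828518a9188211890a5a4a128664a0991261244aa999099290a04a45a862998119612a084a95aa285a0881682a0a908298a89196290848652191a68688999a099612588551a058520a) i1))) (g0 i0) (g0 (Nat.succ i0)) List.nil) fun j => (pk61d (nat_lit 9) 
    (nat_lit 0xfa7b7cfe1ed74b9bcce2f1373afd2e6b1f86be5cacb59a8516773093476230a7ebddd8e36bb2d7cb1522691c803b1b0c456260f866280f0501400) j)) ((fun g0 : Nat → Nat => pk61l (fun i1 => (pk61o On In (pk61d (nat_lit 2) 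
    (nat_lit 0x22189920669989292a284a0422616226851a48206646928594a05a1221645988aa182989a8a669a2468a4a89284462489a8a42198229422a1429081496604245a05860409969268a1292222a28010a698620858a96812826126589290a46594a64426528a1816122122522a606919620a82a) i1))) (g0 i0) (g0 (Nat.succ i0)) List.nil) fun j => (pk61d (nat_lit 9) 
    (nat_lit 0xe3f1f8fc7e3f1f8fc7e3f1f79afd7e93358ec2deadd62ab52e81359447225097e3c1c8db67b1574ab4f24d0e7836984ae4f228f06a2b1085c1600) j))))) (nat_lit 0) (nat_lit 51) List.nil : List (ℕ × List ℕ × List ℕ)))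
    = ?xq9007 → (List (ℕ × List ℕ × List ℕ))) ?hq9007; (case hq9007 => (set_option maxRecDepth 1000000 in conv => lhs; reduce)); intro _; exact ?xq9007 (@OfNat.ofNat Nat) instOfNatNat : List (ℕ × List ℕ × List ℕ))
  let y1 : List (ℕ × List ℕ × List ℕ) := (by
  refine (?fq9008 : (fun (On : (n : Nat) → OfNat Nat n → Nat) (In : (n : Nat) → OfNat Nat n) (tl : List (ℕ × List ℕ × List ℕ)) => (pk61l (fun i0 => (_root_.Prod.mk (pk61o On In (pk61d (nat_lit 1) 
    (nat_lit 0x2000) i0)) (_root_.Prod.mk ((fun g0 : Nat → Nat => pk61l (fun i1 => (pk61o On In (pk61d (nat_lit 2) 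
    (nat_lit 0x462a085a96066519245a12422991a526646a0601a06284a21164246985260594852a919825825119092211858949604296665a2862029246861211a61a040245aa645a5890a229a1810161aa629280628121648a626458962a186622612826896668488622146494608a9a11a266484949216a924a29228a654242a42964201990a222944258989) i1))) (g0 i0) (g0 (Nat.succ i0)) List.nil) fun j => (pk61d (nat_lit 10) 
    (nat_lit 0x87a14821fc7c5e576dd1719bb6bda56618d60d785b561555494f5304951a43d033e0ee38cd832cc12d8ac29098244851f07019059140460e82f08c1703400) j)) ((fun g0 : Nat → Nat => pk61l (fun i1 => (pk61o On In (pk61d (nat_lit 2) 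
    (nat_lit 0x8a2108629642662a92165aa1262a64a9948a12a28285a06810a1896852a19652494a6810a589a054a42a82222668a2169a2a92659886288618a588245842058425212658464a191a694208a68a645950a189851852a6989608a6a2486128190869288220828a249a885229289a2690168a1205a818a98a91a0a41464246969118288488866) i1))) (g0 i0) (g0 (Nat.succ i0)) List.nil) fun j => (pk61d (nat_lit 10) 
    (nat_lit 0x85209805f67addf751c96f9b66a59f6498b605765ad5f5514b4fd344a11c441053e4ee388d732cbf2d0a726c8e238841e46f19059134430dc2c0841602c00) j))))) (nat_lit 0) (nat_lit 49) tl : List (ℕ × List ℕ × List ℕ)))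
    = ?xq9008 → (List (ℕ × List ℕ × List ℕ))) ?hq9008; (case hq9008 => (set_option maxRecDepth 1000000 in conv => lhs; reduce)); intro _; exact ?xq9008 (@OfNat.ofNat Nat) instOfNatNat y0 : List (ℕ × List ℕ × List ℕ))
  (by
  refine (?fq9009 : (fun (On : (n : Nat) → OfNat Nat n → Nat) (In : (n : Nat) → OfNat Nat n) (tl : List (ℕ × List ℕ × List ℕ)) => (pk61l (fun i0 => (_root_.Prod.mk (pk61o On In (pk61d (nat_lit 1) 
    (nat_lit 0x1) i0)) (_root_.Prod.mk ((fun g0 : Nat → Nat => pk61l (fun i1 => (pk61o On In (pk61d (nat_lit 2) 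
    (nat_lit 0x65861a426115851a12686098a248962648681869925624944860614689a0208686a2841a20aa229a2828a2aaaa2849066629422851996aa56218a0069486094a9618266596122168a84a889199a68858581292aaaa91626a125925021a62096a226858a661852018599a096a0aaaa8499210a6a665a2412916aaa220626218a) i1))) (g0 i0) (g0 (Nat.succ i0)) List.nil) fun j => (pk61d (nat_lit 9) 
    (nat_lit 0x1fef97a3bdd3e4ef363a8cf64b0d7db959ab553a5d066d2a8f44a0afc78b9dbcd2642fd66b054a7522853d9bcc45726120863a178903414078040000) j)) ((fun g0 : Nat → Nat => pk61l (fun i1 => (pk61o On In (pk61d (nat_lit 2) 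
    (nat_lit 0x6186182a9688a9219a9819a225081810858448646962909999192418586a21a494866520882812191088a8669910a591a06224a4588aa684a024aa085198981a2891a58a14a822925924a0662a06849a052064aa889864660482682812646846619652a296244498981596699982652a629a61a48104992818a498261a62069464926605608126581489) i1))) (g0 i0) (g0 (Nat.succ i0)) List.nil) fun j => (pk61d (nat_lit 10) 
    (nat_lit 0x2288721182a017d5eb781d4725bd6c5a76719261d7d5c9665614e5113c4bd2245d0e40cf93c4e7374d131cbb2c4a62688f204751a45e14c490f430094190340c00000) j))))) (nat_lit 0) (nat_lit 52) tl : List (ℕ × List ℕ × List ℕ)))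
    = ?xq9009 → (List (ℕ × List ℕ × List ℕ))) ?hq9009; (case hq9009 => (set_option maxRecDepth 1000000 in conv => lhs; reduce)); intro _; exact ?xq9009 (@OfNat.ofNat Nat) instOfNatNat y1 : List (ℕ × List ℕ × List ℕ))
def ER : List ℕ := [0x4c0044006800640030002c002800600054005c0018005800500014003c0048003800400034000800240020001c00000010000c00040, 0x3800340020001c0068006400240010000c00500060005c005800540004004c004800440040003c00000030002c00280018001400080]
def D1 : ℕ := 0x465987a3b012b26079513a48b6895a7342103a789564b0124250a781b93632706591b84a32809a6147b5b2a058714639187a0524b936429086a135b716a9082347b51597062b3a484609a28315b73507926b184ab80a72541639ba9876543210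
def ED1 : List ℕ := [0x3c10240034303030380018002c002800100020001c00140004000c000800001, 0x3d50399034d030602d50299024d020d01c60195014d011a00d5009a00420002, 0x2c00281020001c003c0038301400340030000c0024000800180010000000040]
noncomputable def wD1 : List (List ℕ) :=
  (by
  refine (?fq9010 : ((pk61l (fun i1 => ((fun g1 : Nat → Nat => pk61l (fun i2 => (pk61d (nat_lit 2) 
    (nat_lit 0x888a22082288288882088a088820a222822) i2)) (g1 i1) (g1 (Nat.succ i1)) List.nil) fun j => (pk61d (nat_lit 7) 
    (nat_lit 0x467ee192c4c80d9622344860604000) j))) (nat_lit 0) (nat_lit 16) List.nil) : List (List ℕ))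
    = ?xq9010 → (List (List ℕ))) ?hq9010; (case hq9010 => (set_option maxRecDepth 1000000 in conv => lhs; reduce)); intro _; exact ?xq9010 : List (List ℕ))
def C1 : ℕ := 0xb86a59743012187a0524b93616a9082347b54609a28315b7781a50b429633507926b184a97456a3b8021b80a725416397a3859b4602137a5986b4210ba9876543210
def EC1 : List ℕ := [0x45105c403b50385058504d608020207099703f5098509960407042509f509ea09a209e109a809b504fa080708120397051803e10118,
  0xd6b0c3a0f260e070c19063a0acd0b640f360a260f740e3a076b0d740bea0ad60f2d0a3a0f710ff50de10b6b0a510e030c260aa107e1,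
  0xbd40b750d620c280b660a5a0e6c0e920d600e8a0c0706280ab90bc40f660e280c230f3806070d660a280e270e3706230ab60e230a23,
  0xf6f0e250a250b6f0e840f780d780dea0a070c2b0a2b0b780e910f290d680c140a50062b0ad10a4a0e2b0c2507ea0a430f6a06250f40,
  0x826092912d612080226083a103a10cd12ce10d612f712f009c403c41026105113f511ea120712da09d41164116b12a1085a10a10321,
  0x11c411660828092d10b9102812f312a6096612a2032d084810b6105a13e812b9082312eb096d0258117512ec13ea022311d412e11023,
  0x8b20904110c118503040892137113a811041396113811b5090c028a136b123a11a61364119410f70911138e12261140088a13a3030c,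
  0x12f5130a104a102b12d112af0225082c116f096810d1100712c5131809630251102508251050117813e4082b096f104312b0022b13e1,
  0x122713660884094013b3138a11311129094e108202d6088c13751397118e109a08ec10ec08d6034d122f119511480340122811a31223,
  0xfc40fa60d170cfa0fb50f170b360b260d180ba40ce006f50f180f0a0af50b2d0cf50b9707180d030f850b0a0b1807030ed60b030ea1,
  0x10f5110a139413b51118112602a208e2132609181378122511a411970917031813a208a2136f1377112d08fa090a13631136030a1103,
  0xbb50b940f8e0f950b040af70da10d040f040cf00f960eb90b380ba60da50ce30e5007970e580e480b0c0d9707a50fa30b8507a10b40,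
  0xc9a0d430c510d400c820dc406500c430c850d410d4d074d0c560dcb0dc206480d550c48068c0c8c07c40c500d49074006560643069a,
  0x6d6072906d106af0ccd0cce0ca207260cd306a20c610cd10ca10d310c680c770cb20c720caf0ca70cd60d2d0d2606610d29072d06a1,
  0xda60cf30aec0b480d8507a60fa40fa50b290eec0b8e0b3107b50db60ef40fa90a820f970a9a0b950db50eb20fb30ba30d940fa10785,
  0x1251125a1291129a13c4124815b5159712841518134d128a124c12501425150a134914071355128c124a14d615661340125514231243]
def D2 : ℕ := 0x6458973ab10249a8756b32016a583b947120b498537a620146a8b73591204ba86379521043a85b97601245a839b6710296b8a375402147a89653b0216358a9b742103978a65b41026758b4a392013b7854a9612095b874a63012ba9876543210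
def ED2 : List ℕ := [0x3d803830358031302d902970253021a01d901810158010100d80093005a0001, 0x3c20240034603060380018002c002800100020001c00140004000c000800002, 0x2c00282020001c003c0038601400340030000c0024000800180010000000040]
noncomputable def wD2 : List (List ℕ) :=
  (by
  refine (?fq9011 : ((pk61l (fun i1 => ((fun g1 : Nat → Nat => pk61l (fun i2 => (pk61d (nat_lit 2) 
    (nat_lit 0x999a66596699699996599a599965a666966) i2)) (g1 i1) (g1 (Nat.succ i1)) List.nil) fun j => (pk61d (nat_lit 7) 
    (nat_lit 0x467ee192c4c80d9622344860604000) j))) (nat_lit 0) (nat_lit 16) List.nil) : List (List ℕ))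
    = ?xq9011 → (List (List ℕ))) ?hq9011; (case hq9011 => (set_option maxRecDepth 1000000 in conv => lhs; reduce)); intro _; exact ?xq9011 : List (List ℕ))
def C2 : ℕ := 0x94b8356a721096b8a37540216358a9b742106758b4a392013b7854a96120a6359b78401297456a3b802195b874a630127a3859b4602137a5986b4210ba9876543210
def EC2 : List ℕ := [0x22a037503e103c705ac05a7080202d409a7032409ac09ba040705e10987099309ec099509f609e105ba0807081203a70402024600d4,
  0xa230be707ea0a390f4b0f4f0dec0bed0f7406390e120f6e0c070c440f500f390df60fe10df20dc90f460c390c080bea0c020a0107e7,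
  0xc430ca10c5a0cb80a120be10e070dd40a290dcd0bf307f30fec0f4a0bf106290ff60a090f440e0807e10f350e290ccb0e860dc70c40,
  0xe340f280f760e610cc80cd40b760e2a0c270f750de10d760a080b750df30d7506070c2a0a070b660d6607750a220e2707660f240f66,
  0x8610974084309c713e1130a1007085a12d809c212f612eb11f211ec12d112d7100812f5104411f6130211c910390524100205c70443,
  0x10b811d411c710a1082f096312cb104309c310cb05770846121412080829093913ec0539120713f6044613f212b9105a12e211cd1040,
  0x8c208a608d408b51105110a1268094a1187088f113511b1122313ac10eb1068132f11ba13a913991102139313b604d4126204eb054a,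
  0x130b13e712d412e3102711f3082712e110d412c81176102a082a097510c811e1082511750966042a116609760575121a056612b512c2,
  0x13281229136313240943088e11ac13a708e712610543091811a9115008d708e2112404e7112a119904e210e711b6139510e2127a1322,
  0xe430ee10fc70fd40bac0af90d440ed80af80f8406f90ba90ce10d4a0bb60b930c8907b60da70d3907ac0cf80c960ef90c860fba0e40,
  0x114411a710e110f81227126b094b10891225114a13751370095008f9122a13b10949137608e304f9136608f704d21139054b10961086,
  0xdb10c680ceb0d0a0eb80fa90ba70d050eeb0d870f990f0a0b050aeb0eb70fac0b020ef60b95070a0e460ae907a70d3507020dba0d02,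
  0x74b07c70bcd0bc707c9068e0a460a430bc90a5a0b430bd207c1074a0a440a8e0b440a4d0b450b4a07430a860a520b4b06460a4007d4,
  0xb280a730ad907240b2f0ac80acb06d80ac20b2406d40b350b230ad20ab50ad4066b06c80b390ac606b506d20b310b2e07390a7a067a,
  0xbb70b870b170aea0d240ce70e4a0bba0d500ae20d990dac0fa70e440da90d2a0ec80db60ec50eb50ce20ed40f1a07180ee207ba06e2,
  0x13cd125a124413c11355128e14c81243134b13c7134c128915751576128f135015ac134a14d415241286142a140713c9156613c81246]

theorem k_gens : allT gens = true := by decide +kernel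
theorem k_tx : injT tx = true := by decide +kernel
theorem k_ty : injT ty = true := by decide +kernel
theorem k_RT : chV RT 27 = true := by decide +kernel
theorem k_GT : chV GT 152 = true := by decide +kernel
theorem k_wR : chW gens RT wR 0 = true := by decide +kernel
theorem k_wG0 : isW [tx, ty] (wG.getD 0 []) (gens.getD 0 0) = true := by decide +kernel
theorem k_wG1 : isW [tx, ty] (wG.getD 1 []) (gens.getD 1 0) = true := by decide +kernel
theorem k_x : chL RT GT 27 152 tx EX 0 = true := chL_of (by decide +kernel)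
theorem k_y : chL RT GT 27 152 ty EY 0 = true := chL_of (by decide +kernel)
theorem k_I : chI gens h1 h2 tx ty GT II 0 = true := by decide +kernel
theorem k_ER : chSs RT idt 1 27 gens ER = true := by decide +kernel
theorem k_V1 : chV D1 16 = true := by decide +kernel
theorem k_S1 : chSs D1 RT 27 16 (gens ++ [h1]) ED1 = true := by decide +kernel
theorem k_wD1 : chW (gens ++ [h1]) D1 wD1 0 = true := by decide +kernel
theorem k_h1 : allT (gens ++ [h1]) = true := by decide +kernel
theorem k_VC1 : chV C1 11 = true := by decide +kernel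
theorem k_C1 : chC D1 RT C1 27 16 11 EC1 = true := by decide +kernel
theorem k_V2 : chV D2 16 = true := by decide +kernel
theorem k_S2 : chSs D2 RT 27 16 (gens ++ [h2]) ED2 = true := by decide +kernel
theorem k_wD2 : chW (gens ++ [h2]) D2 wD2 0 = true := by decide +kernel
theorem k_h2 : allT (gens ++ [h2]) = true := by decide +kernel
theorem k_VC2 : chV C2 11 = true := by decide +kernel
theorem k_C2 : chC D2 RT C2 27 16 11 EC2 = true := by decide +kernel

end Cfsg.Agent.H881.MF.Three
end

-- part: H881/MF/Over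
section
/-!
# Overgroups of Sylow subgroups of `M₁₂` (helper881)

`big_two`, `big_three`: a proper subgroup `T` of `M₁₂` containing a Sylow 2- or 3-subgroup satisfies
`2 |T| k(T) ≤ |M₁₂|`.
-/

set_option autoImplicit false
set_option maxRecDepth 100000

namespace Cfsg.Agent.H881.MF

open Cfsg
open Cfsg.Agent.H347.HX (alb of_alb)

theorem card_cosets {T : Subgroup (Equiv.Perm (Fin 12))} {gR : List ℕ} {DT RT m n : ℕ} (hn : 0 < n)
    (h : ∀ g ∈ T, ∃ j < m, ∃ b ∈ cl gR, g = ofT (tn DT j) * b)
    (hR : ∀ b ∈ cl gR, ∃ k < n, b = ofT (tn RT k)) : Nat.card T ≤ m * n := by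
  refine card_le_of_list (fun e => ofT (tn DT (e / n)) * ofT (tn RT (e % n))) fun g hg => ?_
  obtain ⟨j, hj, b, hb, rfl⟩ := h g hg
  obtain ⟨k, hk, rfl⟩ := hR b hb
  refine ⟨j * n + k, ?_, ?_⟩
  · calc j * n + k < j * n + n := by omega
      _ = (j + 1) * n := by ring
      _ ≤ m * n := Nat.mul_le_mul_right _ hj
  · rw [mul_comm j n, Nat.mul_add_div hn, Nat.div_eq_of_lt hk, add_zero, Nat.mul_add_mod, Nat.mod_eq_of_lt hk]

theorem pow_of_alb {RT n k : ℕ} (hv : chV RT n = true)
    (h : (alb n fun j => eqt (List.replicate k (tn RT j)) []) = true) (j : ℕ) (hj : j < n) :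
    ofT (tn RT j) ^ k = 1 := by
  have h1 := of_alb h j hj
  have h2 : pr (List.replicate k (tn RT j)) = pr [] := by
    refine pr_eq ?_ (fun T hT => absurd hT List.not_mem_nil) h1
    intro T hT
    rw [List.eq_of_mem_replicate hT]
    exact of_alb hv j hj
  rw [pr_nil] at h2
  rw [← h2]
  unfold pr
  rw [List.map_replicate, List.prod_replicate]

/-! ### The group -/

/-- `M₁₂` -/
noncomputable def M : Subgroup (Equiv.Perm (Fin 12)) := Subgroup.closure {ofT Two.tx, ofT Two.ty}

namespace Two

theorem mem_R (k : ℕ) (hk : k < 64) : ofT (tn RT k) ∈ cl gens := by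
  have hl : wR.length = 64 := by decide +kernel
  have h := of_chW k_wR k (by rw [hl]; exact hk)
  rwa [Nat.zero_add] at h

theorem list_R (b : Equiv.Perm (Fin 12)) (hb : b ∈ cl gens) : ∃ k < 64, b = ofT (tn RT k) :=
  list_of k_gens k_RT (by norm_num) (by decide +kernel) k_ER hb

theorem p_group : IsPGroup 2 (cl gens) := by
  rintro ⟨g, hg⟩
  obtain ⟨k, hk, rfl⟩ := list_R g hg
  refine ⟨3, Subtype.ext ?_⟩
  exact pow_of_alb k_RT (show (alb 64 fun j => eqt (List.replicate 8 (tn RT j)) []) = true by decide +kernel) k hk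

theorem cov (g : Equiv.Perm (Fin 12)) (hg : g ∈ M) :
    ∃ a < 64, ∃ i < 44, ∃ b ∈ cl gens, g = ofT (tn RT a) * ofT (tn GT i) * b := by
  refine cover k_tx k_ty (fun a ha => of_alb k_RT a ha) (fun i hi => of_alb k_GT i hi)
    ⟨0, by norm_num, 0, by norm_num, 0, by norm_num, by decide +kernel⟩ (cl gens) mem_R ?_ ?_ hg
  · intro i hi
    have hl : EX.length = 44 := by decide +kernel
    have h := of_chL k_x i (by rw [hl]; exact hi)
    rwa [Nat.zero_add] at h
  · intro i hi
    have hl : EY.length = 44 := by decide +kernel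
    have h := of_chL k_y i (by rw [hl]; exact hi)
    rwa [Nat.zero_add] at h

theorem cases (T : Subgroup (Equiv.Perm (Fin 12))) (hT : T ≤ M) (hne : T ≠ M) (hR : cl gens ≤ T) :
    T ≤ cl (gens ++ [h1]) ∨ T ≤ cl (gens ++ [h2]) := by
  refine overgroups mem_R cov _ _ (cl_le fun U hU => mem_cl U (List.mem_append_left _ hU))
    (cl_le fun U hU => mem_cl U (List.mem_append_left _ hU)) rfl ?_ T hT hne hR
  intro i hi
  have hl : II.length = 44 := by decide +kernel
  have h := of_chI k_I i (by rw [hl]; exact hi)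
  rwa [Nat.zero_add] at h

theorem card1 : Nat.card (cl (gens ++ [h1])) ≤ 192 :=
  card_cosets (n := 64) (m := 3) (by norm_num)
    (fun _ hg => cosets_of k_h1 k_RT k_V1 (by norm_num) (by decide +kernel) mem_R k_S1 hg) list_R

theorem card2 : Nat.card (cl (gens ++ [h2])) ≤ 192 :=
  card_cosets (n := 64) (m := 3) (by norm_num)
    (fun _ hg => cosets_of k_h2 k_RT k_V2 (by norm_num) (by decide +kernel) mem_R k_S2 hg) list_R

/-- **proper overgroups of a Sylow 2-subgroup** -/
theorem card_le (T : Subgroup (Equiv.Perm (Fin 12))) (hT : T ≤ M) (hne : T ≠ M) (hR : cl gens ≤ T) :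
    Nat.card T ≤ 192 := by
  rcases cases T hT hne hR with h | h
  · exact (Nat.card_le_card_of_injective _ (Subgroup.inclusion_injective h)).trans card1
  · exact (Nat.card_le_card_of_injective _ (Subgroup.inclusion_injective h)).trans card2

theorem gens_mem : cl gens ≤ M := by
  apply cl_le
  have hm : ∀ U ∈ [tx, ty], ofT U ∈ M := by
    intro U hU
    simp only [List.mem_cons, List.not_mem_nil, or_false] at hU
    rcases hU with rfl | rfl
    · exact Subgroup.subset_closure (Or.inl rfl)
    · exact Subgroup.subset_closure (Or.inr rfl)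
  intro U hU
  have e : gens = [gens.getD 0 0, gens.getD 1 0, gens.getD 2 0] := by decide +kernel
  rw [e] at hU
  simp only [List.mem_cons, List.not_mem_nil, or_false] at hU
  rcases hU with rfl | rfl | rfl
  exacts [mem_of_isW k_wG0 hm, mem_of_isW k_wG1 hm, mem_of_isW k_wG2 hm]

end Two

namespace Three

theorem mem_R (k : ℕ) (hk : k < 27) : ofT (tn RT k) ∈ cl gens := by
  have hl : wR.length = 27 := by decide +kernel
  have h := of_chW k_wR k (by rw [hl]; exact hk)
  rwa [Nat.zero_add] at h

theorem list_R (b : Equiv.Perm (Fin 12)) (hb : b ∈ cl gens) : ∃ k < 27, b = ofT (tn RT k) :=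
  list_of k_gens k_RT (by norm_num) (by decide +kernel) k_ER hb

theorem p_group : IsPGroup 3 (cl gens) := by
  rintro ⟨g, hg⟩
  obtain ⟨k, hk, rfl⟩ := list_R g hg
  refine ⟨1, Subtype.ext ?_⟩
  exact pow_of_alb k_RT (show (alb 27 fun j => eqt (List.replicate 3 (tn RT j)) []) = true by decide +kernel) k hk

theorem cov (g : Equiv.Perm (Fin 12)) (hg : g ∈ M) :
    ∃ a < 27, ∃ i < 152, ∃ b ∈ cl gens, g = ofT (tn RT a) * ofT (tn GT i) * b := by
  refine cover k_tx k_ty (fun a ha => of_alb k_RT a ha) (fun i hi => of_alb k_GT i hi)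
    ⟨0, by norm_num, 0, by norm_num, 0, by norm_num, by decide +kernel⟩ (cl gens) mem_R ?_ ?_ hg
  · intro i hi
    have hl : EX.length = 152 := by decide +kernel
    have h := of_chL k_x i (by rw [hl]; exact hi)
    rwa [Nat.zero_add] at h
  · intro i hi
    have hl : EY.length = 152 := by decide +kernel
    have h := of_chL k_y i (by rw [hl]; exact hi)
    rwa [Nat.zero_add] at h

theorem cases (T : Subgroup (Equiv.Perm (Fin 12))) (hT : T ≤ M) (hne : T ≠ M) (hR : cl gens ≤ T) :
    T ≤ cl (gens ++ [h1]) ∨ T ≤ cl (gens ++ [h2]) := by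
  refine overgroups mem_R cov _ _ (cl_le fun U hU => mem_cl U (List.mem_append_left _ hU))
    (cl_le fun U hU => mem_cl U (List.mem_append_left _ hU)) rfl ?_ T hT hne hR
  intro i hi
  have hl : II.length = 152 := by decide +kernel
  have h := of_chI k_I i (by rw [hl]; exact hi)
  rwa [Nat.zero_add] at h

theorem cos1 (g : Equiv.Perm (Fin 12)) (hg : g ∈ cl (gens ++ [h1])) :
    ∃ j < 16, ∃ b ∈ cl gens, g = ofT (tn D1 j) * b :=
  cosets_of k_h1 k_RT k_V1 (by norm_num) (by decide +kernel) mem_R k_S1 hg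

theorem cos2 (g : Equiv.Perm (Fin 12)) (hg : g ∈ cl (gens ++ [h2])) :
    ∃ j < 16, ∃ b ∈ cl gens, g = ofT (tn D2 j) * b :=
  cosets_of k_h2 k_RT k_V2 (by norm_num) (by decide +kernel) mem_R k_S2 hg

theorem card1 : Nat.card (cl (gens ++ [h1])) ≤ 432 := card_cosets (n := 27) (m := 16) (by norm_num) cos1 list_R

theorem card2 : Nat.card (cl (gens ++ [h2])) ≤ 432 := card_cosets (n := 27) (m := 16) (by norm_num) cos2 list_R

theorem classes_aux {DT CT c : ℕ} {gs : List ℕ} {wD : List (List ℕ)} {EC : List ℕ}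
    (hV : chV DT 16 = true) (hw : chW gs DT wD 0 = true) (hl : wD.length = 16) (hVC : chV CT c = true)
    (hC : chC DT RT CT 27 16 c EC = true) (hsub : cl gens ≤ cl gs)
    (hcos : ∀ g ∈ cl gs, ∃ j < 16, ∃ b ∈ cl gens, g = ofT (tn DT j) * b) :
    Nat.card (ConjClasses (cl gs)) ≤ c := by
  refine card_classes_le (fun i => ofT (tn CT i)) fun g hg => ?_
  obtain ⟨j, hj, b, hb, rfl⟩ := hcos g hg
  obtain ⟨k, hk, rfl⟩ := list_R b hb
  obtain ⟨j', hj', k', hk', i, hi, he⟩ := of_chC hC j hj k hk
  have h1 : pr [tn DT j', tn RT k', tn DT j, tn RT k] = pr [tn CT i, tn DT j', tn RT k'] := by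
    refine pr_eq ?_ ?_ he
    · intro T hT
      simp only [List.mem_cons, List.not_mem_nil, or_false] at hT
      rcases hT with rfl | rfl | rfl | rfl
      exacts [of_alb hV _ hj', of_alb k_RT _ hk', of_alb hV _ hj, of_alb k_RT _ hk]
    · intro T hT
      simp only [List.mem_cons, List.not_mem_nil, or_false] at hT
      rcases hT with rfl | rfl | rfl
      exacts [of_alb hVC _ hi, of_alb hV _ hj', of_alb k_RT _ hk']
  simp only [pr_cons, pr_nil, mul_one] at h1
  have hm := of_chW hw j' (by rw [hl]; exact hj')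
  rw [Nat.zero_add] at hm
  refine ⟨i, hi, ofT (tn DT j') * ofT (tn RT k'), mul_mem hm (hsub (mem_R k' hk')), ?_⟩
  rw [mul_inv_eq_iff_eq_mul, mul_assoc, h1]

theorem k1 : Nat.card (ConjClasses (cl (gens ++ [h1]))) ≤ 11 :=
  classes_aux k_V1 k_wD1 (by decide +kernel) k_VC1 k_C1
    (cl_le fun U hU => mem_cl U (List.mem_append_left _ hU)) cos1

theorem k2 : Nat.card (ConjClasses (cl (gens ++ [h2]))) ≤ 11 :=
  classes_aux k_V2 k_wD2 (by decide +kernel) k_VC2 k_C2
    (cl_le fun U hU => mem_cl U (List.mem_append_left _ hU)) cos2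

theorem small_or {T Y : Subgroup (Equiv.Perm (Fin 12))} (h : T ≤ Y) (hY : Nat.card Y ≤ 432) :
    T = Y ∨ Nat.card T ≤ 216 := by
  have h1 := Subgroup.card_dvd_of_le h
  obtain ⟨k, hk⟩ := h1
  by_cases hk1 : k = 1
  · left
    exact Subgroup.eq_of_le_of_card_ge h (by rw [hk, hk1, mul_one])
  · right
    have h2 : 0 < Nat.card Y := Nat.card_pos
    have h3 : k ≠ 0 := by rintro rfl; omega
    have h4 : Nat.card T * 2 ≤ Nat.card T * k := Nat.mul_le_mul_left _ (by omega)
    omega

/-- **proper overgroups of a Sylow 3-subgroup** -/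
theorem le (T : Subgroup (Equiv.Perm (Fin 12))) (hT : T ≤ M) (hne : T ≠ M) (hR : cl gens ≤ T) :
    Nat.card T ≤ 216 ∨ Nat.card T ≤ 432 ∧ Nat.card (ConjClasses T) ≤ 11 := by
  rcases cases T hT hne hR with h | h
  · rcases small_or h card1 with rfl | h1
    · exact Or.inr ⟨card1, k1⟩
    · exact Or.inl h1
  · rcases small_or h card2 with rfl | h1
    · exact Or.inr ⟨card2, k2⟩
    · exact Or.inl h1

theorem gens_mem : cl gens ≤ M := by
  apply cl_le
  have hm : ∀ U ∈ [tx, ty], ofT U ∈ M := by
    intro U hU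
    simp only [List.mem_cons, List.not_mem_nil, or_false] at hU
    rcases hU with rfl | rfl
    · exact Subgroup.subset_closure (Or.inl rfl)
    · exact Subgroup.subset_closure (Or.inr rfl)
  intro U hU
  have e : gens = [gens.getD 0 0, gens.getD 1 0] := by decide +kernel
  rw [e] at hU
  simp only [List.mem_cons, List.not_mem_nil, or_false] at hU
  rcases hU with rfl | rfl
  exacts [mem_of_isW k_wG0 hm, mem_of_isW k_wG1 hm]

end Three

/-! ### The isomorphism -/

open Cfsg.Agent.H932.Mt Cfsg.Agent.H24.M12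

/-- the action of `2.M₁₂` on the rows -/
def lpH : Γ →* Equiv.Perm (Fin 12) where
  toFun g := _root_.Cfsg.Agent.H932.Mt.lp g
  map_one' := by
    apply Equiv.ext
    intro i
    exact idx_pos i
  map_mul' g h := by
    apply Equiv.ext
    intro i
    exact lp_mul g h i

theorem lp_x : lpH (el [0]) = ofT Two.tx := by
  apply Equiv.ext
  intro i
  apply Fin.ext
  rw [ofT_apply Two.k_tx]
  have h : ∀ i : Fin 12, (_root_.Cfsg.Agent.H932.Mt.lp (el [0]) i).val = nb Two.tx i := by decide +kernel
  exact h i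

theorem lp_y : lpH (el [1]) = ofT Two.ty := by
  apply Equiv.ext
  intro i
  apply Fin.ext
  rw [ofT_apply Two.k_ty]
  have h : ∀ i : Fin 12, (_root_.Cfsg.Agent.H932.Mt.lp (el [1]) i).val = nb Two.ty i := by decide +kernel
  exact h i

theorem range_lpH : lpH.range = M := by
  rw [MonoidHom.range_eq_map, ← closure_gens, MonoidHom.map_closure]
  unfold M
  congr 1
  rw [Set.image_insert_eq, Set.image_singleton, lp_x, lp_y]

theorem ker_lpH : lpH.ker = sig.ker := by
  ext g
  rw [MonoidHom.mem_ker, MonoidHom.mem_ker]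
  constructor
  · intro h
    have h1 : ∀ i, _root_.Cfsg.Agent.H932.Mt.lp g i = i := fun i => congrArg (fun p : Equiv.Perm (Fin 12) => p i) h
    rcases of_diag (y := g) h1 with rfl | rfl
    · exact map_one _
    · exact sig_neg
  · intro h
    rcases eq_of_sig h with rfl | rfl
    · exact map_one _
    · apply Equiv.ext
      intro i
      have h2 : ∀ i : Fin 12, _root_.Cfsg.Agent.H932.Mt.lp neg i = i := by decide +kernel
      exact h2 i

/-- `M₁₂` as a permutation group on 12 points -/
theorem iso_M : Nonempty (Spor.M12 ≃* M) := by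
  have e1 : Γ ⧸ sig.ker ≃* Spor.M12 := QuotientGroup.quotientKerEquivOfSurjective sig sig_surjective
  have e2 : Γ ⧸ lpH.ker ≃* lpH.range := QuotientGroup.quotientKerEquivRange lpH
  exact ⟨e1.symm.trans ((QuotientGroup.quotientMulEquivOfEq ker_lpH.symm).trans
    (e2.trans (MulEquiv.subgroupCongr range_lpH)))⟩

theorem iso_X {X : Type*} [Group X] [Finite X] (hX : Cfsg.IsM12 X) : Nonempty (X ≃* M) := by
  have hs := CpAutTThree.MTwelve.simple
  have h12 : Cfsg.IsM12 Spor.M12 := ⟨hs, CpAutTThree.MTwelve.card⟩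
  obtain ⟨e1⟩ := Cfsg.Agent.S0421.result hX Spor.squareDodecad sd_mem
  obtain ⟨e2⟩ := Cfsg.Agent.S0421.result h12 Spor.squareDodecad sd_mem
  obtain ⟨e3⟩ := iso_M
  exact ⟨e1.trans (e2.symm.trans e3)⟩

/-! ### Transfer -/

theorem card_classes_congr {G H : Type*} [Group G] [Group H] (e : G ≃* H) :
    Nat.card (ConjClasses G) = Nat.card (ConjClasses H) := by
  refine Nat.card_congr ⟨ConjClasses.map e.toMonoidHom, ConjClasses.map e.symm.toMonoidHom, ?_, ?_⟩
  · intro c
    obtain ⟨g, rfl⟩ := ConjClasses.mk_surjective c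
    show ConjClasses.mk (e.symm (e g)) = _
    rw [e.symm_apply_apply]
  · intro c
    obtain ⟨g, rfl⟩ := ConjClasses.mk_surjective c
    show ConjClasses.mk (e (e.symm g)) = _
    rw [e.apply_symm_apply]

/-- transfer of an overgroup of a Sylow subgroup to the permutation group -/
theorem transfer {X : Type*} [Group X] [Finite X] (e : X ≃* M) {p : ℕ} [Fact p.Prime]
    (R : Subgroup (Equiv.Perm (Fin 12))) (hR : R ≤ M) (hp : IsPGroup p R) (T : Subgroup X) (hT : T ≠ ⊤)
    (Q : Sylow p X) (h : (Q : Subgroup X) ≤ T) :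
    ∃ T' : Subgroup (Equiv.Perm (Fin 12)), T' ≤ M ∧ T' ≠ M ∧ R ≤ T' ∧ Nat.card T = Nat.card T' ∧
      Nat.card (ConjClasses T) = Nat.card (ConjClasses T') := by
  let f : X →* Equiv.Perm (Fin 12) := M.subtype.comp e.toMonoidHom
  have hf : Function.Injective f := M.subtype_injective.comp e.injective
  have hpc : IsPGroup p (R.comap f) := hp.comap_of_injective f hf
  obtain ⟨Q', hQ'⟩ := hpc.exists_le_sylow
  obtain ⟨g, hg⟩ := MulAction.exists_smul_eq X Q Q'
  let φ : X →* Equiv.Perm (Fin 12) := f.comp (MulAut.conj g).toMonoidHom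
  have hφ : Function.Injective φ := hf.comp (MulAut.conj g).injective
  have hle : T.map φ ≤ M := by
    rintro _ ⟨t, -, rfl⟩
    exact (e (MulAut.conj g t)).2
  refine ⟨T.map φ, hle, ?_, ?_, ?_, ?_⟩
  · intro he
    apply hT
    rw [eq_top_iff]
    intro t _
    have h1 : φ t ∈ M := (e (MulAut.conj g t)).2
    rw [← he] at h1
    obtain ⟨t', ht', he'⟩ := h1
    rwa [← hφ he']
  · intro z hz
    obtain ⟨w, hw⟩ := e.surjective ⟨z, hR hz⟩
    have hfw : f w = z := congrArg Subtype.val hw
    have h1 : w ∈ R.comap f := by rw [Subgroup.mem_comap, hfw]; exact hz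
    have h2 : w ∈ (Q' : Subgroup X) := hQ' h1
    rw [← hg, Sylow.smul_def, Sylow.pointwise_smul_def] at h2
    obtain ⟨q, hq, hqw⟩ := h2
    refine ⟨q, h hq, ?_⟩
    show f (MulAut.conj g q) = z
    rw [← hfw]
    exact congrArg f hqw
  · exact Nat.card_congr (T.equivMapOfInjective φ hφ).toEquiv
  · exact card_classes_congr (T.equivMapOfInjective φ hφ)

theorem k_le {G : Type*} [Group G] [Finite G] : Nat.card (ConjClasses G) ≤ Nat.card G :=
  Nat.card_le_card_of_surjective _ ConjClasses.mk_surjective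

/-- **a proper subgroup of `M₁₂` containing a Sylow 2-subgroup is small** -/
theorem big_two {X : Type*} [Group X] [Finite X] (hX : Cfsg.IsM12 X) (T : Subgroup X) (hT : T ≠ ⊤)
    (Q : Sylow 2 X) (h : (Q : Subgroup X) ≤ T) : 2 * (Nat.card T * Nat.card (ConjClasses T)) ≤ 95040 := by
  obtain ⟨e⟩ := iso_X hX
  have : Fact (Nat.Prime 2) := ⟨Nat.prime_two⟩
  obtain ⟨T', h1, h2, h3, h4, h5⟩ := transfer e (cl Two.gens) Two.gens_mem Two.p_group T hT Q h
  have h6 := Two.card_le T' h1 h2 h3
  have h7 := k_le (G := T')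
  rw [h4, h5]
  calc 2 * (Nat.card T' * Nat.card (ConjClasses T')) ≤ 2 * (192 * 192) :=
        Nat.mul_le_mul_left _ (Nat.mul_le_mul h6 (h7.trans h6))
    _ ≤ 95040 := by norm_num

/-- **a proper subgroup of `M₁₂` containing a Sylow 3-subgroup is small** -/
theorem big_three {X : Type*} [Group X] [Finite X] (hX : Cfsg.IsM12 X) (T : Subgroup X) (hT : T ≠ ⊤)
    (Q : Sylow 3 X) (h : (Q : Subgroup X) ≤ T) : 2 * (Nat.card T * Nat.card (ConjClasses T)) ≤ 95040 := by
  obtain ⟨e⟩ := iso_X hX
  have : Fact (Nat.Prime 3) := ⟨Nat.prime_three⟩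
  obtain ⟨T', h1, h2, h3, h4, h5⟩ := transfer e (cl Three.gens) Three.gens_mem Three.p_group T hT Q h
  have h7 := k_le (G := T')
  rw [h4, h5]
  rcases Three.le T' h1 h2 h3 with h6 | ⟨h6, h8⟩
  · calc 2 * (Nat.card T' * Nat.card (ConjClasses T')) ≤ 2 * (216 * 216) :=
          Nat.mul_le_mul_left _ (Nat.mul_le_mul h6 (h7.trans h6))
      _ ≤ 95040 := by norm_num
  · calc 2 * (Nat.card T' * Nat.card (ConjClasses T')) ≤ 2 * (432 * 11) :=
          Nat.mul_le_mul_left _ (Nat.mul_le_mul h6 h8)
      _ ≤ 95040 := by norm_num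

end Cfsg.Agent.H881.MF
end

-- part: H881/MF/Gen
section
/-!
# Generation of `M₁₂` by conjugates (helper881)

* `gen_two`: two conjugates of an element of order at least 3 generate `M₁₂`;
* `gen_three`: three conjugates of an element `≠ 1` generate `M₁₂`;
* `card_invol`: at most 7128 involutions.
-/

set_option autoImplicit false
set_option maxRecDepth 100000

namespace Cfsg.Agent.H881.MF

open Cfsg
open Cfsg.Agent.H347.HX (alb of_alb)
open Cfsg.Agent.H932.Mt Cfsg.Agent.H24.M12

/-- tables of the representatives -/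
def GK (k : ℕ) : ℕ := [0xba9876543210, 0xb0543698721a, 0x50b41a927836, 0xb69a48320715, 0x251783a06b94, 0x542168b0a973, 0xa2987b501643, 0x5a964218073b, 0x8639152a4b7, 0x80431972a6b5, 0x1936857b4a2, 0x2839b5a47106, 0x758a30649b21, 0x15372048ba69, 0x2a193b86457].getD k 0

/-- check of the tables of the representatives -/
def chK (k : ℕ) : Bool := bif injT (GK k) then
  (alb 12 fun i => Nat.beq (Nat.div (aw (RW k) (Nat.mul 2 i)) 2) (nb (GK k) i)) else false

theorem k_K : (alb 15 chK) = true := by decide +kernel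

theorem lpH_rp (k : ℕ) (hk : k < 15) : lpH (_root_.Cfsg.Agent.H24.M12.rp k) = ofT (GK k) := by
  obtain ⟨h1, h2⟩ := bif_true (of_alb k_K k hk)
  apply Equiv.ext
  intro i
  apply Fin.ext
  rw [ofT_apply h1]
  have h3 := Nat.eq_of_beq_eq_true (of_alb h2 i i.2)
  rw [← h3]
  exact lp_el (RW k) i

/-- every element of `M` is conjugate in `M` to a representative -/
theorem classes_M (z : Equiv.Perm (Fin 12)) (hz : z ∈ M) : ∃ k < 15, ∃ u ∈ M, z = u * ofT (GK k) * u⁻¹ := by
  rw [← range_lpH] at hz
  obtain ⟨g, rfl⟩ := hz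
  obtain ⟨k, hk⟩ := classes g
  refine ⟨k, k.2, ?_⟩
  have hneg : lpH neg = 1 := by
    have h : neg ∈ lpH.ker := by rw [ker_lpH]; exact sig_neg
    exact h
  rcases hk with hk | hk
  · obtain ⟨c, hc⟩ := isConj_iff.1 hk.symm
    refine ⟨lpH c, by rw [← range_lpH]; exact ⟨_, rfl⟩, ?_⟩
    rw [← lpH_rp k k.2, ← hc, map_mul, map_mul, map_inv]
  · obtain ⟨c, hc⟩ := isConj_iff.1 hk.symm
    refine ⟨lpH c, by rw [← range_lpH]; exact ⟨_, rfl⟩, ?_⟩
    rw [← lpH_rp k k.2, ← hc, map_mul, map_mul, map_inv, map_mul, hneg, one_mul]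

theorem mem_xy : ∀ U ∈ [Two.tx, Two.ty], ofT U ∈ M := by
  intro U hU
  simp only [List.mem_cons, List.not_mem_nil, or_false] at hU
  rcases hU with rfl | rfl
  · exact Subgroup.subset_closure (Or.inl rfl)
  · exact Subgroup.subset_closure (Or.inr rfl)

/-- `g` and its conjugate by `h` generate -/
def G2 (z : Equiv.Perm (Fin 12)) : Prop :=
  ∃ h ∈ M, ∀ T : Subgroup (Equiv.Perm (Fin 12)), z ∈ T → h * z * h⁻¹ ∈ T → M ≤ T

/-- `g` and two conjugates generate -/
def G3 (z : Equiv.Perm (Fin 12)) : Prop :=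
  ∃ h ∈ M, ∃ k ∈ M, ∀ T : Subgroup (Equiv.Perm (Fin 12)), z ∈ T → h * z * h⁻¹ ∈ T → k * z * k⁻¹ ∈ T → M ≤ T

theorem M_le {T : Subgroup (Equiv.Perm (Fin 12))} (hx : ofT Two.tx ∈ T) (hy : ofT Two.ty ∈ T) : M ≤ T := by
  unfold M
  rw [Subgroup.closure_le]
  rintro z (rfl | rfl)
  exacts [hx, hy]

/-- check: `c = h g h⁻¹`, words of the generators in `g, c` -/
def ch2 (g h c : ℕ) (wh wx wy : List ℕ) : Bool :=
  bif isW [Two.tx, Two.ty] wh h then (bif eqv [c, h] [h, g] then (bif isW [g, c] wx Two.tx then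
    isW [g, c] wy Two.ty else false) else false) else false

theorem of_ch2 {g h c : ℕ} {wh wx wy : List ℕ} (hc : ch2 g h c wh wx wy = true) : G2 (ofT g) := by
  obtain ⟨e1, e2⟩ := bif_true hc
  obtain ⟨e3, e4⟩ := bif_true e2
  obtain ⟨e5, e6⟩ := bif_true e4
  refine ⟨ofT h, mem_of_isW e1 mem_xy, fun T h1 h2 => ?_⟩
  have h3 := pr_eqv e3
  simp only [pr_cons, pr_nil, mul_one] at h3
  rw [mul_inv_eq_of_eq_mul h3.symm] at h2
  have hm : ∀ U ∈ [g, c], ofT U ∈ T := by
    intro U hU
    simp only [List.mem_cons, List.not_mem_nil, or_false] at hU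
    rcases hU with rfl | rfl
    exacts [h1, h2]
  exact M_le (mem_of_isW e5 hm) (mem_of_isW e6 hm)

/-- check for three conjugates -/
def ch3 (g h c k d : ℕ) (wh wk wx wy : List ℕ) : Bool :=
  bif isW [Two.tx, Two.ty] wh h then (bif isW [Two.tx, Two.ty] wk k then (bif eqv [c, h] [h, g] then
    (bif eqv [d, k] [k, g] then (bif isW [g, c, d] wx Two.tx then
    isW [g, c, d] wy Two.ty else false) else false) else false) else false) else false

theorem of_ch3 {g h c k d : ℕ} {wh wk wx wy : List ℕ} (hc : ch3 g h c k d wh wk wx wy = true) : G3 (ofT g) := by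
  obtain ⟨e1, e2⟩ := bif_true hc
  obtain ⟨e3, e4⟩ := bif_true e2
  obtain ⟨e5, e6⟩ := bif_true e4
  obtain ⟨e7, e8⟩ := bif_true e6
  obtain ⟨e9, e10⟩ := bif_true e8
  refine ⟨ofT h, mem_of_isW e1 mem_xy, ofT k, mem_of_isW e3 mem_xy, fun T h1 h2 h3 => ?_⟩
  have h4 := pr_eqv e5
  have h5 := pr_eqv e7
  simp only [pr_cons, pr_nil, mul_one] at h4 h5
  rw [mul_inv_eq_of_eq_mul h4.symm] at h2
  rw [mul_inv_eq_of_eq_mul h5.symm] at h3
  have hm : ∀ U ∈ [g, c, d], ofT U ∈ T := by
    intro U hU
    simp only [List.mem_cons, List.not_mem_nil, or_false] at hU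
    rcases hU with rfl | rfl | rfl
    exacts [h1, h2, h3]
  exact M_le (mem_of_isW e9 hm) (mem_of_isW e10 hm)

theorem G2.three {z : Equiv.Perm (Fin 12)} (h : G2 z) : G3 z := by
  obtain ⟨h, hh, H⟩ := h
  exact ⟨h, hh, 1, one_mem _, fun T h1 h2 _ => H T h1 h2⟩

theorem G2.conj {z u : Equiv.Perm (Fin 12)} (hz : G2 z) (hu : u ∈ M) : G2 (u * z * u⁻¹) := by
  obtain ⟨h, hh, H⟩ := hz
  refine ⟨u * h * u⁻¹, mul_mem (mul_mem hu hh) (inv_mem hu), fun T h1 h2 => ?_⟩
  have h3 := H (T.comap (MulAut.conj u).toMonoidHom) (by rw [Subgroup.mem_comap]; exact h1) (by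
    rw [Subgroup.mem_comap]
    show u * (h * z * h⁻¹) * u⁻¹ ∈ T
    have e : u * h * u⁻¹ * (u * z * u⁻¹) * (u * h * u⁻¹)⁻¹ = u * (h * z * h⁻¹) * u⁻¹ := by group
    rwa [e] at h2)
  intro m hm
  have h4 := h3 (show u⁻¹ * m * u ∈ M from mul_mem (mul_mem (inv_mem hu) hm) hu)
  rw [Subgroup.mem_comap] at h4
  have e : u * (u⁻¹ * m * u) * u⁻¹ = m := by group
  rw [← e]
  exact h4

theorem G3.conj {z u : Equiv.Perm (Fin 12)} (hz : G3 z) (hu : u ∈ M) : G3 (u * z * u⁻¹) := by
  obtain ⟨h, hh, k, hk, H⟩ := hz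
  refine ⟨u * h * u⁻¹, mul_mem (mul_mem hu hh) (inv_mem hu), u * k * u⁻¹, mul_mem (mul_mem hu hk) (inv_mem hu),
    fun T h1 h2 h2' => ?_⟩
  have h3 := H (T.comap (MulAut.conj u).toMonoidHom) (by rw [Subgroup.mem_comap]; exact h1) (by
    rw [Subgroup.mem_comap]
    show u * (h * z * h⁻¹) * u⁻¹ ∈ T
    have e : u * h * u⁻¹ * (u * z * u⁻¹) * (u * h * u⁻¹)⁻¹ = u * (h * z * h⁻¹) * u⁻¹ := by group
    rwa [e] at h2) (by
    rw [Subgroup.mem_comap]
    show u * (k * z * k⁻¹) * u⁻¹ ∈ T
    have e : u * k * u⁻¹ * (u * z * u⁻¹) * (u * k * u⁻¹)⁻¹ = u * (k * z * k⁻¹) * u⁻¹ := by group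
    rwa [e] at h2')
  intro m hm
  have h4 := h3 (show u⁻¹ * m * u ∈ M from mul_mem (mul_mem (inv_mem hu) hm) hu)
  rw [Subgroup.mem_comap] at h4
  have e : u * (u⁻¹ * m * u) * u⁻¹ = m := by group
  rw [← e]
  exact h4

theorem g1 : G3 (ofT (GK 1)) := of_ch3 (h := 0x2475b90831a6) (c := 0x3a950486b217) (k := 0x6180372954ab) (d := 0x1a02763458b9)
  (wh := [1, 0, 0]) (wk := [0, 0, 1, 0])
  (wx := [2, 1, 2, 0, 1, 2, 1, 2, 0, 2, 1])
  (wy := [0]) (by decide +kernel)

theorem g2 : G2 (ofT (GK 2)) := of_ch2 (h := 0x410a32597b86) (c := 0xa9b732058164) (wh := [0, 1, 0, 1, 0, 0])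
  (wx := [1, 0, 1, 0, 1, 0, 0, 1, 0, 0, 1, 0, 1, 1, 0])
  (wy := [1, 0, 1, 1, 0, 1, 0, 0, 1, 1, 0, 0, 1, 1, 0, 0, 1, 0, 1, 1, 0, 1, 0]) (by decide +kernel)

theorem g3 : G2 (ofT (GK 3)) := of_ch2 (h := 0x8160ab245937) (c := 0x4a8267935b1) (wh := [0, 0, 0])
  (wx := [0, 0, 1, 0, 1, 0, 1, 0, 1, 0, 0, 1, 1, 0, 0, 1])
  (wy := [0, 0, 1, 0, 1, 1, 0, 1, 0, 1, 1, 0, 1, 0, 1, 1, 0, 0, 1, 0, 1, 1]) (by decide +kernel)

theorem g4 : G3 (ofT (GK 4)) := of_ch3 (h := 0x2475b90831a6) (c := 0x5736a8b09124) (k := 0x19732a84b065) (d := 0xab8967452301)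
  (wh := [1, 0, 0]) (wk := [0, 0, 0, 0])
  (wx := [1, 0, 1, 0, 2, 0, 2, 1, 2, 0, 2, 0, 2, 1, 0, 1, 0, 2, 0])
  (wy := [2, 1, 2, 0, 2, 0, 2, 0, 1, 0, 2, 0, 2, 1, 2, 1, 0, 2]) (by decide +kernel)

theorem g5 : G2 (ofT (GK 5)) := of_ch2 (h := 0x845ba0316927) (c := 0x205364918a7b) (wh := [0, 1, 0, 0])
  (wx := [0, 1, 1, 0, 0, 1, 0, 1, 1, 0, 1, 0, 0, 1, 0, 1, 0, 1])
  (wy := [1, 0, 0, 1, 0, 0, 1]) (by decide +kernel)

theorem g6 : G2 (ofT (GK 6)) := of_ch2 (h := 0x8160ab245937) (c := 0x8ab156374290) (wh := [0, 0, 0])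
  (wx := [1, 1, 0, 0, 0, 1, 1, 1, 0, 1, 1, 1, 0])
  (wy := [1, 0, 1, 1, 0, 0, 0, 1, 1, 0, 1, 1, 0, 0, 0, 1]) (by decide +kernel)

theorem g7 : G2 (ofT (GK 7)) := of_ch2 (h := 0xb0543698721a) (c := 0x9b14a2568370) (wh := [1])
  (wx := [0, 0, 0, 0, 1, 1, 1, 1])
  (wy := [0, 1, 0, 1, 0, 1, 0, 1, 0, 1, 0]) (by decide +kernel)

theorem g8 : G2 (ofT (GK 8)) := of_ch2 (h := 0xa20157b46893) (c := 0xb3a492085167) (wh := [0])
  (wx := [0, 0, 0, 1, 1, 1, 0])
  (wy := [1, 1, 1]) (by decide +kernel)

theorem g9 : G2 (ofT (GK 9)) := of_ch2 (h := 0x79136580b42a) (c := 0x98a63215b704) (wh := [0, 0, 0, 1, 0])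
  (wx := [0, 0, 0, 0, 1, 0, 0, 1, 1, 1, 0, 0])
  (wy := [1, 1, 0, 0, 0, 0, 0, 0, 1, 0, 0]) (by decide +kernel)

theorem g10 : G2 (ofT (GK 10)) := of_ch2 (h := 0x46810a723b59) (c := 0x21b87569403a) (wh := [0, 1, 0, 0, 0, 1])
  (wx := [0, 0, 1, 0, 0, 1, 0, 1, 0, 1, 1, 0, 1])
  (wy := [1, 1, 1, 1, 1, 0, 0, 0, 0, 1, 1, 1]) (by decide +kernel)

theorem g11 : G2 (ofT (GK 11)) := of_ch2 (h := 0xb0543698721a) (c := 0x26083975b1a4) (wh := [1])
  (wx := [0, 0, 0, 0, 0, 0])
  (wy := [0, 1, 0, 1, 0, 1, 0, 1, 0, 1, 0]) (by decide +kernel)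

theorem g12 : G2 (ofT (GK 12)) := of_ch2 (h := 0xb0543698721a) (c := 0x31685a407b29) (wh := [1])
  (wx := [0, 0, 0, 0, 0])
  (wy := [0, 1, 0, 1, 0, 1, 0, 1, 0, 1, 0]) (by decide +kernel)

theorem g13 : G2 (ofT (GK 13)) := of_ch2 (h := 0x2475b90831a6) (c := 0x196537b02a48) (wh := [1, 0, 0])
  (wx := [1, 0, 1, 1, 1, 1, 1, 0, 0, 0, 0, 1])
  (wy := [0, 1, 0, 0, 1, 0, 1, 1, 0, 1, 0]) (by decide +kernel)

theorem g14 : G2 (ofT (GK 14)) := of_ch2 (h := 0x2839b5a47106) (c := 0x32015b79864a) (wh := [0, 0])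
  (wx := [0, 1, 0, 1, 1, 0, 0, 1, 0, 0])
  (wy := [0, 1, 0, 1, 1, 0, 0, 1, 0]) (by decide +kernel)

theorem GK_zero : ofT (GK 0) = 1 := ofT_id

theorem sq_of_eqt {k : ℕ} (h : eqv [GK k, GK k] [] = true) : ofT (GK k) ^ 2 = 1 := by
  have h1 := pr_eqv h
  simp only [pr_cons, pr_nil, mul_one] at h1
  rw [pow_two, h1]

theorem gen_M {z : Equiv.Perm (Fin 12)} (hz : z ∈ M) (h2 : z ^ 2 ≠ 1) : G2 z := by
  obtain ⟨k, hk, u, hu, rfl⟩ := classes_M z hz
  have h3 : ofT (GK k) ^ 2 ≠ 1 := by
    intro h
    apply h2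
    rw [conj_pow, h]
    group
  refine G2.conj ?_ hu
  interval_cases k
  · exact absurd (by rw [GK_zero, one_pow]) h3
  · exact absurd (sq_of_eqt (by decide +kernel)) h3
  · exact g2
  · exact g3
  · exact absurd (sq_of_eqt (by decide +kernel)) h3
  · exact g5
  · exact g6
  · exact g7
  · exact g8
  · exact g9
  · exact g10
  · exact g11
  · exact g12
  · exact g13
  · exact g14

theorem gen_M3 {z : Equiv.Perm (Fin 12)} (hz : z ∈ M) (h1 : z ≠ 1) : G3 z := by
  by_cases h2 : z ^ 2 = 1
  · obtain ⟨k, hk, u, hu, rfl⟩ := classes_M z hz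
    refine G3.conj ?_ hu
    interval_cases k
    · exfalso
      apply h1
      rw [GK_zero]
      group
    · exact g1
    · exact g2.three
    · exact g3.three
    · exact g4
    · exact g5.three
    · exact g6.three
    · exact g7.three
    · exact g8.three
    · exact g9.three
    · exact g10.three
    · exact g11.three
    · exact g12.three
    · exact g13.three
    · exact g14.three
  · exact (gen_M hz h2).three

/-- **two conjugates generate** -/
theorem gen_two {X : Type*} [Group X] [Finite X] (hX : Cfsg.IsM12 X) (g : X) (hg : g ^ 2 ≠ 1) :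
    ∃ h, Subgroup.closure {g, h * g * h⁻¹} = ⊤ := by
  obtain ⟨e⟩ := iso_X hX
  let f : X →* Equiv.Perm (Fin 12) := M.subtype.comp e.toMonoidHom
  have hf : Function.Injective f := M.subtype_injective.comp e.injective
  have hfm : ∀ x, f x ∈ M := fun x => (e x).2
  have hfs : ∀ z ∈ M, ∃ x, f x = z := fun z hz => by
    obtain ⟨x, hx⟩ := e.surjective ⟨z, hz⟩
    exact ⟨x, congrArg Subtype.val hx⟩
  obtain ⟨h, hh, H⟩ := gen_M (hfm g) (fun h => hg (hf (by rw [map_pow, h, map_one])))
  obtain ⟨h', rfl⟩ := hfs h hh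
  refine ⟨h', ?_⟩
  have h1 := H ((Subgroup.closure {g, h' * g * h'⁻¹}).map f) ⟨g, Subgroup.subset_closure (by simp), rfl⟩
    ⟨h' * g * h'⁻¹, Subgroup.subset_closure (by simp), by rw [map_mul, map_mul, map_inv]⟩
  rw [eq_top_iff]
  intro x _
  obtain ⟨y, hy, hxy⟩ := h1 (hfm x)
  rwa [← hf hxy]

/-- **three conjugates generate** -/
theorem gen_three {X : Type*} [Group X] [Finite X] (hX : Cfsg.IsM12 X) (g : X) (hg : g ≠ 1) :
    ∃ h k, Subgroup.closure {g, h * g * h⁻¹, k * g * k⁻¹} = ⊤ := by
  obtain ⟨e⟩ := iso_X hX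
  let f : X →* Equiv.Perm (Fin 12) := M.subtype.comp e.toMonoidHom
  have hf : Function.Injective f := M.subtype_injective.comp e.injective
  have hfm : ∀ x, f x ∈ M := fun x => (e x).2
  have hfs : ∀ z ∈ M, ∃ x, f x = z := fun z hz => by
    obtain ⟨x, hx⟩ := e.surjective ⟨z, hz⟩
    exact ⟨x, congrArg Subtype.val hx⟩
  obtain ⟨h, hh, k, hk, H⟩ := gen_M3 (hfm g) (fun h => hg (hf (by rw [h, map_one])))
  obtain ⟨h', rfl⟩ := hfs h hh
  obtain ⟨k', rfl⟩ := hfs k hk
  refine ⟨h', k', ?_⟩
  have h1 := H ((Subgroup.closure {g, h' * g * h'⁻¹, k' * g * k'⁻¹}).map f)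
    ⟨g, Subgroup.subset_closure (by simp only [_root_.Set.mem_insert_iff, _root_.Set.mem_singleton_iff, _root_.true_or]), rfl⟩
    ⟨h' * g * h'⁻¹, Subgroup.subset_closure (by simp only [_root_.Set.mem_insert_iff, _root_.Set.mem_singleton_iff, _root_.true_or, _root_.or_true]), by rw [map_mul, map_mul, map_inv]⟩
    ⟨k' * g * k'⁻¹, Subgroup.subset_closure (by simp only [_root_.Set.mem_insert_iff, _root_.Set.mem_singleton_iff, _root_.or_true]), by rw [map_mul, map_mul, map_inv]⟩
  rw [eq_top_iff]
  intro x _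
  obtain ⟨y, hy, hxy⟩ := h1 (hfm x)
  rwa [← hf hxy]

/-! ### Involutions -/

/-- check: the table `c` is a word, commutes with `g`, `c ^ a = 1`, `c ^ b ≠ 1` -/
def chO (g c : ℕ) (w : List ℕ) (a b : ℕ) : Bool :=
  bif isW [Two.tx, Two.ty] w c then (bif eqv [c, g] [g, c] then (bif eqv (List.replicate a c) [] then
    (bif eqt (List.replicate b c) [] then false else true) else false) else false) else false

theorem pr_replicate (a c : ℕ) : pr (List.replicate a c) = ofT c ^ a := by
  unfold pr
  rw [List.map_replicate, List.prod_replicate]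

theorem of_chO {g c : ℕ} {w : List ℕ} {a b : ℕ} (h : chO g c w a b = true) :
    ofT c ∈ M ∧ ofT c * ofT g = ofT g * ofT c ∧ ofT c ^ a = 1 ∧ ofT c ^ b ≠ 1 := by
  obtain ⟨e1, e2⟩ := bif_true h
  obtain ⟨e3, e4⟩ := bif_true e2
  obtain ⟨e5, e6⟩ := bif_true e4
  have h3 := pr_eqv e3
  have h5 := pr_eqv e5
  simp only [pr_cons, pr_nil, mul_one] at h3
  rw [pr_replicate, pr_nil] at h5
  refine ⟨mem_of_isW e1 mem_xy, h3, h5, fun h6 => ?_⟩
  have hc : injT c = true := by
    unfold eqv at e3
    obtain ⟨f1, -⟩ := bif_true e3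
    exact of_allT f1 c List.mem_cons_self
  have h7 : eqt (List.replicate b c) [] = true := by
    have h8 : pr (List.replicate b c) = pr [] := by rw [pr_replicate, pr_nil, h6]
    unfold eqt
    have key : ∀ n ≤ 12, (alb n fun i => Nat.beq (apl (List.replicate b c) i) (apl [] i)) = true := by
      intro n
      induction n with
      | zero => intro _; rfl
      | succ m ih =>
        intro hm
        show (bif Nat.beq (apl (List.replicate b c) m) (apl [] m) then
          (alb m fun i => Nat.beq (apl (List.replicate b c) i) (apl [] i)) else false) = true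
        have h9 := congrArg (fun p : Equiv.Perm (Fin 12) => ((p ⟨m, hm⟩ : Fin 12) : ℕ)) h8
        rw [pr_apply (fun T hT => by rw [List.eq_of_mem_replicate hT]; exact hc),
          pr_apply (fun T hT => absurd hT List.not_mem_nil)] at h9
        have h10 : Nat.beq (apl (List.replicate b c) m) (apl [] m) = true := by
          rw [show apl (List.replicate b c) m = apl [] m from h9]
          exact Nat.beq_refl _
        rw [h10, cond_true]
        exact ih (Nat.le_of_succ_le hm)
    exact key 12 le_rfl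
  rw [h7, cond_true] at e6
  cases e6

theorem dvd_cent {X : Type*} [Group X] [Finite X] {f : X →* Equiv.Perm (Fin 12)} (hf : Function.Injective f)
    (hfs : ∀ z ∈ M, ∃ x, f x = z) {t : X} {g c : ℕ} (ht : f t = ofT g) {w : List ℕ} {p n : ℕ} [Fact p.Prime]
    (h : chO g c w (p ^ (n + 1)) (p ^ n) = true) :
    p ^ (n + 1) ∣ Nat.card ↥(Subgroup.centralizer ({t} : Set X)) := by
  obtain ⟨h1, h2, h3, h4⟩ := of_chO h
  obtain ⟨x, hx⟩ := hfs _ h1
  have hxc : x ∈ Subgroup.centralizer ({t} : Set X) := by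
    rw [Subgroup.mem_centralizer_singleton_iff]
    exact hf (by rw [map_mul, map_mul, hx, ht, h2])
  have ho : orderOf x = p ^ (n + 1) := by
    apply orderOf_eq_prime_pow
    · intro h5
      apply h4
      rw [← hx, ← map_pow, h5, map_one]
    · apply hf
      rw [map_pow, hx, h3, map_one]
  have h6 : orderOf (⟨x, hxc⟩ : ↥(Subgroup.centralizer ({t} : Set X))) ∣ _ := orderOf_dvd_natCard _
  rwa [← Subgroup.orderOf_coe, ho] at h6

theorem o1_8 : chO (GK 1) 0x2740568a9b13 [0, 1, 0, 1, 0, 0, 0, 1, 0, 0, 1, 0, 1, 0, 0, 1, 0] (2 ^ (2 + 1)) (2 ^ 2) = true := by decide +kernel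

theorem o1_3 : chO (GK 1) 0x2a394b758610 [1, 0, 0, 0, 0, 1, 0, 0, 0, 1, 0, 0, 0, 0] (3 ^ (0 + 1)) (3 ^ 0) = true := by decide +kernel

theorem o4_5 : chO (GK 4) 0x7425a60138b9 [1, 0, 1, 0] (5 ^ (0 + 1)) (5 ^ 0) = true := by decide +kernel

theorem o4_3 : chO (GK 4) 0x47263581a0b9 [0, 1, 0, 1, 0, 0, 0, 0, 1, 0, 1, 0, 1] (3 ^ (0 + 1)) (3 ^ 0) = true := by decide +kernel

theorem class_le {X : Type*} [Group X] [Finite X] (hc : Nat.card X = 95040) (t : X) {n m : ℕ} (hn : 0 < n)
    (hnm : n * m = 95040) (h : n ∣ Nat.card ↥(Subgroup.centralizer ({t} : Set X))) :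
    {y : X | IsConj t y}.ncard ≤ m := by
  have h1 := Cfsg.Agent.H235.Ore.ClassList.card_class t
  rw [← Nat.card_coe_set_eq]
  obtain ⟨k, hk⟩ := h
  have hk0 : 0 < k := by
    rcases Nat.eq_zero_or_pos k with h0 | h0
    · rw [h0, mul_zero] at hk
      have := Nat.card_pos (α := ↥(Subgroup.centralizer ({t} : Set X)))
      omega
    · exact h0
  rw [hk, hc, ← hnm] at h1
  have h2 : Nat.card {y : X // IsConj t y} * n ≤ m * n := by
    calc Nat.card {y : X // IsConj t y} * n ≤ Nat.card {y : X // IsConj t y} * (n * k) :=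
          Nat.mul_le_mul_left _ (Nat.le_mul_of_pos_right _ hk0)
      _ = m * n := by rw [h1, mul_comm]
  exact Nat.le_of_mul_le_mul_right h2 hn

/-- **the number of involutions** -/
theorem card_invol {X : Type*} [Group X] [Finite X] (hX : Cfsg.IsM12 X) :
    Nat.card {g : X // g ^ 2 = 1 ∧ g ≠ 1} ≤ 7128 := by
  obtain ⟨e⟩ := iso_X hX
  let f : X →* Equiv.Perm (Fin 12) := M.subtype.comp e.toMonoidHom
  have hf : Function.Injective f := M.subtype_injective.comp e.injective
  have hfm : ∀ x, f x ∈ M := fun x => (e x).2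
  have hfs : ∀ z ∈ M, ∃ x, f x = z := fun z hz => by
    obtain ⟨x, hx⟩ := e.surjective ⟨z, hz⟩
    exact ⟨x, congrArg Subtype.val hx⟩
  have hG : ∀ k < 15, ofT (GK k) ∈ M := by
    intro k hk
    rw [← lpH_rp k hk, ← range_lpH]
    exact ⟨_, rfl⟩
  obtain ⟨t1, ht1⟩ := hfs _ (hG 1 (by norm_num))
  obtain ⟨t4, ht4⟩ := hfs _ (hG 4 (by norm_num))
  have : Fact (Nat.Prime 2) := ⟨Nat.prime_two⟩
  have : Fact (Nat.Prime 3) := ⟨Nat.prime_three⟩
  have : Fact (Nat.Prime 5) := ⟨Nat.prime_five⟩
  have c1 : {y : X | IsConj t1 y}.ncard ≤ 3960 := by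
    refine class_le hX.2 t1 (n := 24) (by norm_num) (by norm_num) ?_
    have h8 := dvd_cent hf hfs ht1 (p := 2) (n := 2) o1_8
    have h3 := dvd_cent hf hfs ht1 (p := 3) (n := 0) o1_3
    exact Nat.Coprime.mul_dvd_of_dvd_of_dvd (by norm_num) h8 h3
  have c4 : {y : X | IsConj t4 y}.ncard ≤ 3168 := by
    refine class_le hX.2 t4 (n := 30) (by norm_num) (by norm_num) ?_
    have h5 := dvd_cent hf hfs ht4 (p := 5) (n := 0) o4_5
    have h3 := dvd_cent hf hfs ht4 (p := 3) (n := 0) o4_3
    have h2 : 2 ∣ Nat.card ↥(Subgroup.centralizer ({t4} : Set X)) := by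
      have ht2 : t4 ^ 2 = 1 := hf (by rw [map_pow, ht4, sq_of_eqt (by decide +kernel), map_one])
      have htn : t4 ≠ 1 := by
        intro h
        have h6 : ofT (GK 4) = 1 := by rw [← ht4, h, map_one]
        have h7 := congrArg (fun p : Equiv.Perm (Fin 12) => ((p 0 : Fin 12) : ℕ)) h6
        rw [ofT_apply (by decide +kernel)] at h7
        revert h7
        decide +kernel
      have ho : orderOf t4 = 2 := orderOf_eq_prime ht2 htn
      have h6 : orderOf (⟨t4, by rw [Subgroup.mem_centralizer_singleton_iff]⟩ :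
        ↥(Subgroup.centralizer ({t4} : Set X))) ∣ _ := orderOf_dvd_natCard _
      rwa [← Subgroup.orderOf_coe, ho] at h6
    have h10 : 3 * 5 ∣ Nat.card ↥(Subgroup.centralizer ({t4} : Set X)) :=
      Nat.Coprime.mul_dvd_of_dvd_of_dvd (by norm_num) h3 h5
    exact Nat.Coprime.mul_dvd_of_dvd_of_dvd (m := 2) (by norm_num) h2 h10
  have hsub : {g : X | g ^ 2 = 1 ∧ g ≠ 1} ⊆ {y : X | IsConj t1 y} ∪ {y : X | IsConj t4 y} := by
    rintro g ⟨h2, h1⟩
    obtain ⟨k, hk, u, hu, he⟩ := classes_M (f g) (hfm g)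
    obtain ⟨v, rfl⟩ := hfs u hu
    have hconj : ∀ t : X, f t = ofT (GK k) → IsConj t g := by
      intro t ht
      rw [isConj_iff]
      refine ⟨v, hf ?_⟩
      rw [map_mul, map_mul, map_inv, ht, he]
    have hsq : ofT (GK k) ^ 2 = 1 := by
      have h3 : f g ^ 2 = 1 := by rw [← map_pow, h2, map_one]
      rw [he, conj_pow] at h3
      have h4 : ofT (GK k) ^ 2 = (f v)⁻¹ * (f v * ofT (GK k) ^ 2 * (f v)⁻¹) * f v := by group
      rw [h4, h3]
      group
    have hbad : ∀ j < 15, eqt [GK j, GK j] [] = false → injT (GK j) = true → ofT (GK j) ^ 2 ≠ 1 := by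
      intro j _ hj hji h3
      have h4 : pr [GK j, GK j] = pr [] := by
        simp only [pr_cons, pr_nil, mul_one]
        rw [← pow_two, h3]
      have h5 : eqt [GK j, GK j] [] = true := by
        unfold eqt
        have key : ∀ n ≤ 12, (alb n fun i => Nat.beq (apl [GK j, GK j] i) (apl [] i)) = true := by
          intro n
          induction n with
          | zero => intro _; rfl
          | succ m ih =>
            intro hm
            show (bif Nat.beq (apl [GK j, GK j] m) (apl [] m) then
              (alb m fun i => Nat.beq (apl [GK j, GK j] i) (apl [] i)) else false) = true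
            have h9 := congrArg (fun p : Equiv.Perm (Fin 12) => ((p ⟨m, hm⟩ : Fin 12) : ℕ)) h4
            rw [pr_apply (fun T hT => by
                simp only [List.mem_cons, List.not_mem_nil, or_false, or_self] at hT
                rw [hT]; exact hji),
              pr_apply (fun T hT => absurd hT List.not_mem_nil)] at h9
            have h10 : Nat.beq (apl [GK j, GK j] m) (apl [] m) = true := by
              rw [show apl [GK j, GK j] m = apl [] m from h9]
              exact Nat.beq_refl _
            rw [h10, cond_true]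
            exact ih (Nat.le_of_succ_le hm)
        exact key 12 le_rfl
      rw [h5] at hj
      cases hj
    interval_cases k
    · exfalso
      apply h1
      apply hf
      rw [he, GK_zero, map_one]
      group
    · exact Or.inl (hconj t1 ht1)
    · exact absurd hsq (hbad 2 (by norm_num) (by decide +kernel) (by decide +kernel))
    · exact absurd hsq (hbad 3 (by norm_num) (by decide +kernel) (by decide +kernel))
    · exact Or.inr (hconj t4 ht4)
    · exact absurd hsq (hbad 5 (by norm_num) (by decide +kernel) (by decide +kernel))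
    · exact absurd hsq (hbad 6 (by norm_num) (by decide +kernel) (by decide +kernel))
    · exact absurd hsq (hbad 7 (by norm_num) (by decide +kernel) (by decide +kernel))
    · exact absurd hsq (hbad 8 (by norm_num) (by decide +kernel) (by decide +kernel))
    · exact absurd hsq (hbad 9 (by norm_num) (by decide +kernel) (by decide +kernel))
    · exact absurd hsq (hbad 10 (by norm_num) (by decide +kernel) (by decide +kernel))
    · exact absurd hsq (hbad 11 (by norm_num) (by decide +kernel) (by decide +kernel))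
    · exact absurd hsq (hbad 12 (by norm_num) (by decide +kernel) (by decide +kernel))
    · exact absurd hsq (hbad 13 (by norm_num) (by decide +kernel) (by decide +kernel))
    · exact absurd hsq (hbad 14 (by norm_num) (by decide +kernel) (by decide +kernel))
  have h1 : Nat.card {g : X // g ^ 2 = 1 ∧ g ≠ 1} = {g : X | g ^ 2 = 1 ∧ g ≠ 1}.ncard := Nat.card_coe_set_eq _
  rw [h1]
  calc _ ≤ ({y : X | IsConj t1 y} ∪ {y : X | IsConj t4 y}).ncard := Set.ncard_le_ncard hsub (Set.toFinite _)
    _ ≤ _ := Set.ncard_union_le _ _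
    _ ≤ 3960 + 3168 := Nat.add_le_add c1 c4

end Cfsg.Agent.H881.MF
end

-- part: H36/M12/Low
section
/-!
# `M₁₂` in odd characteristic has degree at least seven (helper36)
-/

set_option autoImplicit false
set_option linter.unusedSectionVars false
set_option maxRecDepth 100000

namespace Cfsg.Agent.H36.M12

open Cfsg Cfsg.Geo Module Cfsg.Agent.H932.Mt Cfsg.Agent.CoThreeStd.MTwelve Cfsg.Agent.H915.LD
open scoped Matrix

section

variable {F V : Type*} [Field F] [AddCommGroup V] [Module F V] [FiniteDimensional F V] {A B C : Module.End F V}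

/-- **Seven involutions need seven dimensions.** -/
theorem seven_le (h2 : (2 : F) ≠ 0)
    (hA2 : ∀ v, A (A v) = v) (hB2 : ∀ v, B (B v) = v) (hC2 : ∀ v, C (C v) = v)
    (hAB : ∀ v, A (B v) = B (A v)) (hAC : ∀ v, A (C v) = C (A v)) (hBC : ∀ v, B (C v) = C (B v))
    (n1 : finrank F (es A (-1)) = 4) (n2 : finrank F (es B (-1)) = 4) (n3 : finrank F (es C (-1)) = 4)
    (n12 : finrank F (es (A * B) (-1)) = 4) (n13 : finrank F (es (A * C) (-1)) = 4)
    (n23 : finrank F (es (B * C) (-1)) = 4) (n123 : finrank F (es (A * B * C) (-1)) = 4) :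
    7 ≤ finrank F V := by
  have tot := tri_split (C := C) h2 (⊤ : Submodule F V) (fun _ _ => trivial) (fun _ _ => trivial) (fun _ _ => trivial)
    hA2 hB2 hC2 hAB hAC hBC
  rw [top_inf_eq, top_inf_eq, top_inf_eq, top_inf_eq, top_inf_eq, top_inf_eq, top_inf_eq, top_inf_eq, finrank_top] at tot
  have ev : ∀ D : Module.End F V, (∀ v, D (A v) = A (D v)) → (∀ v, D (B v) = B (D v)) → (∀ v, D (C v) = C (D v)) →
      finrank F (es D (-1)) =
      finrank F (es D (-1) ⊓ J A B C 1 1 1 : Submodule F V) + finrank F (es D (-1) ⊓ J A B C 1 1 (-1) : Submodule F V) +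
      (finrank F (es D (-1) ⊓ J A B C 1 (-1) 1 : Submodule F V) + finrank F (es D (-1) ⊓ J A B C 1 (-1) (-1) : Submodule F V)) +
      ((finrank F (es D (-1) ⊓ J A B C (-1) 1 1 : Submodule F V) +
        finrank F (es D (-1) ⊓ J A B C (-1) 1 (-1) : Submodule F V)) +
      (finrank F (es D (-1) ⊓ J A B C (-1) (-1) 1 : Submodule F V) +
        finrank F (es D (-1) ⊓ J A B C (-1) (-1) (-1) : Submodule F V))) := fun D dA dB dC =>
    tri_split h2 _ (fun v hv => es_stab dA hv) (fun v hv => es_stab dB hv) (fun v hv => es_stab dC hv)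
      hA2 hB2 hC2 hAB hAC hBC
  -- evaluation of one term
  have tm : ∀ (D : Module.End F V) (a b c δ : F), (∀ v, A v = a • v → B v = b • v → C v = c • v → D v = δ • v) →
      (δ = -1 → finrank F (es D (-1) ⊓ J A B C a b c : Submodule F V) = finrank F (J A B C a b c)) ∧
      (δ = 1 → finrank F (es D (-1) ⊓ J A B C a b c : Submodule F V) = 0) := by
    intro D a b c δ h
    have h' : ∀ v ∈ J A B C a b c, D v = δ • v := fun v hv => h v (mem_J.1 hv).1 (mem_J.1 hv).2.1 (mem_J.1 hv).2.2
    exact ⟨fun e => by rw [(inf_J h').1 e], fun e => by rw [(inf_J h').2 e h2, finrank_bot]⟩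
  have e1 := ev A (fun _ => rfl) (fun v => hAB v) (fun v => hAC v)
  have e2 := ev B (fun v => (hAB v).symm) (fun _ => rfl) (fun v => hBC v)
  have e3 := ev C (fun v => (hAC v).symm) (fun v => (hBC v).symm) (fun _ => rfl)
  have e12 := ev (A * B) (fun v => by simp only [Module.End.mul_apply]; rw [← hAB]) (fun v => by
    simp only [Module.End.mul_apply]; rw [hAB]) (fun v => by simp only [Module.End.mul_apply]; rw [hBC, hAC])
  have e13 := ev (A * C) (fun v => by simp only [Module.End.mul_apply]; rw [← hAC]) (fun v => by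
    simp only [Module.End.mul_apply]; rw [← hBC, hAB]) (fun v => by simp only [Module.End.mul_apply]; rw [hAC])
  have e23 := ev (B * C) (fun v => by simp only [Module.End.mul_apply]; rw [← hAC, ← hAB]) (fun v => by
    simp only [Module.End.mul_apply]; rw [← hBC]) (fun v => by simp only [Module.End.mul_apply]; rw [hBC])
  have e123 := ev (A * B * C) (fun v => by simp only [Module.End.mul_apply]; rw [← hAC, ← hAB]) (fun v => by
    simp only [Module.End.mul_apply]; rw [← hBC, hAB]) (fun v => by simp only [Module.End.mul_apply]; rw [hBC, hAC])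
  -- the seven evaluations
  have tA : ∀ a b c : F, ∀ v, A v = a • v → B v = b • v → C v = c • v → A v = a • v := fun _ _ _ _ h _ _ => h
  have tB : ∀ a b c : F, ∀ v, A v = a • v → B v = b • v → C v = c • v → B v = b • v := fun _ _ _ _ _ h _ => h
  have tC : ∀ a b c : F, ∀ v, A v = a • v → B v = b • v → C v = c • v → C v = c • v := fun _ _ _ _ _ _ h => h
  have tAB : ∀ a b c : F, ∀ v, A v = a • v → B v = b • v → C v = c • v → (A * B) v = (a * b) • v := by
    intro a b c v h1 h2 _
    rw [Module.End.mul_apply, h2, map_smul, h1, smul_smul, mul_comm]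
  have tAC : ∀ a b c : F, ∀ v, A v = a • v → B v = b • v → C v = c • v → (A * C) v = (a * c) • v := by
    intro a b c v h1 _ h2
    rw [Module.End.mul_apply, h2, map_smul, h1, smul_smul, mul_comm]
  have tBC : ∀ a b c : F, ∀ v, A v = a • v → B v = b • v → C v = c • v → (B * C) v = (b * c) • v := by
    intro a b c v _ h1 h2
    rw [Module.End.mul_apply, h2, map_smul, h1, smul_smul, mul_comm]
  have tABC : ∀ a b c : F, ∀ v, A v = a • v → B v = b • v → C v = c • v → (A * B * C) v = (a * b * c) • v := by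
    intro a b c v h1 h2 h3
    rw [Module.End.mul_apply, Module.End.mul_apply, h3, map_smul, map_smul, h2, map_smul, h1, smul_smul, smul_smul]
    congr 1
    ring
  have p1 : ∀ D a b c δ h, δ = (1 : F) → finrank F (es D (-1) ⊓ J A B C a b c : Submodule F V) = 0 :=
    fun D a b c δ h e => (tm D a b c δ h).2 e
  have m1 : ∀ D a b c δ h, δ = (-1 : F) →
      finrank F (es D (-1) ⊓ J A B C a b c : Submodule F V) = finrank F (J A B C a b c) :=
    fun D a b c δ h e => (tm D a b c δ h).1 e
  rw [n1, p1 A 1 1 1 1 (tA _ _ _) rfl, p1 A 1 1 (-1) 1 (tA _ _ _) rfl, p1 A 1 (-1) 1 1 (tA _ _ _) rfl,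
    p1 A 1 (-1) (-1) 1 (tA _ _ _) rfl, m1 A (-1) 1 1 (-1) (tA _ _ _) rfl, m1 A (-1) 1 (-1) (-1) (tA _ _ _) rfl,
    m1 A (-1) (-1) 1 (-1) (tA _ _ _) rfl, m1 A (-1) (-1) (-1) (-1) (tA _ _ _) rfl] at e1
  rw [n2, p1 B 1 1 1 1 (tB _ _ _) rfl, p1 B 1 1 (-1) 1 (tB _ _ _) rfl, m1 B 1 (-1) 1 (-1) (tB _ _ _) rfl,
    m1 B 1 (-1) (-1) (-1) (tB _ _ _) rfl, p1 B (-1) 1 1 1 (tB _ _ _) rfl, p1 B (-1) 1 (-1) 1 (tB _ _ _) rfl,
    m1 B (-1) (-1) 1 (-1) (tB _ _ _) rfl, m1 B (-1) (-1) (-1) (-1) (tB _ _ _) rfl] at e2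
  rw [n3, p1 C 1 1 1 1 (tC _ _ _) rfl, m1 C 1 1 (-1) (-1) (tC _ _ _) rfl, p1 C 1 (-1) 1 1 (tC _ _ _) rfl,
    m1 C 1 (-1) (-1) (-1) (tC _ _ _) rfl, p1 C (-1) 1 1 1 (tC _ _ _) rfl, m1 C (-1) 1 (-1) (-1) (tC _ _ _) rfl,
    p1 C (-1) (-1) 1 1 (tC _ _ _) rfl, m1 C (-1) (-1) (-1) (-1) (tC _ _ _) rfl] at e3
  rw [n12, p1 _ 1 1 1 _ (tAB _ _ _) (by ring), p1 _ 1 1 (-1) _ (tAB _ _ _) (by ring), m1 _ 1 (-1) 1 _ (tAB _ _ _) (by ring),
    m1 _ 1 (-1) (-1) _ (tAB _ _ _) (by ring), m1 _ (-1) 1 1 _ (tAB _ _ _) (by ring), m1 _ (-1) 1 (-1) _ (tAB _ _ _) (by ring),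
    p1 _ (-1) (-1) 1 _ (tAB _ _ _) (by ring), p1 _ (-1) (-1) (-1) _ (tAB _ _ _) (by ring)] at e12
  rw [n13, p1 _ 1 1 1 _ (tAC _ _ _) (by ring), m1 _ 1 1 (-1) _ (tAC _ _ _) (by ring), p1 _ 1 (-1) 1 _ (tAC _ _ _) (by ring),
    m1 _ 1 (-1) (-1) _ (tAC _ _ _) (by ring), m1 _ (-1) 1 1 _ (tAC _ _ _) (by ring), p1 _ (-1) 1 (-1) _ (tAC _ _ _) (by ring),
    m1 _ (-1) (-1) 1 _ (tAC _ _ _) (by ring), p1 _ (-1) (-1) (-1) _ (tAC _ _ _) (by ring)] at e13
  rw [n23, p1 _ 1 1 1 _ (tBC _ _ _) (by ring), m1 _ 1 1 (-1) _ (tBC _ _ _) (by ring), m1 _ 1 (-1) 1 _ (tBC _ _ _) (by ring),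
    p1 _ 1 (-1) (-1) _ (tBC _ _ _) (by ring), p1 _ (-1) 1 1 _ (tBC _ _ _) (by ring), m1 _ (-1) 1 (-1) _ (tBC _ _ _) (by ring),
    m1 _ (-1) (-1) 1 _ (tBC _ _ _) (by ring), p1 _ (-1) (-1) (-1) _ (tBC _ _ _) (by ring)] at e23
  rw [n123, p1 _ 1 1 1 _ (tABC _ _ _) (by ring), m1 _ 1 1 (-1) _ (tABC _ _ _) (by ring),
    m1 _ 1 (-1) 1 _ (tABC _ _ _) (by ring), p1 _ 1 (-1) (-1) _ (tABC _ _ _) (by ring),
    m1 _ (-1) 1 1 _ (tABC _ _ _) (by ring), p1 _ (-1) 1 (-1) _ (tABC _ _ _) (by ring),
    p1 _ (-1) (-1) 1 _ (tABC _ _ _) (by ring), m1 _ (-1) (-1) (-1) _ (tABC _ _ _) (by ring)] at e123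
  omega

end

section

variable {F V : Type*} [Field F] [AddCommGroup V] [Module F V] [FiniteDimensional F V]
variable (R : Spor.M12 →* Module.End F V)

theorem seven_le_finrank (h2 : (2 : F) ≠ 0) (hne : R gt ≠ 1) : 7 ≤ finrank F V := by
  by_contra hlt
  obtain ⟨m, hm⟩ := dim_four_dvd R h2
  have h3 := Submodule.finrank_le (es (R gt) (-1))
  have hm0 : m ≠ 0 := by
    rintro rfl
    apply hne
    have h4 : es (R gt) (-1) = ⊥ := Submodule.finrank_eq_zero.1 (by omega)
    apply LinearMap.ext
    intro v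
    have h5 : v - R gt v ∈ es (R gt) (-1) := by
      rw [mem_es_neg_one, map_sub, tt_v]; abel
    rw [h4, Submodule.mem_bot, sub_eq_zero] at h5
    exact h5.symm
  have h4 : finrank F (es (R gt) (-1)) = 4 := by omega
  have key := seven_le (A := R gt) (B := R ge2) (C := R ge3) h2 (tt_v R) (e2_v R) (e3_v R) (rel R te2) (rel R te3) (rel R e2e3)
    h4 (by rw [es_conj R conj_e2, h4]) (by rw [es_conj R conj_e3, h4])
    (by rw [← map_mul, es_conj R conj_te2, h4]) (by rw [← map_mul, es_conj R conj_te3, h4])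
    (by rw [← map_mul, es_conj R conj_e2e3, h4]) (by rw [← map_mul, ← map_mul, es_conj R conj_te2e3, h4])
  exact hlt key

end

section core

universe u

variable {ι : Type} [Fintype ι] [DecidableEq ι] {F : Type u} [Field F] {P : Subgroup (GL ι F)}

end core

end Cfsg.Agent.H36.M12
end

-- part: H394/S8/MTwelveC
section
/-!
# S4908, `M₁₂`: the chief factors of characteristic at least five, counting part (helper394)

`count` : a group of order 95040 with at most 7128 involutions, every noninvolution `g ≠ 1` generating it with one conjugate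
and every `g ≠ 1` with two conjugates, has no representation of degree at least 7 over the field with `r ≥ 5` elements in
which the stabilizers of the nonzero vectors are proper of order at least 218.
-/

set_option autoImplicit false

namespace Cfsg.Agent.H394.S8

open Subgroup

universe u v

section

variable {X : Type v} [Group X] {Λ : Type u} [CommGroup Λ] (ρ : X →* MulAut Λ) (E : Subgroup Λ)

/-- the fixed points of `g` in `E` -/
def fx (g : X) : Subgroup Λ where
  carrier := {x | x ∈ E ∧ ρ g x = x}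
  one_mem' := ⟨one_mem _, map_one _⟩
  mul_mem' := fun {a b} ha hb => ⟨mul_mem ha.1 hb.1, by rw [map_mul, ha.2, hb.2]⟩
  inv_mem' := fun {a} ha => ⟨inv_mem ha.1, by rw [map_inv, ha.2]⟩

theorem mem_fx {g : X} {x : Λ} : x ∈ fx ρ E g ↔ x ∈ E ∧ ρ g x = x := Iff.rfl

theorem fx_le (g : X) : fx ρ E g ≤ E := fun _ h => h.1

theorem fx_one : fx ρ E 1 = E := by
  ext x
  rw [mem_fx, map_one]
  exact ⟨fun h => h.1, fun h => ⟨h, rfl⟩⟩

variable {ρ E}

theorem card_conj (hE : ∀ g, ∀ x ∈ E, ρ g x ∈ E) (g h : X) :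
    Nat.card (fx ρ E (h * g * h⁻¹)) = Nat.card (fx ρ E g) := by
  refine Nat.card_congr ⟨fun x => ⟨ρ h⁻¹ x, hE _ _ x.2.1, ?_⟩, fun x => ⟨ρ h x, hE _ _ x.2.1, ?_⟩, ?_, ?_⟩
  · have h1 := x.2.2
    rw [map_mul, map_mul, MulAut.mul_apply, MulAut.mul_apply] at h1
    have h2 := congrArg (ρ h⁻¹) h1
    rw [← MulAut.mul_apply, ← map_mul, inv_mul_cancel, map_one, MulAut.one_apply] at h2
    exact h2
  · have h1 := x.2.2
    have h2 : ρ h⁻¹ (ρ h x) = x := by rw [← MulAut.mul_apply, ← map_mul, inv_mul_cancel, map_one, MulAut.one_apply]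
    rw [map_mul, map_mul, MulAut.mul_apply, MulAut.mul_apply, h2, h1]
  · intro x
    apply Subtype.ext
    change ρ h (ρ h⁻¹ x) = x
    rw [← MulAut.mul_apply, ← map_mul, mul_inv_cancel, map_one, MulAut.one_apply]
  · intro x
    apply Subtype.ext
    change ρ h⁻¹ (ρ h x) = x
    rw [← MulAut.mul_apply, ← map_mul, inv_mul_cancel, map_one, MulAut.one_apply]

theorem fix_of_closure {s : Set X} {x : Λ} (h : ∀ g ∈ s, ρ g x = x) {g : X} (hg : g ∈ _root_.Subgroup.closure s) : ρ g x = x := by
  induction hg using closure_induction with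
  | mem g hg => exact h g hg
  | one => rw [map_one]; rfl
  | mul a b _ _ ha hb => rw [map_mul, MulAut.mul_apply, hb, ha]
  | inv a _ ha =>
    have h2 := congrArg (ρ a⁻¹) ha
    rw [← MulAut.mul_apply, ← map_mul, inv_mul_cancel, map_one, MulAut.one_apply] at h2
    exact h2.symm

/-- indices in a group of prime power order -/
theorem pow_of_relIndex {r n : ℕ} (hr : r.Prime) (hcard : Nat.card E = r ^ n) {A : Subgroup Λ} (hA : A ≤ E) :
    ∃ j, Nat.card A * r ^ j = Nat.card E ∧ A.relIndex E = r ^ j := by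
  have h1 : Nat.card A * A.relIndex E = Nat.card E := by
    rw [relIndex, ← Nat.card_congr (subgroupOfEquivOfLe hA).toEquiv]
    exact card_mul_index _
  obtain ⟨j, -, hj⟩ := (Nat.dvd_prime_pow hr).1 (show A.relIndex E ∣ r ^ n by rw [← hcard, ← h1]; exact dvd_mul_left _ _)
  exact ⟨j, by rw [← hj, h1], hj⟩

/-- two conjugates generate: the index is at least `5 ^ 4` -/
theorem two_bound {r n : ℕ} (hr : r.Prime) (h5 : 5 ≤ r) (hcard : Nat.card E = r ^ n) (h7 : 7 ≤ n)
    (hE : ∀ g, ∀ x ∈ E, ρ g x ∈ E) (hfix : ∀ x : Λ, (∀ g, ρ g x = x) → x = 1) {g h : X}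
    (hgen : _root_.Subgroup.closure {g, h * g * h⁻¹} = ⊤) : 625 * Nat.card (fx ρ E g) ≤ Nat.card E := by
  obtain ⟨j, h1, h2⟩ := pow_of_relIndex hr hcard (fx_le ρ E g)
  obtain ⟨j', h1', h2'⟩ := pow_of_relIndex hr hcard (fx_le ρ E (h * g * h⁻¹))
  have hpos : 0 < Nat.card E := by rw [hcard]; exact pow_pos hr.pos _
  have hbot : fx ρ E g ⊓ fx ρ E (h * g * h⁻¹) = ⊥ := by
    rw [eq_bot_iff]
    intro x hx
    refine mem_bot.2 (hfix x fun y => fix_of_closure (s := {g, h * g * h⁻¹}) ?_ (by rw [hgen]; exact mem_top y))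
    rintro z (rfl | rfl)
    · exact hx.1.2
    · exact hx.2.2
  have hj : j' = j := by
    rw [card_conj hE] at h1'
    have h3 : Nat.card (fx ρ E g) ≠ 0 := by
      intro h0
      rw [h0, zero_mul] at h1
      omega
    exact Nat.pow_right_injective hr.two_le (Nat.eq_of_mul_eq_mul_left (Nat.pos_of_ne_zero h3) (h1'.trans h1.symm))
  have h3 : (fx ρ E g ⊓ fx ρ E (h * g * h⁻¹)).relIndex E ≤ _ := relIndex_inf_le
  rw [hbot, relIndex_bot_left, hcard, h2, h2', hj, ← pow_add] at h3
  have h4 := (Nat.pow_le_pow_iff_right hr.one_lt).1 h3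
  have h6 : 5 ^ 4 ≤ r ^ j := (Nat.pow_le_pow_left h5 4).trans (Nat.pow_le_pow_right hr.pos (by omega))
  rw [← h1, mul_comm]
  exact Nat.mul_le_mul_left _ (by omega)

/-- three conjugates generate: the index is at least `5 ^ 3` -/
theorem three_bound {r n : ℕ} (hr : r.Prime) (h5 : 5 ≤ r) (hcard : Nat.card E = r ^ n) (h7 : 7 ≤ n)
    (hE : ∀ g, ∀ x ∈ E, ρ g x ∈ E) (hfix : ∀ x : Λ, (∀ g, ρ g x = x) → x = 1) {g h k : X}
    (hgen : _root_.Subgroup.closure {g, h * g * h⁻¹, k * g * k⁻¹} = ⊤) : 125 * Nat.card (fx ρ E g) ≤ Nat.card E := by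
  obtain ⟨j, h1, h2⟩ := pow_of_relIndex hr hcard (fx_le ρ E g)
  have hpos : 0 < Nat.card E := by rw [hcard]; exact pow_pos hr.pos _
  have hj : ∀ y : X, (fx ρ E (y * g * y⁻¹)).relIndex E = r ^ j := by
    intro y
    obtain ⟨j', h1', h2'⟩ := pow_of_relIndex hr hcard (fx_le ρ E (y * g * y⁻¹))
    rw [card_conj hE] at h1'
    have h3 : Nat.card (fx ρ E g) ≠ 0 := by
      intro h0
      rw [h0, zero_mul] at h1
      omega
    rw [h2', Nat.eq_of_mul_eq_mul_left (Nat.pos_of_ne_zero h3) (h1'.trans h1.symm)]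
  have hbot : fx ρ E g ⊓ (fx ρ E (h * g * h⁻¹) ⊓ fx ρ E (k * g * k⁻¹)) = ⊥ := by
    rw [eq_bot_iff]
    intro x hx
    refine mem_bot.2 (hfix x fun y => fix_of_closure (s := {g, h * g * h⁻¹, k * g * k⁻¹}) ?_
      (by rw [hgen]; exact mem_top y))
    rintro z (rfl | rfl | rfl)
    · exact hx.1.2
    · exact hx.2.1.2
    · exact hx.2.2.2
  have h3 : (fx ρ E g ⊓ (fx ρ E (h * g * h⁻¹) ⊓ fx ρ E (k * g * k⁻¹))).relIndex E ≤ _ := relIndex_inf_le
  have h3' : (fx ρ E (h * g * h⁻¹) ⊓ fx ρ E (k * g * k⁻¹)).relIndex E ≤ _ := relIndex_inf_le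
  rw [hj, hj] at h3'
  rw [hbot, relIndex_bot_left, hcard, h2] at h3
  have h3'' := h3.trans (Nat.mul_le_mul_left _ h3')
  rw [← pow_add, ← pow_add] at h3''
  have h4 := (Nat.pow_le_pow_iff_right hr.one_lt).1 h3''
  have h6 : 5 ^ 3 ≤ r ^ j := (Nat.pow_le_pow_left h5 3).trans (Nat.pow_le_pow_right hr.pos (by omega))
  rw [← h1, mul_comm]
  exact Nat.mul_le_mul_left _ (by omega)

/-- **the count** -/
theorem count [Finite X] [Finite Λ] (hc : Nat.card X = 95040) (h2 : Nat.card {g : X // g ^ 2 = 1 ∧ g ≠ 1} ≤ 7128)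
    (hg2 : ∀ g : X, g ^ 2 ≠ 1 → ∃ h, _root_.Subgroup.closure {g, h * g * h⁻¹} = ⊤)
    (hg3 : ∀ g : X, g ≠ 1 → ∃ h k, _root_.Subgroup.closure {g, h * g * h⁻¹, k * g * k⁻¹} = ⊤)
    (hst : ∀ x : Λ, x ≠ 1 → ∃ T : Subgroup X, (∀ g, g ∈ T ↔ ρ g x = x) ∧ T ≠ ⊤ ∧ 218 ≤ Nat.card T)
    (hE : ∀ g, ∀ x ∈ E, ρ g x ∈ E) {r n : ℕ} (hr : r.Prime) (h5 : 5 ≤ r) (hcard : Nat.card E = r ^ n)
    (h7 : 7 ≤ n) : False := by
  classical
  have := Fintype.ofFinite X
  have := Fintype.ofFinite Λ
  have hpos : 0 < Nat.card E := by rw [hcard]; exact pow_pos hr.pos _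
  have hfix : ∀ x : Λ, (∀ g, ρ g x = x) → x = 1 := by
    intro x hx
    by_contra hx1
    obtain ⟨T, hT, hT1, -⟩ := hst x hx1
    exact hT1 (eq_top_iff.2 fun g _ => (hT g).2 (hx g))
  -- the two sides of the double count
  have hA : ∀ g : X, (∑ x : E, if ρ g (x : Λ) = x then 1 else 0) = Nat.card (fx ρ E g) := by
    intro g
    rw [Finset.sum_boole, Nat.cast_id, ← Fintype.card_subtype, ← Nat.card_eq_fintype_card]
    exact Nat.card_congr ⟨fun x => ⟨x.1, x.1.2, x.2⟩, fun x => ⟨⟨x.1, x.2.1⟩, x.2.2⟩, fun _ => rfl, fun _ => rfl⟩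
  have hB : ∀ x : E, 218 ≤ ∑ g : X, if ρ g (x : Λ) = x then 1 else 0 := by
    intro x
    rw [Finset.sum_boole, Nat.cast_id, ← Fintype.card_subtype, ← Nat.card_eq_fintype_card]
    by_cases hx : (x : Λ) = 1
    · have h3 : Nat.card {g : X // ρ g (x : Λ) = x} = Nat.card X :=
        Nat.card_congr ⟨fun g => g.1, fun g => ⟨g, by rw [hx, map_one]⟩, fun _ => rfl, fun _ => rfl⟩
      rw [h3, hc]
      norm_num
    · obtain ⟨T, hT, -, h4⟩ := hst x hx
      have h3 : Nat.card {g : X // ρ g (x : Λ) = x} = Nat.card T :=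
        Nat.card_congr ⟨fun g => ⟨g.1, (hT _).2 g.2⟩, fun g => ⟨g.1, (hT _).1 g.2⟩, fun _ => rfl, fun _ => rfl⟩
      rw [h3]
      exact h4
  have hsum : ∑ g : X, Nat.card (fx ρ E g) = ∑ x : E, ∑ g : X, if ρ g (x : Λ) = x then 1 else 0 := by
    rw [Finset.sum_comm]
    exact Finset.sum_congr rfl fun g _ => (hA g).symm
  have hlow : Nat.card E * 218 ≤ ∑ g : X, Nat.card (fx ρ E g) := by
    rw [hsum, Nat.card_eq_fintype_card, ← Finset.card_univ, ← smul_eq_mul]
    exact Finset.card_nsmul_le_sum _ _ _ fun x _ => hB x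
  -- the upper bound
  have hup : ∀ g : X, 625 * Nat.card (fx ρ E g) ≤
      (1 + (if g ^ 2 = 1 ∧ g ≠ 1 then 4 else 0) + (if g = 1 then 624 else 0)) * Nat.card E := by
    intro g
    by_cases hg1 : g = 1
    · subst hg1
      rw [fx_one, if_neg (by simp), if_pos rfl]
    · rw [if_neg hg1, add_zero]
      by_cases hg : g ^ 2 = 1
      · rw [if_pos ⟨hg, hg1⟩]
        obtain ⟨h, k, hhk⟩ := hg3 g hg1
        have h3 := three_bound hr h5 hcard h7 hE hfix hhk
        omega
      · rw [if_neg fun h => hg h.1, add_zero, one_mul]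
        obtain ⟨h, hh⟩ := hg2 g hg
        exact two_bound hr h5 hcard h7 hE hfix hh
  have hup' : 625 * ∑ g : X, Nat.card (fx ρ E g) ≤ (95040 + 4 * 7128 + 624) * Nat.card E := by
    rw [Finset.mul_sum]
    refine (Finset.sum_le_sum fun g _ => hup g).trans ?_
    rw [← Finset.sum_mul]
    refine Nat.mul_le_mul_right _ ?_
    rw [Finset.sum_add_distrib, Finset.sum_add_distrib, Finset.sum_const, smul_eq_mul, mul_one, Finset.card_univ,
      ← Nat.card_eq_fintype_card, hc, Finset.sum_ite_eq' Finset.univ (1 : X) (fun _ => 624)]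
    have h3 : (∑ g : X, if g ^ 2 = 1 ∧ g ≠ 1 then 4 else 0) = 4 * Nat.card {g : X // g ^ 2 = 1 ∧ g ≠ 1} := by
      rw [← Finset.sum_filter, Finset.sum_const, smul_eq_mul, mul_comm, Nat.card_eq_fintype_card, Fintype.card_subtype]
    rw [h3, if_pos (Finset.mem_univ _)]
    omega
  have h8 : 625 * (Nat.card E * 218) ≤ (95040 + 4 * 7128 + 624) * Nat.card E :=
    (Nat.mul_le_mul_left _ hlow).trans hup'
  omega

end

end Cfsg.Agent.H394.S8
end

-- part: H394/S8/MTwelveD
section
/-!
# S4908, `M₁₂`: no noncentral chief factor of characteristic at least five (helper394)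
-/

set_option autoImplicit false

namespace Cfsg.Agent.H394.S8

open Subgroup Cfsg

universe u v

section

variable {X : Type v} [Group X] {Λ : Type u} [CommGroup Λ] (ρ : X →* MulAut Λ) {E : Subgroup Λ}

/-- the action on an invariant subgroup -/
def restr (hE : ∀ g, ∀ x ∈ E, ρ g x ∈ E) : X →* Monoid.End E where
  toFun g := ((ρ g).toMonoidHom.comp E.subtype).codRestrict E fun x => hE g x x.2
  map_one' := by
    ext x
    change ρ 1 (x : Λ) = x
    rw [map_one]
    rfl
  map_mul' a b := by
    ext x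
    change ρ (a * b) (x : Λ) = ρ a (ρ b x)
    rw [map_mul, MulAut.mul_apply]

/-- the representation on an invariant subgroup of exponent `r` -/
def lin (hE : ∀ g, ∀ x ∈ E, ρ g x ∈ E) (r : ℕ) [Module (ZMod r) (Additive E)] :
    X →* Module.End (ZMod r) (Additive E) where
  toFun g := AddMonoidHom.toZModLinearMap r (MonoidHom.toAdditive (restr ρ hE g))
  map_one' := by
    ext x
    rw [map_one]
    rfl
  map_mul' a b := by
    ext x
    rw [map_mul]
    rfl

/-- the order is at least `r ^ 7` -/
theorem seven_le (e : X ≃* Spor.M12) (hE : ∀ g, ∀ x ∈ E, ρ g x ∈ E) {r n : ℕ} [hr : Fact r.Prime] (h5 : 5 ≤ r)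
    [Finite E] (M : Module (ZMod r) (Additive E)) (hn : Nat.card E = r ^ n)
    (hne : restr ρ hE (e.symm H36.M12.gt) ≠ 1) : 7 ≤ n := by
  have hfE : Finite (Additive E) := inferInstanceAs (Finite E)
  haveI hfin : Module.Finite (ZMod r) (Additive E) := Module.Finite.of_finite
  have hcard : Nat.card (Additive E) = r ^ Module.finrank (ZMod r) (Additive E) := by
    rw [Module.natCard_eq_pow_finrank (K := ZMod r), Nat.card_zmod]
  have hnf : n = Module.finrank (ZMod r) (Additive E) := by
    refine Nat.pow_right_injective hr.out.two_le ?_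
    change r ^ n = r ^ _
    rw [← hcard, ← hn]
    rfl
  rw [hnf]
  refine H36.M12.seven_le_finrank (F := ZMod r) (V := Additive E) ((lin ρ hE r).comp e.symm.toMonoidHom)
    (fun h => ?_) (fun h0 => hne ?_)
  · have h3 : ((2 : ℕ) : ZMod r) = 0 := by exact_mod_cast h
    rw [ZMod.natCast_eq_zero_iff] at h3
    have := Nat.le_of_dvd (by norm_num) h3
    omega
  · ext y
    have h3 : lin ρ hE r (e.symm H36.M12.gt) (Additive.ofMul y) = Additive.ofMul y := by
      have h4 : lin ρ hE r (e.symm H36.M12.gt) = 1 := h0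
      rw [h4]
      rfl
    exact congrArg (fun z : Additive E => (z.toMul : Λ)) h3

end

/-- **characteristic at least five** -/
theorem chief_five {X : Type v} [Group X] [Finite X] [hsim : IsSimpleGroup X] (e : X ≃* Spor.M12)
    (hc : Nat.card X = 95040) (h2 : Nat.card {g : X // g ^ 2 = 1 ∧ g ≠ 1} ≤ 7128)
    (hg2 : ∀ g : X, g ^ 2 ≠ 1 → ∃ h, _root_.Subgroup.closure {g, h * g * h⁻¹} = ⊤)
    (hg3 : ∀ g : X, g ≠ 1 → ∃ h k, _root_.Subgroup.closure {g, h * g * h⁻¹, k * g * k⁻¹} = ⊤)
    {Λ : Type u} [CommGroup Λ] [Finite Λ] (ρ : X →* MulAut Λ)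
    (hst : ∀ x : Λ, x ≠ 1 → ∃ T : Subgroup X, (∀ g, g ∈ T ↔ ρ g x = x) ∧ T ≠ ⊤ ∧
      Nat.card X < 2 * (Nat.card T * Nat.card (ConjClasses T)))
    {r : ℕ} (hr : r.Prime) (h5 : 5 ≤ r) (x : Λ) (hx : x ^ r = 1) : x = 1 := by
  by_contra hx1
  have hrF : Fact r.Prime := ⟨hr⟩
  let E : Subgroup Λ := (powMonoidHom r : Λ →* Λ).ker
  have hEm : ∀ y, y ∈ E ↔ y ^ r = 1 := fun y => MonoidHom.mem_ker
  have hE : ∀ g, ∀ y ∈ E, ρ g y ∈ E := by
    intro g y hy
    rw [hEm] at hy ⊢
    rw [← map_pow, hy, map_one]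
  have hst' : ∀ x : Λ, x ≠ 1 → ∃ T : Subgroup X, (∀ g, g ∈ T ↔ ρ g x = x) ∧ T ≠ ⊤ ∧ 218 ≤ Nat.card T := by
    intro x hx
    obtain ⟨T, h1, h3, h4⟩ := hst x hx
    refine ⟨T, h1, h3, ?_⟩
    by_contra hlt
    have h6 : Nat.card T ≤ 217 := by omega
    have h7 : Nat.card (ConjClasses T) ≤ 217 :=
      (Nat.card_le_card_of_surjective (ConjClasses.mk : T → ConjClasses T) ConjClasses.mk_surjective).trans h6
    have h8 := Nat.mul_le_mul h6 h7
    rw [hc] at h4
    omega
  have hp : IsPGroup r E := fun y => ⟨1, Subtype.ext (by rw [pow_one, coe_pow]; exact (hEm _).1 y.2)⟩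
  obtain ⟨n, hn⟩ := IsPGroup.iff_card.1 hp
  have h7 : 7 ≤ n := by
    refine seven_le ρ e hE h5 (AddCommGroup.zmodModule fun y => ?_) hn fun h0 => ?_
    · have h1 : (y.toMul) ^ r = 1 := Subtype.ext (by rw [coe_pow]; exact (hEm _).1 y.toMul.2)
      exact congrArg Additive.ofMul h1
    · -- the kernel of the action on `E`
      let K : Subgroup X := (restr ρ hE).ker
      have hK : e.symm H36.M12.gt ∈ K := MonoidHom.mem_ker.2 h0
      rcases hsim.eq_bot_or_eq_top_of_normal K inferInstance with h3 | h3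
      · rw [h3, mem_bot] at hK
        apply H36.M12.t_ne_one
        rw [← e.apply_symm_apply H36.M12.gt, hK, map_one]
      · obtain ⟨T, hT, hT1, -⟩ := hst x hx1
        refine hT1 (eq_top_iff.2 fun g _ => (hT g).2 ?_)
        have h4 : g ∈ K := by rw [h3]; exact mem_top g
        rw [MonoidHom.mem_ker] at h4
        have h6 := DFunLike.congr_fun h4 (⟨x, (hEm x).2 hx⟩ : E)
        exact congrArg Subtype.val h6
  exact count hc h2 hg2 hg3 hst' hE hr h5 hn h7

end Cfsg.Agent.H394.S8
end

-- part: H881/MF/Chief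
section
/-!
# The chief factor row of `M₁₂` (helper881, with helper394)

`chief : Chief 2 D X` for `X` simple of order 95040, any `D`.
-/

set_option autoImplicit false

namespace Cfsg.Agent.H881.MF

open Cfsg

universe u v

theorem iso_spor {X : Type v} [Group X] [Finite X] (hX : Cfsg.IsM12 X) : Nonempty (X ≃* Spor.M12) := by
  obtain ⟨e⟩ := iso_X hX
  obtain ⟨e'⟩ := iso_M
  exact ⟨e.trans e'.symm⟩

/-- a `p`-group acting on an abelian group with elements of order `p` fixes one of them -/
theorem exists_fixed {X : Type v} [Group X] [Finite X] {Λ : Type u} [CommGroup Λ] [Finite Λ] (ρ : X →* MulAut Λ)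
    {p : ℕ} [Fact p.Prime] (Q : Sylow p X) {y : Λ} (hy : y ^ p = 1) (hy1 : y ≠ 1) :
    ∃ b : Λ, b ≠ 1 ∧ ∀ q ∈ (Q : Subgroup X), ρ q b = b := by
  let E : Subgroup Λ := (powMonoidHom p : Λ →* Λ).ker
  have hE : ∀ {z : Λ}, z ∈ E ↔ z ^ p = 1 := Iff.rfl
  let act : MulAction (Q : Subgroup X) E :=
    { smul := fun q z => ⟨ρ q z, by rw [hE, ← map_pow, hE.1 z.2, map_one]⟩
      one_smul := fun z => Subtype.ext (by
        show ρ ((1 : (Q : Subgroup X)) : X) (z : Λ) = z
        rw [Subgroup.coe_one, map_one]; rfl)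
      mul_smul := fun a b z => Subtype.ext (by
        show ρ ((a * b : (Q : Subgroup X)) : X) (z : Λ) = ρ a (ρ b z)
        rw [Subgroup.coe_mul, map_mul]; rfl) }
  have hd : p ∣ Nat.card E := by
    have h1 : orderOf (⟨y, hE.2 hy⟩ : E) = p :=
      orderOf_eq_prime (Subtype.ext hy) fun h => hy1 (congrArg Subtype.val h)
    rw [← h1]
    exact orderOf_dvd_natCard _
  have h1 : (1 : E) ∈ MulAction.fixedPoints (Q : Subgroup X) E := fun q => Subtype.ext (map_one _)
  obtain ⟨b, hb, hne⟩ := Q.2.exists_fixed_point_of_prime_dvd_card_of_fixed_point E hd h1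
  refine ⟨b, fun h => hne (Subtype.ext h.symm), fun q hq => ?_⟩
  exact congrArg Subtype.val (hb ⟨q, hq⟩)

/-- **The chief factor row of `M₁₂`.** -/
theorem chief {X : Type v} [Group X] [Finite X] (hX : Cfsg.IsM12 X) (D : Set ℕ) :
    Cfsg.Agent.H704.S8.Chief.{u} 2 D X := by
  intro Λ _ _ ρ hst x
  by_contra hx
  obtain ⟨e⟩ := iso_spor hX
  have := hX.1
  have ho : orderOf x ≠ 1 := fun h => hx (orderOf_eq_one_iff.1 h)
  obtain ⟨r, hr, hdvd⟩ := Nat.exists_prime_and_dvd ho
  obtain ⟨m, hm⟩ := hdvd
  have hpos : 0 < orderOf x := orderOf_pos x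
  have hm0 : m ≠ 0 := by rintro rfl; omega
  have hy : (x ^ m) ^ r = 1 := by rw [← pow_mul, mul_comm, ← hm, pow_orderOf_eq_one]
  have hy1 : x ^ m ≠ 1 := by
    intro h
    have h1 := orderOf_dvd_of_pow_eq_one h
    rw [hm] at h1
    have h2 := Nat.le_of_dvd (Nat.pos_of_ne_zero hm0) h1
    have h3 := hr.two_le
    have h4 : 2 * m ≤ r * m := Nat.mul_le_mul_right _ h3
    omega
  have hst' : ∀ x : Λ, x ≠ 1 → ∃ T : Subgroup X, (∀ g, g ∈ T ↔ ρ g x = x) ∧ T ≠ ⊤ ∧
      Nat.card X < 2 * (Nat.card T * Nat.card (ConjClasses T)) := by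
    intro x hx
    obtain ⟨T, h1, h2, h3, -⟩ := hst x hx
    exact ⟨T, h1, h2, h3⟩
  by_cases h5 : 5 ≤ r
  · exact hy1 (Cfsg.Agent.H394.S8.chief_five e hX.2 (card_invol hX) (fun g => gen_two hX g) (fun g => gen_three hX g)
      ρ hst' hr h5 _ hy)
  have hr23 : r = 2 ∨ r = 3 := by
    have h2 := hr.two_le
    have h4 : r ≠ 4 := by rintro rfl; exact absurd hr (by norm_num)
    omega
  rcases hr23 with rfl | rfl
  · have : Fact (Nat.Prime 2) := ⟨Nat.prime_two⟩
    obtain ⟨Q⟩ : Nonempty (Sylow 2 X) := inferInstance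
    obtain ⟨b, hb, hfix⟩ := exists_fixed ρ Q hy hy1
    obtain ⟨T, h1, h2, h3⟩ := hst' b hb
    have h4 := big_two hX T h2 Q fun q hq => (h1 q).2 (hfix q hq)
    rw [hX.2] at h3
    omega
  · have : Fact (Nat.Prime 3) := ⟨Nat.prime_three⟩
    obtain ⟨Q⟩ : Nonempty (Sylow 3 X) := inferInstance
    obtain ⟨b, hb, hfix⟩ := exists_fixed ρ Q hy hy1
    obtain ⟨T, h1, h2, h3⟩ := hst' b hb
    have h4 := big_three hX T h2 Q fun q hq => (h1 q).2 (hfix q hq)
    rw [hX.2] at h3
    omega

end Cfsg.Agent.H881.MF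
end
end
end
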